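import Cfsg.Agent.Base

/-! Non-abelian simple groups: homomorphisms to abelian groups, actions, embeddings in
alternating groups. -/

set_option autoImplicit false

namespace CL.Small

open MulAction Subgroup

variable {G : Type*} [Group G]

/-- A homomorphism out of a simple group is injective or trivial. -/
theorem hom_injective_or_eq_one [IsSimpleGroup G] {H : Type*} [Group H] (f : G →* H) :
    Function.Injective f ∨ ∀ g, f g = 1 := by
  rcases (MonoidHom.normal_ker f).eq_bot_or_eq_top with h | h
  · exact Or.inl ((MonoidHom.ker_eq_bot_iff f).mp h)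
  · exact Or.inr fun g => (MonoidHom.mem_ker).mp (h ▸ mem_top g)

/-- A homomorphism from a non-abelian simple group to an abelian group is trivial. -/
theorem hom_eq_one_of_comm [IsSimpleGroup G] (hG : ¬ IsMulCommutative G) {H : Type*} [Group H]
    [IsMulCommutative H] (f : G →* H) (g : G) : f g = 1 := by
  rcases hom_injective_or_eq_one f with h | h
  · exact absurd ⟨⟨fun a b => h (by rw [map_mul, map_mul, mul_comm' (f a)])⟩⟩ hG
  · exact h g

theorem commutator_eq_top_of_simple [IsSimpleGroup G] (hG : ¬ IsMulCommutative G) :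
    commutator G = ⊤ := by
  rw [eq_top_iff]
  intro g _
  exact (QuotientGroup.eq_one_iff g).mp
    (hom_eq_one_of_comm hG (Abelianization.of : G →* Abelianization G) g)

theorem center_eq_bot_of_simple [IsSimpleGroup G] (hG : ¬ IsMulCommutative G) :
    center G = ⊥ := by
  rcases (inferInstance : (center G).Normal).eq_bot_or_eq_top with h | h
  · exact h
  · exact absurd ⟨⟨fun a b => (mem_center_iff.mp (h ▸ mem_top b) a)⟩⟩ hG

/-- A simple group whose order is not prime is non-abelian. -/
theorem not_comm_of_simple_of_not_prime [IsSimpleGroup G] (h : ¬ (Nat.card G).Prime) :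
    ¬ IsMulCommutative G := fun hc => by
  let : CommGroup G := { (inferInstance : Group G) with mul_comm := hc.is_comm.comm }
  exact h IsSimpleGroup.prime_card

theorem not_comm_of_simple_of_not_cyclic [IsSimpleGroup G] (h : ¬ IsCyclic G) :
    ¬ IsMulCommutative G := fun hc => by
  let : CommGroup G := { (inferInstance : Group G) with mul_comm := hc.is_comm.comm }
  exact h IsSimpleGroup.isCyclic

/-- An action of a simple group moving some point is faithful. -/
theorem toPermHom_injective_of_simple [IsSimpleGroup G] {X : Type*} [MulAction G X]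
    (h : ∃ (g : G) (x : X), g • x ≠ x) : Function.Injective (toPermHom G X) := by
  rcases hom_injective_or_eq_one (toPermHom G X) with h1 | h1
  · exact h1
  · obtain ⟨g, x, hx⟩ := h
    exact absurd (by simpa using congrArg (fun σ : Equiv.Perm X => σ x) (h1 g)) hx

/-- A non-abelian simple group acts by even permutations. -/
theorem sign_hom_eq_one [IsSimpleGroup G] (hG : ¬ IsMulCommutative G) {X : Type*} [Fintype X]
    [DecidableEq X] (f : G →* Equiv.Perm X) (g : G) : Equiv.Perm.sign (f g) = 1 :=
  hom_eq_one_of_comm hG (Equiv.Perm.sign.comp f) g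

theorem exists_smul_ne_quotient {H : Subgroup G} (hH : H ≠ ⊤) :
    ∃ (g : G) (x : G ⧸ H), g • x ≠ x := by
  obtain ⟨g, hg⟩ : ∃ g, g ∉ H := by
    by_contra hc
    push Not at hc
    exact hH (eq_top_iff.mpr fun g _ => hc g)
  refine ⟨g, ((1 : G) : G ⧸ H), fun h => hg ?_⟩
  have : g ∈ stabilizer G ((1 : G) : G ⧸ H) := h
  rwa [stabilizer_quotient] at this

/-- A non-abelian simple group acting non-trivially on `X` embeds in the alternating group of
any finite type equivalent to `X`. -/
theorem exists_embedding_alternating [IsSimpleGroup G] (hG : ¬ IsMulCommutative G) {X Y : Type*}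
    [MulAction G X] (h : ∃ (g : G) (x : X), g • x ≠ x) [Fintype Y] [DecidableEq Y] (e : X ≃ Y) :
    ∃ f : G →* alternatingGroup Y, Function.Injective f ∧
      ∀ g x, ((f g : alternatingGroup Y) : Equiv.Perm Y) (e x) = e (g • x) := by
  let f0 : G →* Equiv.Perm Y := (e.permCongrHom.toMonoidHom).comp (toPermHom G X)
  refine ⟨f0.codRestrict _ fun g => Equiv.Perm.mem_alternatingGroup.mpr (sign_hom_eq_one hG f0 g),
    ?_, ?_⟩
  · intro a b hab
    have : f0 a = f0 b := congrArg Subtype.val hab
    exact toPermHom_injective_of_simple h (e.permCongrHom.injective this)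
  · intro g x
    simp [f0]

/-- The order of a non-abelian simple group acting non-trivially on `n` points divides `n! / 2`. -/
theorem two_mul_card_dvd_factorial_of_action [IsSimpleGroup G] (hG : ¬ IsMulCommutative G)
    {X : Type*} [Finite X] [MulAction G X] (h : ∃ (g : G) (x : X), g • x ≠ x) :
    2 * Nat.card G ∣ (Nat.card X).factorial := by
  classical
  have := Fintype.ofFinite X
  obtain ⟨f, hf, -⟩ := exists_embedding_alternating hG h (Equiv.refl X)
  obtain ⟨g, x, hx⟩ := h
  have : Nontrivial X := ⟨⟨_, _, hx⟩⟩
  have h1 := two_mul_nat_card_alternatingGroup (α := X)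
  rw [Nat.card_perm] at h1
  rw [← h1]
  exact Nat.mul_dvd_mul_left 2 (card_dvd_of_injective f hf)

/-- The order of a non-abelian simple group with a proper subgroup of index `n` divides
`n! / 2`. -/
theorem two_mul_card_dvd_factorial_index [Finite G] [IsSimpleGroup G]
    (hG : ¬ IsMulCommutative G) {H : Subgroup G} (hH : H ≠ ⊤) :
    2 * Nat.card G ∣ H.index.factorial :=
  two_mul_card_dvd_factorial_of_action hG (exists_smul_ne_quotient hH)

/-- In a simple group whose order is not a power of `p`, a non-trivial `p`-subgroup is not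
normal. -/
theorem normalizer_ne_top_of_simple [IsSimpleGroup G] {H : Subgroup G} (h1 : H ≠ ⊥) (h2 : H ≠ ⊤) :
    normalizer (H : Set G) ≠ ⊤ := fun h => by
  rcases (normalizer_eq_top_iff.mp h).eq_bot_or_eq_top with h3 | h3
  exacts [h1 h3, h2 h3]

/-- A non-abelian finite simple group is not a `p`-group. -/
theorem not_isPGroup_of_simple [Finite G] [IsSimpleGroup G] (hG : ¬ IsMulCommutative G) {p : ℕ}
    [Fact p.Prime] : ¬ IsPGroup p G := fun h => by
  have := h.center_nontrivial
  rw [center_eq_bot_of_simple hG] at this
  exact not_nontrivial _ this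

theorem pSubgroup_ne_top_of_simple [Finite G] [IsSimpleGroup G] (hG : ¬ IsMulCommutative G)
    {p : ℕ} [Fact p.Prime] {P : Subgroup G} (hP : IsPGroup p P) : P ≠ ⊤ := fun h => by
  subst h
  exact not_isPGroup_of_simple hG (hP.of_equiv topEquiv)

/-- In a non-abelian finite simple group the normaliser of a non-trivial `p`-subgroup is proper. -/
theorem normalizer_pSubgroup_ne_top [Finite G] [IsSimpleGroup G] (hG : ¬ IsMulCommutative G)
    {p : ℕ} [Fact p.Prime] {P : Subgroup G} (hP : IsPGroup p P) (h1 : P ≠ ⊥) :
    normalizer (P : Set G) ≠ ⊤ :=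
  normalizer_ne_top_of_simple h1 (pSubgroup_ne_top_of_simple hG hP)

theorem sylow_normalizer_ne_top [Finite G] [IsSimpleGroup G] (hG : ¬ IsMulCommutative G)
    {p : ℕ} [Fact p.Prime] (hp : p ∣ Nat.card G) (P : Sylow p G) :
    normalizer (P : Set G) ≠ ⊤ :=
  normalizer_pSubgroup_ne_top hG P.isPGroup' (P.ne_bot_of_dvd_card hp)

theorem one_lt_card_sylow [Finite G] [IsSimpleGroup G] (hG : ¬ IsMulCommutative G)
    {p : ℕ} [Fact p.Prime] (hp : p ∣ Nat.card G) : 1 < Nat.card (Sylow p G) := by
  obtain ⟨P⟩ : Nonempty (Sylow p G) := inferInstance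
  rw [P.card_eq_index_normalizer]
  exact one_lt_index_of_ne_top (sylow_normalizer_ne_top hG hp P)

theorem two_mul_card_dvd_factorial_card_sylow [Finite G] [IsSimpleGroup G]
    (hG : ¬ IsMulCommutative G) {p : ℕ} [Fact p.Prime] (hp : p ∣ Nat.card G) :
    2 * Nat.card G ∣ (Nat.card (Sylow p G)).factorial := by
  obtain ⟨P⟩ : Nonempty (Sylow p G) := inferInstance
  rw [P.card_eq_index_normalizer]
  exact two_mul_card_dvd_factorial_index hG (sylow_normalizer_ne_top hG hp P)

/-- Burnside's transfer theorem in a non-abelian simple group: a non-trivial Sylow subgroup is not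
central in its normaliser. -/
theorem not_normalizer_le_centralizer_of_simple [Finite G] [IsSimpleGroup G]
    (hG : ¬ IsMulCommutative G) {p : ℕ} [Fact p.Prime] (hp : p ∣ Nat.card G) (P : Sylow p G) :
    ¬ normalizer (P : Set G) ≤ centralizer (P : Set G) := fun h => by
  have hc := MonoidHom.ker_transferSylow_isComplement' P h
  rcases (MonoidHom.normal_ker (MonoidHom.transferSylow P h)).eq_bot_or_eq_top with h1 | h1
  · rw [h1] at hc
    exact pSubgroup_ne_top_of_simple hG P.isPGroup' (isComplement'_bot_left.mp hc)
  · rw [h1] at hc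
    exact P.ne_bot_of_dvd_card hp (isComplement'_top_left.mp hc)

/-- The same for perfect groups. -/
theorem not_normalizer_le_centralizer_of_perfect [Finite G] (hG : commutator G = ⊤)
    {p : ℕ} [Fact p.Prime] (hp : p ∣ Nat.card G) (P : Sylow p G) :
    ¬ normalizer (P : Set G) ≤ centralizer (P : Set G) := fun h => by
  have hc := MonoidHom.ker_transferSylow_isComplement' P h
  have : IsMulCommutative (P : Subgroup G) :=
    ⟨⟨fun a b => Subtype.ext (h (le_normalizer b.2) a a.2)⟩⟩
  have h1 : (MonoidHom.transferSylow P h).ker = ⊤ := by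
    rw [eq_top_iff, ← hG, commutator_def, commutator_le]
    intro a _ b _
    rw [MonoidHom.mem_ker, map_commutatorElement, commutatorElement_eq_one_iff_mul_comm]
    exact mul_comm' _ _
  rw [h1] at hc
  exact P.ne_bot_of_dvd_card hp (isComplement'_top_left.mp hc)

end CL.Small
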