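import Cfsg.Agent.Base

/-!
Recognition of `PSL(2,F)` from a faithful action on the projective line `OnePoint F`.
-/

set_option autoImplicit false

namespace CL.PSL2Rec

open OnePoint MulAction
open scoped MatrixGroups

variable {F : Type*} [Field F] [DecidableEq F]

/-- The Möbius action of `SL(2,F)` on `OnePoint F` as a homomorphism to permutations. -/
noncomputable def mob (F : Type*) [Field F] [DecidableEq F] : SL(2, F) →* Equiv.Perm (OnePoint F) :=
  (MulAction.toPermHom (GL (Fin 2) F) (OnePoint F)).comp Matrix.SpecialLinearGroup.toGL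

lemma mob_infty (m : SL(2, F)) :
    mob F m ∞ = if m 1 0 = 0 then ∞ else ((m 0 0 / m 1 0 : F) : OnePoint F) := by
  exact OnePoint.smul_infty_eq_ite (Matrix.SpecialLinearGroup.toGL m)

lemma mob_coe (m : SL(2, F)) (k : F) :
    mob F m (k : OnePoint F) = if m 1 0 * k + m 1 1 = 0 then ∞ else
      (((m 0 0 * k + m 0 1) / (m 1 0 * k + m 1 1) : F) : OnePoint F) := by
  exact OnePoint.smul_some_eq_ite (g := Matrix.SpecialLinearGroup.toGL m)

lemma mob_ker : (mob F).ker = Subgroup.center SL(2, F) := by
  ext m
  rw [MonoidHom.mem_ker, Matrix.SpecialLinearGroup.mem_center_iff]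
  have hdet : m 0 0 * m 1 1 - m 0 1 * m 1 0 = 1 := by
    have := m.det_coe
    rwa [Matrix.det_fin_two] at this
  constructor
  · intro h
    have h1 := mob_infty m
    have h2 := mob_coe m 0
    have h3 := mob_coe m 1
    rw [h] at h1 h2 h3
    simp only [Equiv.Perm.coe_one, id_eq] at h1 h2 h3
    have h10 : m 1 0 = 0 := by
      by_contra hne
      simp [hne] at h1
    have h11 : m 1 1 ≠ 0 := by
      intro h0
      simp [h10, h0] at hdet
    have h01 : m 0 1 = 0 := by
      simp [h10, h11] at h2
      rcases h2 with h2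
      have := h2.symm
      simpa [h11] using this
    have h00 : m 0 0 = m 1 1 := by
      simp [h10, h11, h01] at h3
      field_simp at h3
      exact h3.symm
    refine ⟨m 1 1, ?_, ?_⟩
    · rw [h10, h00] at hdet
      simpa [pow_two] using hdet
    · ext i j
      fin_cases i <;> fin_cases j <;> simp [h10, h01, h00]
  · rintro ⟨r, hr, hm⟩
    have h10 : m 1 0 = 0 := by rw [← hm]; simp
    have h01 : m 0 1 = 0 := by rw [← hm]; simp
    have h00 : m 0 0 = r := by rw [← hm]; simp
    have h11 : m 1 1 = r := by rw [← hm]; simp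
    have hr0 : r ≠ 0 := by
      rintro rfl
      simp at hr
    ext x
    induction x using OnePoint.rec with
    | infty => simp [mob_infty, h10]
    | coe k => simp [mob_coe, h10, h01, h00, h11, hr0]

/-- The affine matrix `[[a, b/a], [0, 1/a]]`, acting as `x ↦ a² x + b`. -/
def affM (a b : F) (ha : a ≠ 0) : SL(2, F) :=
  ⟨!![a, b / a; 0, a⁻¹], by simp [Matrix.det_fin_two, ha]⟩

lemma mob_affM_infty (a b : F) (ha : a ≠ 0) : mob F (affM a b ha) ∞ = ∞ := by
  rw [mob_infty]; simp [affM]

lemma mob_affM_coe (a b : F) (ha : a ≠ 0) (x : F) :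
    mob F (affM a b ha) (x : OnePoint F) = ((a ^ 2 * x + b : F) : OnePoint F) := by
  rw [mob_coe]; simp [affM, ha]
  field_simp

/-- The matrix `[[0, -1], [1, 0]]`, acting as `x ↦ -1/x`. -/
def weylM (F : Type*) [Field F] : SL(2, F) :=
  ⟨!![0, -1; 1, 0], by simp [Matrix.det_fin_two]⟩

lemma mob_weylM_infty : mob F (weylM F) ∞ = ((0 : F) : OnePoint F) := by
  rw [mob_infty]; simp [weylM]

lemma mob_weylM_zero : mob F (weylM F) ((0 : F) : OnePoint F) = ∞ := by
  rw [mob_coe]; simp [weylM]

lemma mob_weylM_coe (x : F) (hx : x ≠ 0) :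
    mob F (weylM F) (x : OnePoint F) = ((-x⁻¹ : F) : OnePoint F) := by
  rw [mob_coe]; simp [weylM, hx, neg_div]

variable {G : Type*} [Group G] [MulAction G (OnePoint F)]

/-- **Recognition, algebraic step.** A group acting faithfully on the projective line whose
point stabiliser of `∞` consists of maps `x ↦ a² x + b`, which contains all translations and the
map `x ↦ -1/x`, is `PSL(2,F)`. -/
theorem equiv_of_weyl [FaithfulSMul G (OnePoint F)]
    (hfix : ∀ g : G, g • (∞ : OnePoint F) = ∞ →
      ∃ a b : F, a ≠ 0 ∧ ∀ x : F, g • (x : OnePoint F) = ((a ^ 2 * x + b : F) : OnePoint F))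
    (htr : ∀ b : F, ∃ g : G, g • (∞ : OnePoint F) = ∞ ∧
      ∀ x : F, g • (x : OnePoint F) = ((x + b : F) : OnePoint F))
    (w : G) (hw1 : w • (∞ : OnePoint F) = ((0 : F) : OnePoint F))
    (hw2 : w • ((0 : F) : OnePoint F) = ∞)
    (hw3 : ∀ x : F, x ≠ 0 → w • (x : OnePoint F) = ((-x⁻¹ : F) : OnePoint F)) :
    Nonempty (G ≃* PSL(2, F)) := by
  set φ := MulAction.toPermHom G (OnePoint F) with hφ
  have hφinj : Function.Injective φ := MulAction.toPerm_injective
  have hwφ : φ w = mob F (weylM F) := by
    ext x
    induction x using OnePoint.rec with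
    | infty => simp [hφ, hw1, mob_weylM_infty]
    | coe k =>
      by_cases hk : k = 0
      · subst hk; simp [hφ, hw2, mob_weylM_zero]
      · simp [hφ, hw3 k hk, mob_weylM_coe k hk]
  have htrφ : ∀ b : F, ∃ g : G, φ g = mob F (affM 1 b one_ne_zero) := by
    intro b
    obtain ⟨g, hg1, hg2⟩ := htr b
    refine ⟨g, ?_⟩
    ext x
    induction x using OnePoint.rec with
    | infty => simp [hφ, hg1, mob_affM_infty]
    | coe k => simp [hφ, hg2, mob_affM_coe]
  have hfixφ : ∀ g : G, g • (∞ : OnePoint F) = ∞ → φ g ∈ (mob F).range := by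
    intro g hg
    obtain ⟨a, b, ha, hab⟩ := hfix g hg
    refine ⟨affM a b ha, ?_⟩
    ext x
    induction x using OnePoint.rec with
    | infty => simp [hφ, hg, mob_affM_infty]
    | coe k => simp [hφ, hab, mob_affM_coe]
  have hrange : φ.range = (mob F).range := by
    apply le_antisymm
    · rintro _ ⟨g, rfl⟩
      cases hg : g • (∞ : OnePoint F) with
      | infty => exact hfixφ g hg
      | coe c =>
        obtain ⟨u, hu1, hu2⟩ := htr (-c)
        have h1 : (w * u * g) • (∞ : OnePoint F) = ∞ := by
          rw [mul_smul, mul_smul, hg, hu2, add_neg_cancel, hw2]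
        have h2 := hfixφ _ h1
        have h3 := hfixφ _ hu1
        have h4 : φ w ∈ (mob F).range := ⟨_, hwφ.symm⟩
        have : φ g = (φ u)⁻¹ * (φ w)⁻¹ * φ (w * u * g) := by
          simp [map_mul, mul_assoc]
        rw [this]
        exact mul_mem (mul_mem (inv_mem h3) (inv_mem h4)) h2
    · rintro _ ⟨m, rfl⟩
      refine Matrix.SL2.transvection_induction
        (fun m => mob F m ∈ φ.range) ?_ ?_ m
      · intro i j hij c
        have hup : ∀ c : F, mob F (affM 1 c one_ne_zero) ∈ φ.range := fun c => by
          obtain ⟨g, hg⟩ := htrφ c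
          exact ⟨g, hg⟩
        have hw : mob F (weylM F) ∈ φ.range := ⟨w, hwφ⟩
        fin_cases i <;> fin_cases j
        · exact absurd rfl hij
        · convert hup c using 2
          ext i j
          fin_cases i <;> fin_cases j <;>
            simp [affM, Matrix.SpecialLinearGroup.transvection_coe]
        · have : (Matrix.SpecialLinearGroup.transvection hij c : SL(2, F)) =
              weylM F * affM 1 (-c) one_ne_zero * (weylM F)⁻¹ := by
            rw [eq_mul_inv_iff_mul_eq]
            ext i j
            rw [Matrix.SpecialLinearGroup.coe_mul, Matrix.SpecialLinearGroup.coe_mul,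
              Matrix.SpecialLinearGroup.transvection_coe]
            fin_cases i <;> fin_cases j <;>
              simp [affM, weylM, Matrix.mul_apply, Fin.sum_univ_two]
          simp only [this, map_mul, map_inv]
          exact mul_mem (mul_mem hw (hup _)) (inv_mem hw)
        · exact absurd rfl hij
      · intro A B hA hB
        rw [map_mul]
        exact mul_mem hA hB
  have e1 : G ≃* φ.range := MonoidHom.ofInjective hφinj
  have e2 : SL(2, F) ⧸ (mob F).ker ≃* (mob F).range := QuotientGroup.quotientKerEquivRange _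
  have e3 : PSL(2, F) ≃* SL(2, F) ⧸ (mob F).ker :=
    QuotientGroup.quotientMulEquivOfEq mob_ker.symm
  exact ⟨(e1.trans (MulEquiv.subgroupCongr hrange)).trans (e3.trans e2).symm⟩

end CL.PSL2Rec
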