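import Cfsg.Agent.Base
import Cfsg.Agent.Small.PSL2Rec

/-!
Frobenius' argument: a group acting faithfully and transitively on the projective line over a
finite field of odd order, whose point stabiliser is the group of maps `x ↦ a² x + b`, contains
`x ↦ -1/x` (for `q ≡ 3 mod 4` under an extra hypothesis, e.g. perfectness), so it is `PSL(2,F)`.
-/

set_option autoImplicit false

namespace CL.PSL2Rec

open OnePoint MulAction
open scoped MatrixGroups

variable {F : Type*} [Field F] [DecidableEq F]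
variable {G : Type*} [Group G] [MulAction G (OnePoint F)]

/-- The standing hypotheses: the stabiliser of `∞` is the group of maps `x ↦ a² x + b`, and `∞`
is moved by some element. -/
structure IsAff (G : Type*) (F : Type*) [Field F] [Group G] [MulAction G (OnePoint F)] : Prop where
  fix : ∀ g : G, g • (∞ : OnePoint F) = ∞ →
    ∃ a b : F, a ≠ 0 ∧ ∀ x : F, g • (x : OnePoint F) = ((a ^ 2 * x + b : F) : OnePoint F)
  aff : ∀ a b : F, a ≠ 0 → ∃ g : G, g • (∞ : OnePoint F) = ∞ ∧
    ∀ x : F, g • (x : OnePoint F) = ((a ^ 2 * x + b : F) : OnePoint F)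
  move : ∃ g : G, g • (∞ : OnePoint F) ≠ ∞

namespace IsAff

omit [DecidableEq F]

lemma tr (h : IsAff G F) (b : F) : ∃ g : G, g • (∞ : OnePoint F) = ∞ ∧
    ∀ x : F, g • (x : OnePoint F) = ((x + b : F) : OnePoint F) := by
  simpa using h.aff 1 b one_ne_zero

lemma trans1 (h : IsAff G F) (P : OnePoint F) : ∃ g : G, g • (∞ : OnePoint F) = P := by
  induction P using OnePoint.rec with
  | infty => exact ⟨1, one_smul _ _⟩
  | coe c =>
    obtain ⟨g, hg⟩ := h.move
    obtain ⟨d, hd⟩ := OnePoint.ne_infty_iff_exists.1 hg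
    obtain ⟨u, -, hu⟩ := h.tr (c - d)
    exact ⟨u * g, by rw [mul_smul, ← hd, hu]; simp⟩

lemma trans2 (h : IsAff G F) {P Q : OnePoint F} (hPQ : P ≠ Q) :
    ∃ g : G, g • (∞ : OnePoint F) = P ∧ g • ((0 : F) : OnePoint F) = Q := by
  obtain ⟨g, hg⟩ := h.trans1 P
  have : g⁻¹ • Q ≠ ∞ := by
    intro h'
    apply hPQ
    rw [← hg, ← h', smul_inv_smul]
  obtain ⟨d, hd⟩ := OnePoint.ne_infty_iff_exists.1 this
  obtain ⟨u, hu1, hu⟩ := h.tr d
  refine ⟨g * u, by rw [mul_smul, hu1, hg], ?_⟩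
  rw [mul_smul, hu, zero_add, hd, smul_inv_smul]

lemma fix2 (h : IsAff G F) {g : G} (h1 : g • (∞ : OnePoint F) = ∞)
    (h2 : g • ((0 : F) : OnePoint F) = ((0 : F) : OnePoint F)) :
    ∃ a : F, a ≠ 0 ∧ ∀ x : F, g • (x : OnePoint F) = ((a ^ 2 * x : F) : OnePoint F) := by
  obtain ⟨a, b, ha, hab⟩ := h.fix g h1
  have hb : b = 0 := by
    have := hab 0
    rw [h2] at this
    simpa using this.symm
  exact ⟨a, ha, fun x => by simpa [hb] using hab x⟩

lemma mul (h : IsAff G F) {a : F} (ha : a ≠ 0) : ∃ g : G, g • (∞ : OnePoint F) = ∞ ∧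
    ∀ x : F, g • (x : OnePoint F) = ((a ^ 2 * x : F) : OnePoint F) := by
  simpa using h.aff a 0 ha

variable [FaithfulSMul G (OnePoint F)]

omit [Field F] in
lemma ext_inf {g g' : G} (h1 : g • (∞ : OnePoint F) = g' • ∞)
    (h2 : ∀ x : F, g • (x : OnePoint F) = g' • (x : OnePoint F)) : g = g' := by
  apply FaithfulSMul.eq_of_smul_eq_smul (α := OnePoint F)
  intro P
  induction P using OnePoint.rec with
  | infty => exact h1
  | coe c => exact h2 c

/-- Only the identity fixes three points. -/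
lemma eq_one_of_fix3 (h : IsAff G F) {g : G} {P Q R : OnePoint F} (hPQ : P ≠ Q) (hPR : P ≠ R)
    (hQR : Q ≠ R) (hP : g • P = P) (hQ : g • Q = Q) (hR : g • R = R) : g = 1 := by
  obtain ⟨k, hk1, hk2⟩ := h.trans2 hPQ
  have e1 : (k⁻¹ * g * k) • (∞ : OnePoint F) = ∞ := by
    rw [mul_smul, mul_smul, hk1, hP, ← hk1, inv_smul_smul]
  have e2 : (k⁻¹ * g * k) • ((0 : F) : OnePoint F) = ((0 : F) : OnePoint F) := by
    rw [mul_smul, mul_smul, hk2, hQ, ← hk2, inv_smul_smul]
  obtain ⟨a, ha, hx⟩ := h.fix2 e1 e2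
  have : k⁻¹ • R ≠ ∞ := by
    intro h'
    apply hPR
    rw [← hk1, ← h', smul_inv_smul]
  obtain ⟨d, hd⟩ := OnePoint.ne_infty_iff_exists.1 this
  have hd0 : d ≠ 0 := by
    rintro rfl
    apply hQR
    rw [← hk2, hd, smul_inv_smul]
  have e3 := hx d
  rw [hd, mul_smul, mul_smul, smul_inv_smul, hR, ← hd] at e3
  have ha2 : a ^ 2 = 1 := by
    have := OnePoint.coe_injective e3
    exact (mul_eq_right₀ hd0).1 this.symm
  have : k⁻¹ * g * k = 1 := ext_inf (by simpa using e1) (fun x => by simp [hx, ha2])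
  calc g = k * (k⁻¹ * g * k) * k⁻¹ := by group
    _ = 1 := by rw [this]; group

/-- Two involutions fixing the same two points are equal. -/
lemma inv_unique (h : IsAff G F) {g g' : G} {P Q : OnePoint F} (hPQ : P ≠ Q)
    (hg : g * g = 1) (hg1 : g ≠ 1) (hg' : g' * g' = 1) (hg1' : g' ≠ 1)
    (hP : g • P = P) (hQ : g • Q = Q) (hP' : g' • P = P) (hQ' : g' • Q = Q) : g = g' := by
  obtain ⟨k, hk1, hk2⟩ := h.trans2 hPQ
  have key : ∀ g : G, g * g = 1 → g ≠ 1 → g • P = P → g • Q = Q →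
      (k⁻¹ * g * k) • (∞ : OnePoint F) = ∞ ∧
        ∀ x : F, (k⁻¹ * g * k) • (x : OnePoint F) = ((-x : F) : OnePoint F) := by
    intro g hg hg1 hP hQ
    have e1 : (k⁻¹ * g * k) • (∞ : OnePoint F) = ∞ := by
      rw [mul_smul, mul_smul, hk1, hP, ← hk1, inv_smul_smul]
    have e2 : (k⁻¹ * g * k) • ((0 : F) : OnePoint F) = ((0 : F) : OnePoint F) := by
      rw [mul_smul, mul_smul, hk2, hQ, ← hk2, inv_smul_smul]
    obtain ⟨a, ha, hx⟩ := h.fix2 e1 e2
    refine ⟨e1, ?_⟩
    have hsq : (k⁻¹ * g * k) * (k⁻¹ * g * k) = 1 := by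
      calc _ = k⁻¹ * (g * g) * k := by group
        _ = 1 := by rw [hg]; group
    have e3 : ((k⁻¹ * g * k) * (k⁻¹ * g * k)) • ((1 : F) : OnePoint F) =
        ((a ^ 2 * (a ^ 2 * 1) : F) : OnePoint F) := by
      rw [mul_smul, hx, hx]
    rw [hsq, one_smul] at e3
    have e4 : (a ^ 2 - 1) * (a ^ 2 + 1) = 0 := by
      have := OnePoint.coe_injective e3
      linear_combination -this
    rcases mul_eq_zero.1 e4 with e5 | e5
    · exfalso
      have ha2 : a ^ 2 = 1 := by linear_combination e5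
      have : k⁻¹ * g * k = 1 := ext_inf (by simpa using e1) (fun x => by simp [hx, ha2])
      apply hg1
      calc g = k * (k⁻¹ * g * k) * k⁻¹ := by group
        _ = 1 := by rw [this]; group
    · have ha2 : a ^ 2 = -1 := by linear_combination e5
      intro x
      simp [hx, ha2]
  obtain ⟨a1, a2⟩ := key g hg hg1 hP hQ
  obtain ⟨b1, b2⟩ := key g' hg' hg1' hP' hQ'
  have : k⁻¹ * g * k = k⁻¹ * g' * k := ext_inf (by rw [a1, b1]) (fun x => by rw [a2, b2])
  simpa using this

/-- For `-1` a square: for every `z ≠ 0` an involution swapping `0, ∞` and fixing `± z`. -/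
lemma exists_swap_fix (h : IsAff G F) (h2 : (2 : F) ≠ 0) {i : F} (hi : i ^ 2 = -1) {z : F}
    (hz : z ≠ 0) : ∃ s : G, s * s = 1 ∧ s • (∞ : OnePoint F) = ((0 : F) : OnePoint F) ∧
      s • ((0 : F) : OnePoint F) = ∞ ∧ s • (z : OnePoint F) = z ∧
      s • ((-z : F) : OnePoint F) = ((-z : F) : OnePoint F) := by
  have hi0 : i ≠ 0 := by rintro rfl; simp at hi
  obtain ⟨σ, hσ1, hσ⟩ := h.mul hi0
  simp only [hi, neg_mul, one_mul] at hσ
  have hzz : (z : OnePoint F) ≠ ((-z : F) : OnePoint F) := by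
    intro e
    have := OnePoint.coe_injective e
    apply hz
    have : 2 * z = 0 := by linear_combination this
    simpa [h2] using this
  obtain ⟨k, hk1, hk2⟩ := h.trans2 hzz
  have hσσ : σ * σ = 1 := ext_inf (F := F) (by simp [mul_smul, hσ1]) (fun x => by simp [mul_smul, hσ])
  have hσne : σ ≠ 1 := by
    intro e
    have := hσ z
    rw [e, one_smul] at this
    exact hzz this
  set s := k * σ * k⁻¹ with hs
  have hss : s * s = 1 := by
    calc _ = k * (σ * σ) * k⁻¹ := by rw [hs]; group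
      _ = 1 := by rw [hσσ]; group
  have hsne : s ≠ 1 := by
    intro e
    apply hσne
    calc σ = k⁻¹ * s * k := by rw [hs]; group
      _ = 1 := by rw [e]; group
  have hsz : s • (z : OnePoint F) = z := by
    rw [hs, mul_smul, mul_smul, ← hk1, inv_smul_smul, hσ1]
  have hsz' : s • ((-z : F) : OnePoint F) = ((-z : F) : OnePoint F) := by
    rw [hs, mul_smul, mul_smul, ← hk2, inv_smul_smul, hσ, neg_zero]
  have hcomm : σ * s * σ = s := by
    refine h.inv_unique hzz ?_ ?_ hss hsne ?_ ?_ hsz hsz'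
    · calc _ = σ * s * (σ * σ) * s * σ := by group
        _ = σ * (s * s) * σ := by rw [hσσ]; group
        _ = 1 := by rw [hss, mul_one, hσσ]
    · intro e
      apply hsne
      calc s = (σ * σ) * s * (σ * σ) := by rw [hσσ]; group
        _ = σ * (σ * s * σ) * σ := by group
        _ = 1 := by rw [e, mul_one, hσσ]
    · rw [mul_smul, mul_smul, hσ, hsz', hσ, neg_neg]
    · rw [mul_smul, mul_smul, hσ, neg_neg, hsz, hσ]
  have h1 : s • (∞ : OnePoint F) = ((0 : F) : OnePoint F) := by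
    have e : σ • s • (∞ : OnePoint F) = s • ∞ := by
      have e0 : (σ * s * σ) • (∞ : OnePoint F) = s • ∞ := by rw [hcomm]
      rwa [mul_smul (σ * s), hσ1, mul_smul σ s] at e0
    cases hc : s • (∞ : OnePoint F) with
    | infty =>
      exact absurd (h.eq_one_of_fix3 hzz (by simp) (by simp) hsz hsz' hc) hsne
    | coe c =>
      rw [hc, hσ] at e
      have := OnePoint.coe_injective e
      have : 2 * c = 0 := by linear_combination -this
      have : c = 0 := by simpa [h2] using this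
      rw [this]
  refine ⟨s, hss, h1, ?_, hsz, hsz'⟩
  rw [← h1, ← mul_smul, hss, one_smul]

omit [FaithfulSMul G (OnePoint F)] in
/-- An element swapping `0, ∞` which inverts the two-point stabiliser satisfies
`t (a² x) = a⁻² t(x)`. -/
lemma swap_mul (h : IsAff G F) {t : G}
    (hinv : ∀ k : G, k • (∞ : OnePoint F) = ∞ →
      k • ((0 : F) : OnePoint F) = ((0 : F) : OnePoint F) → t * k * t⁻¹ = k⁻¹)
    {a x y : F} (ha : a ≠ 0) (hxy : t • (x : OnePoint F) = (y : OnePoint F)) :
    t • ((a ^ 2 * x : F) : OnePoint F) = (((a ^ 2)⁻¹ * y : F) : OnePoint F) := by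
  obtain ⟨k, hk1, hk⟩ := h.mul ha
  have e := hinv k hk1 (by simp [hk])
  have e2 : t * k = k⁻¹ * t := by rw [← e]; group
  rw [← hk, ← mul_smul, e2, mul_smul, hxy, inv_smul_eq_iff, hk]
  congr 1
  field_simp

omit [FaithfulSMul G (OnePoint F)] in
lemma swap_ne {t : G} (ht1 : t • (∞ : OnePoint F) = ((0 : F) : OnePoint F))
    (ht2 : t • ((0 : F) : OnePoint F) = ∞) {x : F} (hx : x ≠ 0) :
    ∃ y : F, y ≠ 0 ∧ t • (x : OnePoint F) = (y : OnePoint F) := by
  have : t • (x : OnePoint F) ≠ ∞ := by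
    rw [← ht2]
    intro e
    exact hx (OnePoint.coe_injective (MulAction.injective t e))
  obtain ⟨y, hy⟩ := OnePoint.ne_infty_iff_exists.1 this
  refine ⟨y, ?_, hy.symm⟩
  rintro rfl
  rw [← ht1] at hy
  exact absurd (MulAction.injective t hy) (by simp)

variable [Fintype F]

omit [MulAction G (OnePoint F)] [FaithfulSMul G (OnePoint F)] [Group G] in
lemma sq_of_nonsq [DecidableEq F] {x y : F} (hx : ¬ IsSquare x) (hy : ¬ IsSquare y) :
    ∃ a : F, a ≠ 0 ∧ y = a ^ 2 * x := by
  have hx0 : x ≠ 0 := by rintro rfl; exact hx IsSquare.zero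
  have hy0 : y ≠ 0 := by rintro rfl; exact hy IsSquare.zero
  have h1 := quadraticChar_neg_one_iff_not_isSquare.2 hx
  have h2 := quadraticChar_neg_one_iff_not_isSquare.2 hy
  have h3 : quadraticChar F (x * y) = 1 := by rw [map_mul, h1, h2]; norm_num
  obtain ⟨r, hr⟩ := (quadraticChar_one_iff_isSquare (mul_ne_zero hx0 hy0)).1 h3
  have hr0 : r ≠ 0 := by
    rintro rfl
    exact mul_ne_zero hx0 hy0 (by simpa using hr)
  refine ⟨r / x, div_ne_zero hr0 hx0, ?_⟩
  field_simp
  linear_combination hr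

omit [MulAction G (OnePoint F)] [FaithfulSMul G (OnePoint F)] [Group G] in
lemma exists_sq_nonsq [DecidableEq F] (h2 : (2 : F) ≠ 0) {i : F} (hi : i ^ 2 = -1) :
    ∃ a : F, a ≠ 0 ∧ ¬ IsSquare (1 - a ^ 2) := by
  by_contra hcon
  push Not at hcon
  -- the squares are closed under subtraction
  have hsub : ∀ x y : F, IsSquare x → IsSquare y → IsSquare (x - y) := by
    rintro _ _ ⟨x, rfl⟩ ⟨y, rfl⟩
    by_cases hx : x = 0
    · subst hx
      exact ⟨i * y, by linear_combination (-(y * y)) * hi⟩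
    by_cases hy : y = 0
    · subst hy
      exact ⟨x, by ring⟩
    obtain ⟨r, hr⟩ := hcon (y / x) (div_ne_zero hy hx)
    refine ⟨x * r, ?_⟩
    have : x * x - y * y = x ^ 2 * (1 - (y / x) ^ 2) := by field_simp
    rw [this, hr]; ring
  have hchar : ringChar F ≠ 2 := by
    intro e
    apply h2
    have := (ringChar.spec F 2).2 (by rw [e])
    exact_mod_cast this
  obtain ⟨n, hn⟩ := FiniteField.exists_nonsquare hchar
  apply hn
  have : n = ((n + 1) / 2) * ((n + 1) / 2) - ((n - 1) / 2) * ((n - 1) / 2) := by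
    field_simp; ring
  rw [this]
  exact hsub _ _ ⟨_, rfl⟩ ⟨_, rfl⟩

/-- Case `-1` a square. -/
lemma exists_weyl_of_sq [DecidableEq F] (h : IsAff G F) (h2 : (2 : F) ≠ 0) {i : F}
    (hi : i ^ 2 = -1) :
    ∃ w : G, w • (∞ : OnePoint F) = ((0 : F) : OnePoint F) ∧ w • ((0 : F) : OnePoint F) = ∞ ∧
      ∀ x : F, x ≠ 0 → w • (x : OnePoint F) = ((-x⁻¹ : F) : OnePoint F) := by
  have hi0 : i ≠ 0 := by rintro rfl; simp at hi
  obtain ⟨t, htt, ht1, ht2, ht3, ht4⟩ := h.exists_swap_fix h2 hi one_ne_zero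
  have htinv : t⁻¹ = t := inv_eq_of_mul_eq_one_right htt
  -- counting: every `k t` is an involution
  have hinv : ∀ k : G, k • (∞ : OnePoint F) = ∞ →
      k • ((0 : F) : OnePoint F) = ((0 : F) : OnePoint F) → t * k * t⁻¹ = k⁻¹ := by
    let R := {r : F // ∃ a : F, a ≠ 0 ∧ r = a ^ 2}
    have H : ∀ r : R, ∃ (z : F) (s : G) (e : R), z ≠ 0 ∧ (r : F) = z ^ 2 ∧ s * s = 1 ∧
        s • (∞ : OnePoint F) = ((0 : F) : OnePoint F) ∧
        s • (z : OnePoint F) = z ∧ s • ((-z : F) : OnePoint F) = ((-z : F) : OnePoint F) ∧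
        (s * t) • (∞ : OnePoint F) = ∞ ∧
        ∀ x : F, (s * t) • (x : OnePoint F) = ((e * x : F) : OnePoint F) := by
      rintro ⟨r, z, hz, hr⟩
      obtain ⟨s, hss, hs1, hs2, hs3, hs4⟩ := h.exists_swap_fix h2 hi hz
      have e1 : (s * t) • (∞ : OnePoint F) = ∞ := by rw [mul_smul, ht1, hs2]
      obtain ⟨a, ha, hx⟩ := h.fix2 e1 (by rw [mul_smul, ht2, hs1])
      exact ⟨z, s, ⟨a ^ 2, a, ha, rfl⟩, hz, hr, hss, hs1, hs3, hs4, e1, hx⟩
    choose z s e hz hr hss hs1 hs3 hs4 he1 he using H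
    have hinj : Function.Injective e := by
      intro r r' hrr
      have e1 : s r * t = s r' * t :=
        ext_inf (F := F) (by rw [he1, he1]) (fun x => by rw [he, he, hrr])
      have e2 : s r = s r' := mul_right_cancel e1
      have hne : s r ≠ 1 := by
        intro e3
        have := hs1 r
        rw [e3, one_smul] at this
        simp at this
      by_contra hcon
      have hcon' : z r ^ 2 ≠ z r' ^ 2 := by
        intro e4
        apply hcon
        apply Subtype.ext
        rw [hr, hr, e4]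
      apply hne
      refine h.eq_one_of_fix3 (P := z r) (Q := ((-z r : F) : OnePoint F)) (R := z r') ?_ ?_ ?_
        (hs3 r) (hs4 r) (by rw [e2]; exact hs3 r')
      · intro e4
        have := OnePoint.coe_injective e4
        have : 2 * z r = 0 := by linear_combination this
        exact hz r (by simpa [h2] using this)
      · intro e4
        exact hcon' (by rw [OnePoint.coe_injective e4])
      · intro e4
        exact hcon' (by rw [← OnePoint.coe_injective e4]; ring)
    have hsurj : Function.Surjective e := Finite.injective_iff_surjective.1 hinj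
    intro k hk1 hk2
    obtain ⟨a, ha, hx⟩ := h.fix2 hk1 hk2
    obtain ⟨r, hr'⟩ := hsurj ⟨a ^ 2, a, ha, rfl⟩
    have e1 : k = s r * t :=
      ext_inf (F := F) (by rw [he1, hk1]) (fun x => by rw [he, hx, hr'])
    have hsinv : (s r)⁻¹ = s r := inv_eq_of_mul_eq_one_right (hss r)
    rw [e1, mul_inv_rev, htinv, hsinv, mul_assoc, mul_assoc, htt, mul_one]
  have hR : ∀ a : F, a ≠ 0 → t • ((a ^ 2 : F) : OnePoint F) = (((a ^ 2)⁻¹ : F) : OnePoint F) := by
    intro a ha
    simpa using h.swap_mul hinv ha ht3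
  obtain ⟨a, ha, hna⟩ := exists_sq_nonsq h2 hi
  set n := 1 - a ^ 2 with hn
  have hn0 : n ≠ 0 := by
    intro e
    rw [e] at hna
    exact hna IsSquare.zero
  obtain ⟨m, hm0, hm⟩ := swap_ne ht1 ht2 hn0
  have hN : ∀ y : F, ¬ IsSquare y → t • (y : OnePoint F) = ((n * m * y⁻¹ : F) : OnePoint F) := by
    intro y hy
    obtain ⟨b, hb, rfl⟩ := sq_of_nonsq hna hy
    rw [h.swap_mul hinv hb hm]
    congr 1
    field_simp
  -- the element of order three
  obtain ⟨β, hβ1, hβ⟩ := h.aff i 1 hi0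
  simp only [hi, neg_mul, one_mul] at hβ
  have hββ : β * β = 1 := ext_inf (F := F) (by simp [mul_smul, hβ1])
    (fun x => by simp [mul_smul, hβ])
  have h3 : (β * t) * (β * t) * (β * t) = 1 := by
    refine h.eq_one_of_fix3 (P := ∞) (Q := ((0 : F) : OnePoint F)) (R := ((1 : F) : OnePoint F))
      (by simp) (by simp) (by simp) ?_ ?_ ?_
    all_goals simp [mul_smul, ht1, ht2, ht3, hβ1, hβ]
  have h4 : t * β * t = β * t * β := by
    calc t * β * t = (β * β) * (t * β * t) * (β * (t * t) * β) := by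
          rw [htt, mul_one β, hββ]; group
      _ = β * ((β * t) * (β * t) * (β * t)) * t * β := by group
      _ = β * t * β := by rw [h3]; group
  have hc : n * m = 1 := by
    have e1 : (t * β * t) • ((a ^ 2 : F) : OnePoint F) = (β * t * β) • ((a ^ 2 : F) : OnePoint F) := by
      rw [h4]
    have hns : ¬ IsSquare (-(a ^ 2)⁻¹ + 1) := by
      rintro ⟨r, hr⟩
      apply hna
      refine ⟨i * a * r, ?_⟩
      have : n = -(a ^ 2) * (-(a ^ 2)⁻¹ + 1) := by rw [hn]; field_simp; ring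
      rw [this, hr]
      linear_combination (-(a ^ 2 * r * r)) * hi
    rw [mul_smul, mul_smul, hR a ha, hβ, hN _ hns, mul_smul, mul_smul, hβ,
      show -a ^ 2 + 1 = n by rw [hn]; ring, hm, hβ] at e1
    have e2 := OnePoint.coe_injective e1
    have e3 : (-(a ^ 2)⁻¹ + 1) = -n / a ^ 2 := by rw [hn]; field_simp; ring
    rw [e3] at e2
    field_simp at e2
    rw [hn]
    linear_combination e2
  obtain ⟨σ, hσ1, hσ⟩ := h.mul hi0
  simp only [hi, neg_mul, one_mul] at hσ
  refine ⟨σ * t, by simp [mul_smul, ht1, hσ], by simp [mul_smul, ht2, hσ1], fun x hx => ?_⟩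
  by_cases hsq : IsSquare x
  · obtain ⟨b, rfl⟩ := hsq
    have hb : b ≠ 0 := by rintro rfl; simp at hx
    rw [mul_smul, ← pow_two, hR b hb, hσ]
  · rw [mul_smul, hN x hsq, hσ, hc, one_mul]

/-- Case `-1` a non-square, given an element swapping `0, ∞` that inverts the two-point
stabiliser. -/
lemma exists_weyl_of_nonsq [DecidableEq F] (h : IsAff G F) (h2 : (2 : F) ≠ 0)
    (hi : ¬ IsSquare (-1 : F)) {t : G}
    (ht1 : t • (∞ : OnePoint F) = ((0 : F) : OnePoint F)) (ht2 : t • ((0 : F) : OnePoint F) = ∞)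
    (hinv : ∀ k : G, k • (∞ : OnePoint F) = ∞ →
      k • ((0 : F) : OnePoint F) = ((0 : F) : OnePoint F) → t * k * t⁻¹ = k⁻¹) :
    ∃ w : G, w • (∞ : OnePoint F) = ((0 : F) : OnePoint F) ∧ w • ((0 : F) : OnePoint F) = ∞ ∧
      ∀ x : F, x ≠ 0 → w • (x : OnePoint F) = ((-x⁻¹ : F) : OnePoint F) := by
  -- an element fixing `∞` whose square is trivial is trivial
  have hodd : ∀ k : G, k • (∞ : OnePoint F) = ∞ → k * k = 1 → k = 1 := by
    intro k hk hkk
    obtain ⟨a, b, ha, hx⟩ := h.fix k hk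
    have e : ∀ x : F, x = a ^ 2 * (a ^ 2 * x + b) + b := by
      intro x
      have : (k * k) • (x : OnePoint F) = ((a ^ 2 * (a ^ 2 * x + b) + b : F) : OnePoint F) := by
        rw [mul_smul, hx, hx]
      rw [hkk, one_smul] at this
      exact OnePoint.coe_injective this
    have e4 : (a ^ 2 - 1) * (a ^ 2 + 1) = 0 := by
      linear_combination e 0 - e 1
    rcases mul_eq_zero.1 e4 with e5 | e5
    · have ha2 : a ^ 2 = 1 := by linear_combination e5
      have hb : b = 0 := by
        have := e 0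
        rw [ha2] at this
        have : 2 * b = 0 := by linear_combination -this
        simpa [h2] using this
      exact ext_inf (F := F) (by simpa using hk) (fun x => by simp [hx, ha2, hb])
    · exact absurd ⟨a, by linear_combination -e5⟩ hi
  have htt : t * t = 1 := by
    have e1 : (t * t) • (∞ : OnePoint F) = ∞ := by rw [mul_smul, ht1, ht2]
    have e2 := hinv (t * t) e1 (by rw [mul_smul, ht2, ht1])
    apply hodd _ e1
    have : t * (t * t) * t⁻¹ = t * t := by group
    rw [this] at e2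
    nth_rewrite 1 [e2]
    group
  obtain ⟨c, hc0, hc⟩ := swap_ne ht1 ht2 (one_ne_zero (α := F))
  have hR : ∀ a : F, a ≠ 0 →
      t • ((a ^ 2 : F) : OnePoint F) = (((a ^ 2)⁻¹ * c : F) : OnePoint F) := by
    intro a ha
    simpa using h.swap_mul hinv ha hc
  have hcn : ¬ IsSquare c := by
    rintro ⟨d, hd⟩
    have hd0 : d ≠ 0 := by rintro rfl; simp [hc0] at hd
    have : ∃ a : F, a ≠ 0 ∧ c = a ^ 2 * a ^ 2 := by
      by_cases hsq : IsSquare d
      · obtain ⟨a, ha⟩ := hsq
        exact ⟨a, by rintro rfl; simp [hd0] at ha, by rw [hd, ha]; ring⟩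
      · obtain ⟨a, ha, e⟩ := sq_of_nonsq hi hsq
        exact ⟨a, ha, by rw [hd, e]; ring⟩
    obtain ⟨a, ha, e⟩ := this
    have e1 := hR a ha
    rw [show (a ^ 2)⁻¹ * c = a ^ 2 by rw [e]; field_simp] at e1
    obtain ⟨k, hk⟩ := h.trans1 ((a ^ 2 : F) : OnePoint F)
    have e2 : k⁻¹ * t * k = 1 := by
      apply hodd
      · rw [mul_smul, mul_smul, hk, e1, ← hk, inv_smul_smul]
      · calc _ = k⁻¹ * (t * t) * k := by group
          _ = 1 := by rw [htt]; group
    have e3 : t = 1 := by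
      calc t = k * (k⁻¹ * t * k) * k⁻¹ := by group
        _ = 1 := by rw [e2]; group
    rw [e3, one_smul] at ht1
    simp at ht1
  have hc' : t • (c : OnePoint F) = ((1 : F) : OnePoint F) := by
    rw [← hc, ← mul_smul, htt, one_smul]
  obtain ⟨a, ha, hac⟩ := sq_of_nonsq hcn hi
  obtain ⟨k, hk1, hk⟩ := h.mul ha
  refine ⟨k * t, by simp [mul_smul, ht1, hk], by simp [mul_smul, ht2, hk1], fun x hx => ?_⟩
  by_cases hsq : IsSquare x
  · obtain ⟨b, rfl⟩ := hsq
    have hb : b ≠ 0 := by rintro rfl; simp at hx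
    rw [mul_smul, ← pow_two, hR b hb, hk]
    congr 1
    linear_combination (-(b ^ 2)⁻¹) * hac
  · obtain ⟨b, hb, rfl⟩ := sq_of_nonsq hcn hsq
    rw [mul_smul, h.swap_mul hinv hb hc', hk]
    congr 1
    field_simp
    linear_combination -hac

/-- In a perfect group, for `-1` a non-square, an element swapping `0, ∞` inverts the two-point
stabiliser (transfer). -/
lemma inverts_of_perfect [DecidableEq F] [Group.IsPerfect G] (h : IsAff G F)
    (hi : ¬ IsSquare (-1 : F)) {t : G}
    (ht1 : t • (∞ : OnePoint F) = ((0 : F) : OnePoint F)) (ht2 : t • ((0 : F) : OnePoint F) = ∞)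
    (k : G) (hk1 : k • (∞ : OnePoint F) = ∞)
    (hk2 : k • ((0 : F) : OnePoint F) = ((0 : F) : OnePoint F)) : t * k * t⁻¹ = k⁻¹ := by
  let K : Subgroup G := stabilizer G ((∞, ((0 : F) : OnePoint F)) : OnePoint F × OnePoint F)
  have hK : ∀ g : G, g ∈ K ↔ g • (∞ : OnePoint F) = ∞ ∧
      g • ((0 : F) : OnePoint F) = ((0 : F) : OnePoint F) := by
    intro g
    simp [K, mem_stabilizer_iff, Prod.ext_iff]
  have hcomm : ∀ a ∈ K, ∀ b ∈ K, a * b = b * a := by
    intro a ha b hb
    obtain ⟨a1, a2⟩ := (hK a).1 ha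
    obtain ⟨b1, b2⟩ := (hK b).1 hb
    obtain ⟨c, -, hc⟩ := h.fix2 a1 a2
    obtain ⟨d, -, hd⟩ := h.fix2 b1 b2
    exact ext_inf (F := F) (by simp [mul_smul, a1, b1])
      (fun x => by simp only [mul_smul, hc, hd]; congr 1; ring)
  have ht1' : t⁻¹ • ((0 : F) : OnePoint F) = ∞ := by rw [← ht1, inv_smul_smul]
  have ht2' : t⁻¹ • (∞ : OnePoint F) = ((0 : F) : OnePoint F) := by rw [← ht2, inv_smul_smul]
  have hkK : k ∈ K := (hK k).2 ⟨hk1, hk2⟩
  have htk : t * k * t⁻¹ ∈ K := (hK _).2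
    ⟨by rw [mul_smul, mul_smul, ht2', hk2, ht2], by rw [mul_smul, mul_smul, ht1', hk1, ht1]⟩
  have htt : t * t ∈ K := (hK _).2 ⟨by rw [mul_smul, ht1, ht2], by rw [mul_smul, ht2, ht1]⟩
  set c := k * (t * k * t⁻¹) with hc
  have hcK : c ∈ K := mul_mem hkK htk
  have hct : t * c = c * t := by
    have e1 : t * t * k = k * (t * t) := hcomm _ htt _ hkK
    have e2 : k * (t * k * t⁻¹) = (t * k * t⁻¹) * k := hcomm _ hkK _ htk
    calc t * c = (t * k * t⁻¹) * (t * t * k) * t⁻¹ := by rw [hc]; group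
      _ = (t * k * t⁻¹) * k * t := by rw [e1]; group
      _ = c * t := by rw [hc, e2]
  have hidx : K.index = (Fintype.card F + 1) * Fintype.card F := by
    rw [MulAction.index_stabilizer]
    have : orbit G ((∞, ((0 : F) : OnePoint F)) : OnePoint F × OnePoint F) =
        ((Finset.univ : Finset (OnePoint F)).offDiag : Set (OnePoint F × OnePoint F)) := by
      ext ⟨P, Q⟩
      simp only [mem_orbit_iff, Prod.smul_mk, Prod.mk.injEq, Finset.coe_offDiag, Finset.coe_univ,
        Set.mem_offDiag, Set.mem_univ, true_and]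
      constructor
      · rintro ⟨g, rfl, rfl⟩ e
        exact absurd (MulAction.injective g e) (by simp)
      · exact fun hPQ => h.trans2 hPQ
    rw [this, Set.ncard_coe_finset, Finset.offDiag_card, Finset.card_univ]
    have : Fintype.card (OnePoint F) = Fintype.card F + 1 := Fintype.card_option
    rw [this, Nat.mul_succ (_ + 1), Nat.add_sub_cancel]
  have : K.FiniteIndex := ⟨by rw [hidx]; exact Nat.mul_ne_zero (by omega) Fintype.card_ne_zero⟩
  have : IsMulCommutative K := ⟨⟨fun a b => Subtype.ext (hcomm _ a.2 _ b.2)⟩⟩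
  let : CommGroup K := { (inferInstance : Group K) with mul_comm := mul_comm' }
  have key : ∀ (n : ℕ) (g : G), g⁻¹ * c ^ n * g ∈ K → g⁻¹ * c ^ n * g = c ^ n := by
    intro n g hg
    by_cases h1 : c ^ n = 1
    · simp [h1]
    obtain ⟨c1, c2⟩ := (hK _).1 (pow_mem hcK n)
    obtain ⟨g1, g2⟩ := (hK _).1 hg
    rw [mul_smul, mul_smul, inv_smul_eq_iff] at g1 g2
    have hfix : ∀ P : OnePoint F, c ^ n • P = P → P = ∞ ∨ P = ((0 : F) : OnePoint F) := by
      intro P hP
      by_contra hcon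
      push Not at hcon
      exact h1 (h.eq_one_of_fix3 (by simp) hcon.1.symm hcon.2.symm c1 c2 hP)
    have hne : g • (∞ : OnePoint F) ≠ g • ((0 : F) : OnePoint F) := fun e =>
      absurd (MulAction.injective g e) (by simp)
    have hcn : t * c ^ n = c ^ n * t := (Commute.pow_right hct n)
    rcases hfix _ g1 with a1 | a1 <;> rcases hfix _ g2 with a2 | a2
    · exact absurd (a1.trans a2.symm) hne
    · have := hcomm _ (pow_mem hcK n) _ ((hK g).2 ⟨a1, a2⟩)
      rw [mul_assoc, this]; group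
    · have hm : t⁻¹ * g ∈ K := (hK _).2 ⟨by rw [mul_smul, a1, ht1'], by rw [mul_smul, a2, ht2']⟩
      have := hcomm _ (pow_mem hcK n) _ hm
      calc g⁻¹ * c ^ n * g = g⁻¹ * (c ^ n * t) * (t⁻¹ * g) := by group
        _ = (t⁻¹ * g)⁻¹ * (c ^ n * (t⁻¹ * g)) := by rw [← hcn]; group
        _ = c ^ n := by rw [this]; group
    · exact absurd (a1.trans a2.symm) hne
  have htr := MonoidHom.transfer_eq_pow (MonoidHom.id K) c key
  have hker : MonoidHom.transfer (MonoidHom.id K) c = 1 := by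
    have hle : commutator G ≤ (MonoidHom.transfer (MonoidHom.id K)).ker :=
      Abelianization.commutator_subset_ker _
    exact hle (by rw [Group.IsPerfect.commutator_eq_top]; trivial)
  rw [hker] at htr
  have hpow : c ^ K.index = 1 := by
    have := congrArg Subtype.val htr
    simpa using this.symm
  obtain ⟨c1, c2⟩ := (hK _).1 hcK
  obtain ⟨a, ha, hx⟩ := h.fix2 c1 c2
  have hxn : ∀ n : ℕ, c ^ n • ((1 : F) : OnePoint F) = (((a ^ 2) ^ n : F) : OnePoint F) := by
    intro n
    induction n with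
    | zero => simp
    | succ n ih => rw [pow_succ', mul_smul, ih, hx, pow_succ' (a ^ 2)]
  have e1 : (a ^ 2) ^ ((Fintype.card F + 1) * Fintype.card F) = 1 := by
    have := hxn K.index
    rw [hpow, one_smul, hidx] at this
    exact (OnePoint.coe_injective this).symm
  rw [pow_mul, FiniteField.pow_card, pow_succ, FiniteField.pow_card] at e1
  have e4 : (a ^ 2 - 1) * (a ^ 2 + 1) = 0 := by linear_combination e1
  have hc1 : c = 1 := by
    rcases mul_eq_zero.1 e4 with e5 | e5
    · have ha2 : a ^ 2 = 1 := by linear_combination e5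
      exact ext_inf (F := F) (by simpa using c1) (fun x => by simp [hx, ha2])
    · exact absurd ⟨a, by linear_combination -e5⟩ hi
  rw [hc] at hc1
  exact eq_inv_of_mul_eq_one_right hc1

end IsAff

/-- **Recognition of `PSL(2,q)`, `q` odd**, when either `-1` is a square, or some element swapping
`0` and `∞` inverts the two-point stabiliser. -/
theorem IsAff.equiv_of_inverts [Fintype F] [FaithfulSMul G (OnePoint F)] (h : IsAff G F)
    (h2 : (2 : F) ≠ 0)
    (hinv : IsSquare (-1 : F) ∨ ∃ t : G, t • (∞ : OnePoint F) = ((0 : F) : OnePoint F) ∧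
      t • ((0 : F) : OnePoint F) = ∞ ∧ ∀ k : G, k • (∞ : OnePoint F) = ∞ →
      k • ((0 : F) : OnePoint F) = ((0 : F) : OnePoint F) → t * k * t⁻¹ = k⁻¹) :
    Nonempty (G ≃* PSL(2, F)) := by
  by_cases hi : IsSquare (-1 : F)
  · obtain ⟨i, hi⟩ := hi
    obtain ⟨w, h1, h2, h3⟩ := h.exists_weyl_of_sq h2 (i := i) (by rw [hi]; ring)
    exact equiv_of_weyl h.fix h.tr w h1 h2 h3
  · obtain ⟨t, ht1, ht2, ht3⟩ := hinv.resolve_left hi
    obtain ⟨w, h1, h2, h3⟩ := h.exists_weyl_of_nonsq h2 hi ht1 ht2 ht3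
    exact equiv_of_weyl h.fix h.tr w h1 h2 h3

/-- **Recognition of `PSL(2,q)`, `q` odd**, for perfect groups. -/
theorem IsAff.equiv_of_perfect [Fintype F] [FaithfulSMul G (OnePoint F)] [Group.IsPerfect G]
    (h : IsAff G F) (h2 : (2 : F) ≠ 0) : Nonempty (G ≃* PSL(2, F)) := by
  apply h.equiv_of_inverts h2
  by_cases hi : IsSquare (-1 : F)
  · exact Or.inl hi
  · obtain ⟨t, ht1, ht2⟩ := h.trans2 (P := ((0 : F) : OnePoint F)) (Q := ∞) (by simp)
    exact Or.inr ⟨t, ht1, ht2, h.inverts_of_perfect hi ht1 ht2⟩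

end CL.PSL2Rec
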