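import Cfsg.Agent.Base
import Cfsg.Agent.Small.PSL2Rec2

/-!
Recognition of `PSL(2,q)` from an abstract action with a regular "additive" normal subgroup of the
point stabiliser, and Frobenius' theorem: a simple group of order `p(p²-1)/2` is `PSL(2,p)`.
-/

set_option autoImplicit false

namespace CL.PSL2Rec

open OnePoint MulAction
open scoped MatrixGroups

/-- **Recognition of `PSL(2,q)`, `q` odd, from an abstract action.** `U : F → G` is an additive
family fixing `α` and regular on the other points, on which the stabiliser of `α` (of order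
`q(q-1)/2`) acts by scalars. -/
theorem equiv_of_regular {F : Type*} [Field F] [Fintype F] (h2 : (2 : F) ≠ 0)
    {G : Type*} [Group G] [Finite G] {Ω : Type*} [MulAction G Ω] [FaithfulSMul G Ω] (α β : Ω)
    (U : F → G) (hU : ∀ x y, U (x + y) = U x * U y) (hUα : ∀ x, U x • α = α)
    (hβ : β ≠ α) (hinj : Function.Injective fun x => U x • β)
    (hsurj : ∀ ω, ω ≠ α → ∃ x, U x • β = ω)
    (hconj : ∀ g : G, g • α = α → ∃ a : F, ∀ x, g * U x * g⁻¹ = U (a * x))
    (hcard : 2 * Nat.card (stabilizer G α) = Fintype.card F * (Fintype.card F - 1))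
    (hmove : ∃ g : G, g • α ≠ α)
    (hextra : Group.IsPerfect G ∨ IsSquare (-1 : F) ∨ ∃ t : G, t • α = β ∧ t • β = α ∧
      ∀ k : G, k • α = α → k • β = β → t * k * t⁻¹ = k⁻¹) :
    Nonempty (G ≃* PSL(2, F)) := by
  classical
  have hU0 : U 0 = 1 := by
    have := hU 0 0
    rw [add_zero] at this
    exact (mul_eq_left.1 this.symm)
  have hUinj : Function.Injective U := fun x y e => hinj (by simp only [e])
  have hne : ∀ x, U x • β ≠ α := by
    intro x e
    apply hβ
    rw [← hUα x] at e
    exact MulAction.injective _ e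
  let f : OnePoint F → Ω := fun P => P.elim α (fun x => U x • β)
  have hf : Function.Bijective f := by
    constructor
    · intro P Q e
      induction P using OnePoint.rec <;> induction Q using OnePoint.rec
      · rfl
      · exact absurd e.symm (hne _)
      · exact absurd e (hne _)
      · exact congrArg _ (hinj e)
    · intro ω
      by_cases hω : ω = α
      · exact ⟨∞, hω.symm⟩
      · obtain ⟨x, hx⟩ := hsurj ω hω
        exact ⟨x, hx⟩
  let e : OnePoint F ≃ Ω := Equiv.ofBijective f hf
  have e1 : e ∞ = α := rfl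
  have e2 : ∀ x : F, e x = U x • β := fun x => rfl
  let inst : MulAction G (OnePoint F) := e.mulAction G
  have hsm : ∀ (g : G) (P Q : OnePoint F), g • P = Q ↔ g • e P = e Q := by
    intro g P Q
    rw [Equiv.smul_def, Equiv.symm_apply_eq]
  have hfaith : FaithfulSMul G (OnePoint F) := ⟨fun {g g'} h => by
    apply FaithfulSMul.eq_of_smul_eq_smul (α := Ω)
    intro ω
    obtain ⟨P, rfl⟩ := e.surjective ω
    rw [(hsm g P _).1 (h P), (hsm g' P _).1 rfl]⟩
  -- the scalar homomorphism
  choose a ha using fun g : stabilizer G α => hconj g g.2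
  have ha0 : ∀ g, a g ≠ 0 := by
    intro g e
    have := ha g 1
    rw [e, zero_mul, hU0, mul_inv_eq_one, mul_eq_left, ← hU0] at this
    exact one_ne_zero (hUinj this)
  have hamul : ∀ g g', a (g * g') = a g * a g' := by
    intro g g'
    have h1 := ha (g * g') 1
    have h3 := ha g (a g' * 1)
    rw [← ha g' 1] at h3
    have : U (a (g * g') * 1) = U (a g * (a g' * 1)) := by
      rw [← h1, ← h3]; simp [mul_assoc]
    simpa using hUinj this
  let χ : stabilizer G α →* Fˣ := MonoidHom.mk' (fun g => Units.mk0 (a g) (ha0 g))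
    (fun g g' => Units.ext (hamul g g'))
  have hact : ∀ g : stabilizer G α, ∃ b : F, ∀ x : F,
      (g : G) • U x • β = U (a g * x + b) • β := by
    intro g
    have : (g : G) • β ≠ α := by
      intro e
      exact hβ (MulAction.injective (g : G) (e.trans (mem_stabilizer_iff.1 g.2).symm))
    obtain ⟨b, hb⟩ := hsurj _ this
    refine ⟨b, fun x => ?_⟩
    rw [hU, mul_smul, hb, ← ha, mul_smul, mul_smul, inv_smul_smul]
  have hker : Nat.card χ.ker = Fintype.card F := by
    rw [← Nat.card_eq_fintype_card]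
    symm
    refine Nat.card_eq_of_bijective (fun x => ⟨⟨U x, hUα x⟩, ?_⟩) ⟨?_, ?_⟩
    · rw [MonoidHom.mem_ker]
      apply Units.ext
      have := ha ⟨U x, hUα x⟩ 1
      simp only at this
      rw [← hU, add_comm, hU, mul_inv_cancel_right] at this
      simpa [χ] using (hUinj this).symm
    · intro x y e
      exact hUinj (congrArg (fun z : χ.ker => ((z : stabilizer G α) : G)) e)
    · rintro ⟨g, hg⟩
      have hg1 : a g = 1 := congrArg Units.val (MonoidHom.mem_ker.1 hg)
      obtain ⟨b, hb⟩ := hact g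
      refine ⟨b, Subtype.ext (Subtype.ext ?_)⟩
      apply FaithfulSMul.eq_of_smul_eq_smul (α := Ω)
      intro ω
      by_cases hω : ω = α
      · rw [hω, hUα]; exact g.2.symm
      · obtain ⟨x, rfl⟩ := hsurj ω hω
        simp only
        rw [hb, hg1, one_mul, add_comm, hU, mul_smul]
  have hq : 1 < Fintype.card F := Fintype.one_lt_card
  have hrange : 2 * Nat.card χ.range = Fintype.card F - 1 := by
    have h1 := Subgroup.card_mul_index χ.ker
    rw [Subgroup.index_ker, hker] at h1
    rw [← h1] at hcard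
    have : Fintype.card F * (2 * Nat.card χ.range) = Fintype.card F * (Fintype.card F - 1) := by
      rw [← hcard]; ring
    exact Nat.eq_of_mul_eq_mul_left (by omega) this
  have hidx : χ.range.index = 2 := by
    have h1 := Subgroup.card_mul_index χ.range
    rw [Nat.card_units, Nat.card_eq_fintype_card (α := F), ← hrange, mul_comm 2] at h1
    exact Nat.eq_of_mul_eq_mul_left Nat.card_pos h1
  have hchar : ringChar F ≠ 2 := by
    intro e
    apply h2
    have := (ringChar.spec F 2).2 (by rw [e])
    exact_mod_cast this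
  have hsq : ∀ g, ∃ c : F, c ≠ 0 ∧ a g = c ^ 2 := by
    intro g
    have h1 : (⟨χ g, g, rfl⟩ : χ.range) ^ Nat.card χ.range = 1 := pow_card_eq_one'
    have h3 : a g ^ Nat.card χ.range = 1 := by
      have := congrArg (fun z : χ.range => ((z : Fˣ) : F)) h1
      simpa [χ] using this
    have h4 : Fintype.card F / 2 = Nat.card χ.range := by omega
    obtain ⟨c, hc⟩ := (FiniteField.isSquare_iff hchar (ha0 g)).2 (by rw [h4, h3])
    refine ⟨c, ?_, by rw [hc]; ring⟩
    rintro rfl
    exact ha0 g (by simpa using hc)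
  have H : IsAff G F := by
    refine ⟨fun g hg => ?_, fun c b hc => ?_, ?_⟩
    · rw [hsm, e1] at hg
      obtain ⟨c, hc, hc'⟩ := hsq ⟨g, hg⟩
      obtain ⟨b, hb⟩ := hact ⟨g, hg⟩
      exact ⟨c, b, hc, fun x => by rw [hsm, e2, e2, ← hc']; exact hb x⟩
    · obtain ⟨g, hg⟩ := Subgroup.sq_mem_of_index_two hidx (Units.mk0 c hc)
      have hg' : a g = c ^ 2 := congrArg Units.val hg
      obtain ⟨b', hb⟩ := hact g
      refine ⟨U (b - b') * g, by rw [hsm, e1, mul_smul, g.2, hUα], fun x => ?_⟩
      rw [hsm, e2, e2, mul_smul, hb, ← mul_smul, ← hU, hg']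
      congr 2
      ring
    · obtain ⟨g, hg⟩ := hmove
      exact ⟨g, by rwa [Ne, hsm, e1]⟩
  have e0 : e ((0 : F) : OnePoint F) = β := by rw [e2, hU0, one_smul]
  rcases hextra with hp | hs | ⟨t, ht1, ht2, ht3⟩
  · exact H.equiv_of_perfect h2
  · exact H.equiv_of_inverts h2 (Or.inl hs)
  · refine H.equiv_of_inverts h2 (Or.inr ⟨t, by rw [hsm, e1, e0, ht1], by rw [hsm, e1, e0, ht2],
      fun k hk1 hk2 => ht3 k ?_ ?_⟩)
    · rwa [hsm, e1] at hk1
    · rwa [hsm, e0] at hk2

lemma isPerfect_of_simple {G : Type*} [Group G] [IsSimpleGroup G] (h : ¬ IsMulCommutative G) :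
    Group.IsPerfect G := by
  rcases (inferInstance : (commutator G).Normal).eq_bot_or_eq_top with h1 | h1
  · exfalso
    exact h ((commutator_eq_bot_iff G).1 h1)
  · exact ⟨h1⟩

lemma not_comm_of_simple {G : Type*} [Group G] [IsSimpleGroup G] (h : ¬ (Nat.card G).Prime) :
    ¬ IsMulCommutative G := by
  intro hc
  let : CommGroup G := { (inferInstance : Group G) with mul_comm := mul_comm' }
  exact h IsSimpleGroup.prime_card

/-- **Frobenius (1902)**: a simple group of order `p(p²-1)/2`, `p` an odd prime, is `PSL(2,p)`. -/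
theorem equiv_of_simple_card {G : Type*} [Group G] [Finite G] [IsSimpleGroup G] {p : ℕ}
    (hp : p.Prime) (hp2 : p ≠ 2) (h : 2 * Nat.card G = p * (p ^ 2 - 1))
    {F : Type*} [Field F] [Fintype F] (hF : Fintype.card F = p) :
    Nonempty (G ≃* PSL(2, F)) := by
  classical
  have : Fact p.Prime := ⟨hp⟩
  have hp3 : 3 ≤ p := by have := hp.two_le; omega
  obtain ⟨m, hm⟩ : ∃ m, p ^ 2 = 2 * m + 1 := (hp.odd_of_ne_two hp2).pow
  have hG : Nat.card G = p * m := by
    rw [hm, Nat.add_sub_cancel] at h
    linarith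
  have hm4 : 4 ≤ m := by nlinarith
  have hpm : ¬ p ∣ m := by
    intro hd
    have h1 : p ∣ 2 * m + 1 := by rw [← hm]; exact dvd_pow_self p two_ne_zero
    have h3 : p ∣ 1 := (Nat.dvd_add_right (Dvd.dvd.mul_left hd 2)).1 h1
    exact hp.one_lt.ne' (Nat.dvd_one.1 h3)
  have hnc : ¬ IsMulCommutative G := not_comm_of_simple (by
    rw [hG]; exact Nat.not_prime_mul (by omega) (by omega))
  have hperf := isPerfect_of_simple hnc
  obtain ⟨P⟩ : Nonempty (Sylow p G) := inferInstance
  have hcardS : ∀ P : Sylow p G, Nat.card (P : Subgroup G) = p := by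
    intro P
    rw [P.card_eq_multiplicity, hG, Nat.factorization_mul hp.ne_zero (by omega)]
    simp [hp.factorization_self, Nat.factorization_eq_zero_of_not_dvd hpm]
  have hidx : (P : Subgroup G).index = m := by
    have := Subgroup.card_mul_index (P : Subgroup G)
    rw [hcardS, hG] at this
    exact Nat.eq_of_mul_eq_mul_left hp.pos this
  have hnn : ¬ (P : Subgroup G).Normal := by
    intro hn
    rcases hn.eq_bot_or_eq_top with h1 | h1
    · have := hcardS P
      rw [h1, Subgroup.card_bot] at this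
      omega
    · rw [h1, Subgroup.index_top] at hidx
      omega
  have hn : Nat.card (Sylow p G) = p + 1 := by
    have h1 := P.card_dvd_index
    have h3 := card_sylow_modEq_one p G
    have h4 : Nat.card (Sylow p G) ≠ 1 := by
      intro e
      have : Subsingleton (Sylow p G) := (Nat.card_eq_one_iff_unique.1 e).1
      exact hnn P.normal_of_subsingleton
    rw [hidx] at h1
    obtain ⟨k, hk⟩ := h1
    set n := Nat.card (Sylow p G)
    have hn0 : 0 < n := Nat.card_pos
    obtain ⟨a, ha⟩ : p ∣ n - 1 := (Nat.modEq_iff_dvd' hn0).1 h3.symm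
    have hn1 : n = p * a + 1 := by omega
    have ha0 : 1 ≤ a := by
      rcases Nat.eq_zero_or_pos a with rfl | h
      · omega
      · exact h
    have h5 : p ∣ 2 * k + 1 := by
      have : p ∣ p * (a * (2 * k)) + (2 * k + 1) := by
        have : p * (a * (2 * k)) + (2 * k + 1) = p ^ 2 := by rw [hm, hk, hn1]; ring
        rw [this]; exact dvd_pow_self p two_ne_zero
      exact (Nat.dvd_add_right (Dvd.intro _ rfl)).1 this
    have h6 : p ≤ 2 * k + 1 := Nat.le_of_dvd (by omega) h5
    have h7 : p ^ 2 = (p * a + 1) * (2 * k) + 1 := by rw [hm, hk, hn1]; ring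
    have : a = 1 := by
      by_contra hne
      have : 2 ≤ a := by omega
      have h8 : (p * 2 + 1) * (p - 1) ≤ (p * a + 1) * (2 * k) :=
        Nat.mul_le_mul (by nlinarith) (by omega)
      obtain ⟨r, rfl⟩ : ∃ r, p = r + 1 := ⟨p - 1, by omega⟩
      simp only [Nat.add_sub_cancel] at h8
      nlinarith
    rw [hn1, this, mul_one]
  have hfaith : FaithfulSMul G (Sylow p G) := by
    rw [faithfulSMul_iff]
    intro g hg
    rcases (inferInstance : (toPermHom G (Sylow p G)).ker.Normal).eq_bot_or_eq_top with h1 | h1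
    · rw [← Subgroup.mem_bot, ← h1, MonoidHom.mem_ker]
      ext1 Q
      exact hg Q
    · exfalso
      apply hnn
      rw [← Subgroup.normalizer_eq_top_iff, eq_top_iff]
      intro x _
      have : x ∈ (toPermHom G (Sylow p G)).ker := by rw [h1]; trivial
      rw [MonoidHom.mem_ker] at this
      exact Sylow.smul_eq_iff_mem_normalizer.1 (congrArg (fun σ : Equiv.Perm _ => σ P) this)
  have : IsCyclic (P : Subgroup G) := isCyclic_of_prime_card (hcardS P)
  obtain ⟨u', hu'⟩ := IsCyclic.exists_monoid_generator (α := (P : Subgroup G))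
  set u : G := (u' : G) with hu
  have huP : u ∈ (P : Subgroup G) := u'.2
  have hgen : ∀ x ∈ (P : Subgroup G), ∃ n : ℕ, u ^ n = x := by
    intro x hx
    obtain ⟨n, hn⟩ := hu' ⟨x, hx⟩
    exact ⟨n, congrArg Subtype.val hn⟩
  have hord : orderOf u = p := by
    rw [hu, Subgroup.orderOf_coe, orderOf_eq_card_of_forall_mem_powers hu', hcardS]
  have : CharP F p := charP_of_card_eq_prime hF
  let φ : ZMod p ≃+* F := ZMod.ringEquivOfPrime F hp hF
  let U : F → G := fun x => u ^ (φ.symm x).val
  have hUn : ∀ n : ℕ, U n = u ^ n := by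
    intro n
    simp only [U, map_natCast, ZMod.val_natCast]
    rw [← hord, pow_mod_orderOf]
  have hnat : ∀ x : F, ∃ n : ℕ, x = n := fun x =>
    ⟨(φ.symm x).val, by rw [← map_natCast φ, ZMod.natCast_zmod_val, φ.apply_symm_apply]⟩
  have hU : ∀ x y, U (x + y) = U x * U y := by
    intro x y
    obtain ⟨a, rfl⟩ := hnat x
    obtain ⟨b, rfl⟩ := hnat y
    rw [← Nat.cast_add, hUn, hUn, hUn, pow_add]
  have hUP : ∀ x, U x ∈ (P : Subgroup G) := fun x => pow_mem huP _
  have hUα : ∀ x, U x • P = P := fun x =>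
    Sylow.smul_eq_iff_mem_normalizer.2 (Subgroup.le_normalizer (hUP x))
  have hnt : Nontrivial (Sylow p G) := Finite.one_lt_card_iff_nontrivial.1 (by omega)
  obtain ⟨Q, hQ⟩ := exists_ne P
  have hinj : Function.Injective fun x => U x • Q := by
    intro x y e
    simp only at e
    by_contra hxy
    have h1 : U (x - y) • Q = Q := by
      have : U x = U y * U (x - y) := by rw [← hU]; congr 1; ring
      rw [this, mul_smul] at e
      exact MulAction.injective _ e
    have h3 : U (x - y) ∈ (P : Subgroup G) ⊓ Q := by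
      rw [← P.isPGroup'.inf_normalizer_sylow Q]
      exact ⟨hUP _, Sylow.smul_eq_iff_mem_normalizer.1 h1⟩
    have h4 : U (x - y) ≠ 1 := by
      obtain ⟨n, hn⟩ := hnat (x - y)
      rw [hn, hUn, Ne, ← orderOf_dvd_iff_pow_eq_one, hord, ← CharP.cast_eq_zero_iff F p n, ← hn]
      exact sub_ne_zero.2 hxy
    have h5 : Nat.card ((P : Subgroup G) ⊓ Q : Subgroup G) ∣ p :=
      (Subgroup.card_dvd_of_le inf_le_left).trans (hcardS P).dvd
    rcases (Nat.dvd_prime hp).1 h5 with h6 | h6
    · rw [Subgroup.card_eq_one] at h6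
      rw [h6] at h3
      exact h4 h3
    · have a1 : (P : Subgroup G) ⊓ Q = P :=
        Subgroup.eq_of_le_of_card_ge inf_le_left (by rw [h6, hcardS])
      have a2 : (P : Subgroup G) ⊓ Q = Q :=
        Subgroup.eq_of_le_of_card_ge inf_le_right (by rw [h6, hcardS])
      exact hQ (Sylow.ext (a2.symm.trans a1))
  have hne : ∀ x, U x • Q ≠ P := by
    intro x e
    apply hQ
    rw [← hUα x] at e
    exact MulAction.injective _ e
  refine equiv_of_regular ?_ P Q U hU hUα hQ hinj ?_ ?_ ?_ ?_ (Or.inl hperf)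
  · intro e
    have := (CharP.cast_eq_zero_iff F p 2).1 (by exact_mod_cast e)
    have := Nat.le_of_dvd two_pos this
    omega
  · intro ω hω
    let f : F → {ω : Sylow p G // ω ≠ P} := fun x => ⟨U x • Q, hne x⟩
    have hf : Function.Injective f := fun x y e => hinj (congrArg Subtype.val e)
    have : Fintype (Sylow p G) := Fintype.ofFinite _
    have hb : Function.Bijective f := by
      rw [Fintype.bijective_iff_injective_and_card]
      refine ⟨hf, ?_⟩
      rw [Fintype.card_subtype_compl, Fintype.card_subtype_eq,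
        ← Nat.card_eq_fintype_card (α := Sylow p G), hn, hF, Nat.add_sub_cancel]
    obtain ⟨x, hx⟩ := hb.2 ⟨ω, hω⟩
    exact ⟨x, congrArg Subtype.val hx⟩
  · intro g hg
    have h1 : g * u * g⁻¹ ∈ (P : Subgroup G) :=
      (Subgroup.mem_normalizer_iff.1 (Sylow.smul_eq_iff_mem_normalizer.1 hg) u).1 huP
    obtain ⟨a, ha⟩ := hgen _ h1
    refine ⟨a, fun x => ?_⟩
    obtain ⟨n, rfl⟩ := hnat x
    rw [← Nat.cast_mul, hUn, hUn, pow_mul, ha, conj_pow]
  · have h1 := Subgroup.card_mul_index (stabilizer G P)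
    rw [Sylow.stabilizer_eq_normalizer, ← Sylow.card_eq_index_normalizer, hn,
      ← Sylow.stabilizer_eq_normalizer] at h1
    rw [hF]
    apply Nat.eq_of_mul_eq_mul_right (Nat.succ_pos p)
    rw [mul_assoc, Nat.succ_eq_add_one, h1, h]
    obtain ⟨r, rfl⟩ : ∃ r, p = r + 1 := ⟨p - 1, by omega⟩
    have : (r + 1) ^ 2 - 1 = r * (r + 2) := by
      rw [Nat.sub_eq_iff_eq_add (Nat.one_le_pow _ _ (by omega))]; ring
    rw [this, Nat.add_sub_cancel]; ring
  · obtain ⟨g, hg⟩ := exists_smul_eq G P Q
    exact ⟨g, by rw [hg]; exact hQ⟩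

end CL.PSL2Rec
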