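import Cfsg.Agent.Base
import Cfsg.Agent.Small.PSL2Rec3

/-!
A field structure from an irreducible commutative action, and the recognition of `PSL(2,q)` for a
permutation group whose point stabiliser has an abelian regular normal subgroup.
-/

set_option autoImplicit false

namespace CL.PSL2Rec

open MulAction
open scoped MatrixGroups

/-- A commuting family of endomorphisms acting irreducibly on a finite abelian group `V` acts by
scalars for a field structure on `V`. -/
theorem exists_field_of_irreducible {V : Type*} [AddCommGroup V] [Finite V] [Nontrivial V]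
    (S : Set (AddMonoid.End V)) (hcomm : ∀ s ∈ S, ∀ t ∈ S, s * t = t * s)
    (hirr : ∀ W : AddSubgroup V, (∀ s ∈ S, ∀ w ∈ W, s w ∈ W) → W = ⊥ ∨ W = ⊤) :
    ∃ (F : Type) (_ : Field F) (_ : Fintype F) (e : F ≃+ V),
      ∀ s ∈ S, ∃ a : F, ∀ x, s (e x) = e (a * x) := by
  classical
  let R := Subring.closure S
  have hR : IsMulCommutative R := Subring.isMulCommutative_closure hcomm
  have hRc : ∀ r r' : R, ∀ v : V, (r : AddMonoid.End V) ((r' : AddMonoid.End V) v) =
      (r' : AddMonoid.End V) ((r : AddMonoid.End V) v) := by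
    intro r r' v
    have : r * r' = r' * r := mul_comm' r r'
    exact congrArg (fun z : R => (z : AddMonoid.End V) v) this
  have hinj : ∀ r : R, r ≠ 0 → ∀ v : V, (r : AddMonoid.End V) v = 0 → v = 0 := by
    intro r hr v hv
    rcases hirr (AddMonoidHom.ker (r : AddMonoid.End V)) (fun s hs w hw => by
      have := hRc r ⟨s, Subring.subset_closure hs⟩ w
      have hw' : (r : AddMonoid.End V) w = 0 := hw
      exact this.trans (by rw [hw', map_zero])) with h | h
    · have : v ∈ AddMonoidHom.ker (r : AddMonoid.End V) := hv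
      rwa [h, AddSubgroup.mem_bot] at this
    · exfalso
      apply hr
      apply Subtype.ext
      ext w
      have : w ∈ AddMonoidHom.ker (r : AddMonoid.End V) := by rw [h]; trivial
      exact this
  obtain ⟨v, hv⟩ := exists_ne (0 : V)
  let f : R →+ V :=
    { toFun := fun r => (r : AddMonoid.End V) v
      map_zero' := rfl
      map_add' := fun _ _ => rfl }
  have hf : Function.Bijective f := by
    constructor
    · rw [injective_iff_map_eq_zero]
      intro r hr
      by_contra h
      exact hv (hinj r h v hr)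
    · rcases hirr f.range (by
        rintro s hs _ ⟨r, rfl⟩
        exact ⟨⟨s, Subring.subset_closure hs⟩ * r, rfl⟩) with h | h
      · exfalso
        have : v ∈ f.range := ⟨1, rfl⟩
        rw [h, AddSubgroup.mem_bot] at this
        exact hv this
      · exact AddMonoidHom.range_eq_top.1 h
  have : Finite R := Finite.of_injective f hf.1
  have : Nontrivial R := ⟨⟨1, 0, fun e => hv (by
    have := congrArg f e
    rw [map_zero] at this
    exact this)⟩⟩
  have : NoZeroDivisors R := ⟨fun {a b} hab => by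
    by_contra hcon
    push Not at hcon
    have h1 : (a : AddMonoid.End V) ((b : AddMonoid.End V) v) = 0 :=
      congrArg (fun z : R => (z : AddMonoid.End V) v) hab
    exact hv (hinj b hcon.2 v (hinj a hcon.1 _ h1))⟩
  have : IsDomain R := NoZeroDivisors.to_isDomain R
  let _ : Field R := (Finite.isDomain_to_isField R).toField
  have : Fintype R := Fintype.ofFinite R
  obtain ⟨p, hp, n, hpp, hcard⟩ := FiniteField.card' R
  have : Fact p.Prime := ⟨hpp⟩
  have : Fintype (GaloisField p n) := Fintype.ofFinite _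
  have hc : Fintype.card (GaloisField p n) = Fintype.card R := by
    rw [← Nat.card_eq_fintype_card, GaloisField.card p n n.ne_zero, hcard]
  let φ : GaloisField p n ≃+* R := FiniteField.ringEquivOfCardEq hc
  refine ⟨GaloisField p n, inferInstance, inferInstance,
    φ.toAddEquiv.trans (AddEquiv.ofBijective f hf), fun s hs =>
      ⟨φ.symm ⟨s, Subring.subset_closure hs⟩, fun x => ?_⟩⟩
  change s (f (φ x)) = f (φ (_ * x))
  rw [map_mul, φ.apply_symm_apply]
  rfl

/-- Multiplicative form inside a group: `P` an abelian subgroup, `K` a commutative set normalising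
`P` and acting irreducibly on it. -/
theorem exists_field_of_irreducible_subgroup {G : Type*} [Group G] (P : Subgroup G) [Finite P]
    (hP : P ≠ ⊥) (hPc : ∀ x ∈ P, ∀ y ∈ P, x * y = y * x) (K : Set G)
    (hKP : ∀ k ∈ K, ∀ x ∈ P, k * x * k⁻¹ ∈ P)
    (hKc : ∀ k ∈ K, ∀ l ∈ K, ∀ x ∈ P, k * l * x * (k * l)⁻¹ = l * k * x * (l * k)⁻¹)
    (hirr : ∀ W : Subgroup G, W ≤ P → (∀ k ∈ K, ∀ x ∈ W, k * x * k⁻¹ ∈ W) → W = ⊥ ∨ W = P) :
    ∃ (F : Type) (_ : Field F) (_ : Fintype F) (U : F → G), Fintype.card F = Nat.card P ∧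
      (∀ x y, U (x + y) = U x * U y) ∧ Function.Injective U ∧ (∀ x, U x ∈ P) ∧
      (∀ z ∈ P, ∃ x, U x = z) ∧ ∀ k ∈ K, ∃ a : F, ∀ x, k * U x * k⁻¹ = U (a * x) := by
  let _ : CommGroup P := { (inferInstance : Group P) with
    mul_comm := fun a b => Subtype.ext (hPc _ a.2 _ b.2) }
  have : Nontrivial P := (Subgroup.nontrivial_iff_ne_bot P).2 hP
  let c : K → AddMonoid.End (Additive P) := fun k =>
    { toFun := fun x => Additive.ofMul ⟨k * (x.toMul : P) * (k : G)⁻¹, hKP _ k.2 _ x.toMul.2⟩
      map_zero' := by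
        apply Additive.toMul.injective
        apply Subtype.ext
        simp
      map_add' := fun x y => by
        apply Additive.toMul.injective
        apply Subtype.ext
        simp [mul_assoc] }
  have hc : ∀ (k : K) (x : Additive P), ((c k x).toMul : G) = k * (x.toMul : P) * (k : G)⁻¹ :=
    fun _ _ => rfl
  obtain ⟨F, _, _, e, he⟩ := exists_field_of_irreducible (V := Additive P) (Set.range c) (by
      rintro _ ⟨k, rfl⟩ _ ⟨l, rfl⟩
      ext x
      change ((c k (c l x)).toMul : G) = ((c l (c k x)).toMul : G)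
      rw [hc, hc, hc, hc]
      have := hKc _ k.2 _ l.2 _ x.toMul.2
      simpa [mul_assoc] using this) (by
      intro W hW
      rcases hirr ((AddSubgroup.toSubgroup' W).map P.subtype) (Subgroup.map_subtype_le _) (by
        rintro k hk _ ⟨x, hx, rfl⟩
        exact ⟨_, hW _ ⟨⟨k, hk⟩, rfl⟩ (Additive.ofMul x) hx, rfl⟩) with h | h
      · left
        rw [Subgroup.map_eq_bot_iff_of_injective _ P.subtype_injective] at h
        rw [eq_bot_iff]
        intro x hx
        have : x.toMul ∈ AddSubgroup.toSubgroup' W := hx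
        rw [h] at this
        exact this
      · right
        rw [eq_top_iff]
        intro x _
        have : (x.toMul : G) ∈ (AddSubgroup.toSubgroup' W).map P.subtype := by
          rw [h]; exact x.toMul.2
        obtain ⟨y, hy, hxy⟩ := this
        have : y = x.toMul := Subtype.ext hxy
        rw [this] at hy
        exact hy)
  refine ⟨F, inferInstance, inferInstance, fun x => ((e x).toMul : P), ?_, ?_, ?_, ?_, ?_, ?_⟩
  · rw [← Nat.card_eq_fintype_card, Nat.card_congr e.toEquiv]
    rfl
  · intro x y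
    simp
  · intro x y h
    exact e.injective (Additive.toMul.injective (Subtype.ext h))
  · exact fun x => (e x).toMul.2
  · intro z hz
    exact ⟨e.symm (Additive.ofMul ⟨z, hz⟩), by simp⟩
  · intro k hk
    obtain ⟨a, ha⟩ := he _ ⟨⟨k, hk⟩, rfl⟩
    exact ⟨a, fun x => by simp only; rw [← ha x]; rfl⟩

/-- Transport of `PSL(2, ·)` along a ring isomorphism. -/
noncomputable def pslCongr {n : Type*} [Fintype n] [DecidableEq n] {R S : Type*} [CommRing R]
    [CommRing S] (φ : R ≃+* S) :
    Matrix.ProjectiveSpecialLinearGroup n R ≃* Matrix.ProjectiveSpecialLinearGroup n S :=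
  let e : Matrix.SpecialLinearGroup n R ≃* Matrix.SpecialLinearGroup n S :=
    MonoidHom.toMulEquiv (Matrix.SpecialLinearGroup.map (φ : R →+* S))
      (Matrix.SpecialLinearGroup.map (φ.symm : S →+* R))
      (by ext A i j; simp) (by ext A i j; simp)
  QuotientGroup.congr _ _ e (by
    apply le_antisymm
    · rintro _ ⟨x, hx, rfl⟩
      exact (Subgroup.centerCongr e ⟨x, hx⟩).2
    · intro y hy
      exact ⟨e.symm y, (Subgroup.centerCongr e.symm ⟨y, hy⟩).2, e.apply_symm_apply y⟩)

/-- **Recognition of `PSL(2,q)`, `q` odd**: `G` acts faithfully on `Ω`, `P` is an abelian subgroup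
of odd order `q`, normal in the stabiliser of `α` (which has order `q(q-1)/2`) and regular on the
other points; the two-point stabiliser is abelian and acts semiregularly on the remaining points. -/
theorem equiv_of_abelian_regular {G : Type*} [Group G] [Finite G] {Ω : Type*} [MulAction G Ω]
    [FaithfulSMul G Ω] (α β : Ω) (hβ : β ≠ α) (P : Subgroup G) (hP : P ≠ ⊥)
    (hodd : Odd (Nat.card P)) (hPc : ∀ x ∈ P, ∀ y ∈ P, x * y = y * x)
    (hPα : ∀ x ∈ P, x • α = α) (hPn : ∀ g : G, g • α = α → ∀ x ∈ P, g * x * g⁻¹ ∈ P)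
    (hreg : ∀ x ∈ P, x • β = β → x = 1) (hsurj : ∀ ω, ω ≠ α → ∃ x ∈ P, x • β = ω)
    (hKc : ∀ k l : G, k • α = α → k • β = β → l • α = α → l • β = β → k * l = l * k)
    (hsemi : ∀ k : G, k • α = α → k • β = β → ∀ x ∈ P, k * x = x * k → k = 1 ∨ x = 1)
    (hcard : 2 * Nat.card (stabilizer G α) = Nat.card P * (Nat.card P - 1))
    (hmove : ∃ g : G, g • α ≠ α)
    (hextra : Group.IsPerfect G ∨ Nat.card P % 4 = 1 ∨ ∃ t : G, t • α = β ∧ t • β = α ∧
      ∀ k : G, k • α = α → k • β = β → t * k * t⁻¹ = k⁻¹) :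
    ∃ (F : Type) (_ : Field F) (_ : Fintype F), Fintype.card F = Nat.card P ∧
      Nonempty (G ≃* PSL(2, F)) := by
  classical
  let K : Subgroup G := stabilizer G α ⊓ stabilizer G β
  have hK : ∀ k, k ∈ K ↔ k • α = α ∧ k • β = β := fun k => Iff.rfl
  -- the order of `K`
  have hcK : Nat.card P * Nat.card K = Nat.card (stabilizer G α) := by
    rw [← Nat.card_prod]
    refine Nat.card_eq_of_bijective (fun z => ⟨z.1 * z.2, ?_⟩) ⟨?_, ?_⟩
    · rw [mem_stabilizer_iff, mul_smul, ((hK _).1 z.2.2).1, hPα _ z.1.2]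
    · rintro ⟨x, k⟩ ⟨y, l⟩ h
      have h1 : (x : G) * k = y * l := congrArg Subtype.val h
      have h2 : ((y : G)⁻¹ * x) • β = β := by
        have : (y : G)⁻¹ * x = l * (k : G)⁻¹ := by
          rw [inv_mul_eq_iff_eq_mul, ← mul_assoc, ← h1, mul_inv_cancel_right]
        rw [this]
        exact ((hK _).1 (mul_mem l.2 (inv_mem k.2))).2
      have h3 := hreg _ (mul_mem (inv_mem y.2) x.2) h2
      have h4 : (x : G) = y := (inv_mul_eq_one.1 h3).symm
      rw [h4] at h1
      exact Prod.ext (Subtype.ext h4) (Subtype.ext (mul_left_cancel h1))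
    · rintro ⟨g, hg⟩
      rw [mem_stabilizer_iff] at hg
      obtain ⟨x, hx, hxg⟩ := hsurj (g • β) (fun e => hβ (MulAction.injective g (e.trans hg.symm)))
      refine ⟨(⟨x, hx⟩, ⟨x⁻¹ * g, (hK _).2 ⟨?_, ?_⟩⟩), Subtype.ext (by simp)⟩
      · rw [mul_smul, hg, hPα _ (inv_mem hx)]
      · rw [mul_smul, ← hxg, inv_smul_smul]
  have hP0 : 0 < Nat.card P := Nat.card_pos
  have hK2 : 2 * Nat.card K = Nat.card P - 1 := by
    rw [← hcK] at hcard
    apply Nat.eq_of_mul_eq_mul_left hP0
    rw [← hcard]; ring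
  obtain ⟨F, _, _, U, hF, hU, hUi, hUP, hUs, hUk⟩ := exists_field_of_irreducible_subgroup P hP hPc
    (K : Set G) (fun k hk => hPn k ((hK k).1 hk).1)
    (fun k hk l hl x _ => by
      rw [hKc k l ((hK k).1 hk).1 ((hK k).1 hk).2 ((hK l).1 hl).1 ((hK l).1 hl).2])
    (fun W hW hWK => by
      by_contra hcon
      push Not at hcon
      obtain ⟨⟨w, hw⟩, hw1⟩ := Subgroup.ne_bot_iff_exists_ne_one.1 hcon.1
      have hw1' : w ≠ 1 := fun e => hw1 (Subtype.ext e)
      -- `K` embeds in `W \ {1}`
      have h1 : Nat.card (Option K) ≤ Nat.card W := by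
        refine Nat.card_le_card_of_injective
          (fun k => k.elim 1 (fun k => ⟨k * w * (k : G)⁻¹, hWK _ k.2 _ hw⟩)) ?_
        have hne : ∀ k : K, (⟨k * w * (k : G)⁻¹, hWK _ k.2 _ hw⟩ : W) ≠ 1 := by
          intro k e
          apply hw1'
          have : (k : G) * w * (k : G)⁻¹ = 1 := congrArg Subtype.val e
          simpa using this
        rintro (_ | k) (_ | l) h
        · rfl
        · exact absurd h.symm (hne l)
        · exact absurd h (hne k)
        · have h2 : (k : G) * w * (k : G)⁻¹ = l * w * (l : G)⁻¹ := congrArg Subtype.val h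
          have hm := (hK _).1 (mul_mem (inv_mem l.2) k.2)
          rcases hsemi _ hm.1 hm.2 w (hW hw) (by
            calc (l : G)⁻¹ * k * w = (l : G)⁻¹ * (k * w * (k : G)⁻¹) * k := by group
              _ = w * ((l : G)⁻¹ * k) := by rw [h2]; group) with h3 | h3
          · rw [Subtype.ext (inv_mul_eq_one.1 h3).symm]
          · exact absurd h3 hw1'
      rw [Finite.card_option] at h1
      obtain ⟨m, hm⟩ := Subgroup.card_dvd_of_le hW
      have hm1 : m ≠ 1 := by
        rintro rfl
        exact hcon.2 (Subgroup.eq_of_le_of_card_ge hW (by omega))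
      have hm0 : m ≠ 0 := by rintro rfl; omega
      have : Nat.card W * 2 ≤ Nat.card W * m := Nat.mul_le_mul_left _ (by omega)
      omega)
  have hchar : ringChar F ≠ 2 := by
    intro e
    have := FiniteField.even_card_of_char_two e
    rw [hF] at this
    exact (Nat.not_even_iff_odd.2 hodd) (Nat.even_iff.2 this)
  have h2 : (2 : F) ≠ 0 := Ring.two_ne_zero hchar
  refine ⟨F, inferInstance, inferInstance, hF, equiv_of_regular h2 α β U hU
    (fun x => hPα _ (hUP x)) hβ ?_ ?_ ?_ (by rw [hF, hcard]) hmove ?_⟩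
  · intro x y h
    simp only at h
    apply hUi
    have := hreg _ (mul_mem (inv_mem (hUP y)) (hUP x)) (by rw [mul_smul, h, inv_smul_smul])
    exact (inv_mul_eq_one.1 this).symm
  · intro ω hω
    obtain ⟨z, hz, hzω⟩ := hsurj ω hω
    obtain ⟨x, rfl⟩ := hUs z hz
    exact ⟨x, hzω⟩
  · intro g hg
    obtain ⟨z, hz, hzg⟩ := hsurj (g • β) (fun e => hβ (MulAction.injective g (e.trans hg.symm)))
    obtain ⟨a, ha⟩ := hUk (z⁻¹ * g) ((hK _).2
      ⟨by rw [mul_smul, hg, hPα _ (inv_mem hz)], by rw [mul_smul, ← hzg, inv_smul_smul]⟩)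
    refine ⟨a, fun x => ?_⟩
    calc g * U x * g⁻¹ = z * (z⁻¹ * g * U x * (z⁻¹ * g)⁻¹) * z⁻¹ := by group
      _ = U (a * x) := by rw [ha, hPc _ hz _ (hUP _), mul_inv_cancel_right]
  · rcases hextra with h | h | h
    · exact Or.inl h
    · refine Or.inr (Or.inl ?_)
      rw [FiniteField.isSquare_neg_one_iff, hF]
      omega
    · exact Or.inr (Or.inr h)

end CL.PSL2Rec
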