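import Cfsg.Agent.Base

/-! Fixed points on cosets and conjugacy classes. -/

set_option autoImplicit false

namespace CL.Small

open MulAction Subgroup

variable {G : Type*} [Group G]

theorem smul_mk_eq_iff (H : Subgroup G) (x g : G) :
    x • (g : G ⧸ H) = (g : G ⧸ H) ↔ g⁻¹ * x * g ∈ H := by
  rw [MulAction.Quotient.smul_mk, smul_eq_mul, eq_comm, QuotientGroup.eq, mul_assoc]

/-- The number of `g` with `g⁻¹ x g ∈ H` is the number of fixed cosets times `|H|`. -/
theorem card_conj_mem_eq_fixedBy_mul (H : Subgroup G) (x : G) :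
    Nat.card {g : G // g⁻¹ * x * g ∈ H} = Nat.card (fixedBy (G ⧸ H) x) * Nat.card H := by
  have := QuotientGroup.card_preimage_mk H (fixedBy (G ⧸ H) x)
  rw [mul_comm, ← this]
  refine Nat.card_congr (Equiv.subtypeEquivRight fun g => ?_)
  rw [Set.mem_preimage, mem_fixedBy, smul_mk_eq_iff]

/-- The fibre of `g ↦ g⁻¹ x g` over a conjugate of `x` has the size of the centraliser. -/
theorem card_conj_fiber (x y : G) (h : IsConj x y) :
    Nat.card {g : G // g⁻¹ * x * g = y} = Nat.card (centralizer ({x} : Set G)) := by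
  obtain ⟨c, rfl⟩ := isConj_iff.mp h
  refine Nat.card_congr
    { toFun := fun g => ⟨g * c, ?_⟩
      invFun := fun g => ⟨g * c⁻¹, ?_⟩
      left_inv := fun g => by simp
      right_inv := fun g => by simp }
  · rw [mem_centralizer_singleton_iff]
    obtain ⟨g, hg⟩ := g
    dsimp only
    calc g * c * x = g * (c * x * c⁻¹) * c := by group
      _ = x * (g * c) := by rw [← hg]; group
  · have := mem_centralizer_singleton_iff.mp g.2
    calc (g * c⁻¹)⁻¹ * x * (g * c⁻¹) = c * ((g : G)⁻¹ * (x * g)) * c⁻¹ := by group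
      _ = c * x * c⁻¹ := by rw [← this]; group

/-- The number of `g` with `g⁻¹ x g ∈ S` is the number of conjugates in `S` times `|C(x)|`. -/
theorem card_conj_mem_eq_mul_centralizer [Finite G] (S : Set G) (x : G) :
    Nat.card {g : G // g⁻¹ * x * g ∈ S} =
      Nat.card {y : G // IsConj x y ∧ y ∈ S} * Nat.card (centralizer ({x} : Set G)) := by
  classical
  have := Fintype.ofFinite G
  let e : {g : G // g⁻¹ * x * g ∈ S} ≃
      Σ y : {y : G // IsConj x y ∧ y ∈ S}, {g : G // g⁻¹ * x * g = y} :=
    { toFun := fun g => ⟨⟨g.1⁻¹ * x * g, isConj_iff.mpr ⟨g.1⁻¹, by simp⟩, g.2⟩, g, rfl⟩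
      invFun := fun a => ⟨a.2.1, by rw [a.2.2]; exact a.1.2.2⟩
      left_inv := fun g => rfl
      right_inv := by
        rintro ⟨⟨y, hy⟩, g, hg⟩
        dsimp only at hg
        subst hg
        rfl }
  rw [Nat.card_congr e, Nat.card_sigma]
  rw [Finset.sum_congr rfl fun y _ => card_conj_fiber x y.1 y.2.1]
  simp

theorem card_conj_mul_card_centralizer [Finite G] (x : G) :
    Nat.card {y : G // IsConj x y} * Nat.card (centralizer ({x} : Set G)) = Nat.card G := by
  have := card_conj_mem_eq_mul_centralizer (Set.univ : Set G) x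
  simpa using this.symm

theorem card_conj_eq_index_centralizer [Finite G] (x : G) :
    Nat.card {y : G // IsConj x y} = (centralizer ({x} : Set G)).index := by
  have h1 := card_conj_mul_card_centralizer x
  have h2 := (centralizer ({x} : Set G)).index_mul_card
  exact Nat.eq_of_mul_eq_mul_right Nat.card_pos (h1.trans h2.symm)

/-- Fixed cosets times `|H|` is `|C(x)|` times the number of conjugates of `x` in `H`. -/
theorem card_fixedBy_quotient_mul_card [Finite G] (H : Subgroup G) (x : G) :
    Nat.card (fixedBy (G ⧸ H) x) * Nat.card H =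
      Nat.card {g : G // IsConj x g ∧ g ∈ H} * Nat.card (centralizer ({x} : Set G)) := by
  rw [← card_conj_mem_eq_fixedBy_mul]
  exact card_conj_mem_eq_mul_centralizer (H : Set G) x

theorem card_fixedBy_quotient_mul_card_conj [Finite G] (H : Subgroup G) (x : G) :
    Nat.card (fixedBy (G ⧸ H) x) * Nat.card {g : G // IsConj x g} =
      H.index * Nat.card {g : G // IsConj x g ∧ g ∈ H} := by
  have h1 := card_fixedBy_quotient_mul_card H x
  have h2 := card_conj_mul_card_centralizer x
  have h3 := H.index_mul_card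
  have hpos : 0 < Nat.card H * Nat.card (centralizer ({x} : Set G)) :=
    Nat.mul_pos Nat.card_pos Nat.card_pos
  refine Nat.eq_of_mul_eq_mul_right hpos ?_
  calc _ = (Nat.card (fixedBy (G ⧸ H) x) * Nat.card H) *
        (Nat.card {g : G // IsConj x g} * Nat.card (centralizer ({x} : Set G))) := by ring
    _ = _ := by rw [h1, h2, ← h3]; ring

end CL.Small
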