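import Cfsg.Agent.Base
import Cfsg.Agent.Small.FixedCosets
import Cfsg.Agent.Small.SimpleEmbed

/-! Groups with a Sylow subgroup of prime order. -/

set_option autoImplicit false

namespace CL.Small

open MulAction Subgroup Pointwise

variable {G : Type*} [Group G]

theorem eq_zpowers_of_card_prime {p : ℕ} (hp : p.Prime) {P : Subgroup G}
    (hP : Nat.card P = p) {z : G} (hz : z ∈ P) (h1 : z ≠ 1) : zpowers z = P := by
  have : Finite P := Nat.finite_of_card_ne_zero (hP ▸ hp.ne_zero)
  have hle : zpowers z ≤ P := (zpowers_le).mpr hz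
  have hd : Nat.card (zpowers z) ∣ p := hP ▸ card_dvd_of_le hle
  rcases (Nat.dvd_prime hp).mp hd with h | h
  · rw [Nat.card_zpowers, orderOf_eq_one_iff] at h
    exact absurd h h1
  · exact eq_of_le_of_card_ge hle (by rw [h, hP])

theorem orderOf_eq_of_mem_card_prime {p : ℕ} (hp : p.Prime) {P : Subgroup G}
    (hP : Nat.card P = p) {z : G} (hz : z ∈ P) (h1 : z ≠ 1) : orderOf z = p := by
  rw [← Nat.card_zpowers, eq_zpowers_of_card_prime hp hP hz h1, hP]

theorem exists_zpowers_eq_of_card_prime {p : ℕ} (hp : p.Prime) {P : Subgroup G}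
    (hP : Nat.card P = p) : ∃ z : G, orderOf z = p ∧ zpowers z = P := by
  have : Finite P := Nat.finite_of_card_ne_zero (hP ▸ hp.ne_zero)
  have : Nontrivial P := Finite.one_lt_card_iff_nontrivial.mp (hP ▸ hp.one_lt)
  obtain ⟨z, hz⟩ := exists_ne (1 : P)
  have h1 : (z : G) ≠ 1 := fun h => hz (Subtype.ext h)
  exact ⟨z, orderOf_eq_of_mem_card_prime hp hP z.2 h1, eq_zpowers_of_card_prime hp hP z.2 h1⟩

theorem centralizer_zpowers_eq (z : G) :
    centralizer ((zpowers z : Subgroup G) : Set G) = centralizer ({z} : Set G) := by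
  rw [zpowers_eq_closure, centralizer_closure]

/-- An element of the normaliser of a Sylow subgroup with `p`-power order lies in it. -/
theorem mem_sylow_of_mem_normalizer_of_orderOf {p : ℕ} (P : Sylow p G) {y : G} {k : ℕ}
    (hy : orderOf y = p ^ k) (hN : y ∈ normalizer (P : Set G)) : y ∈ (P : Subgroup G) := by
  have h1 : IsPGroup p (zpowers y) := by
    rintro ⟨_, j, rfl⟩
    refine ⟨k, Subtype.ext ?_⟩
    simp only [SubgroupClass.coe_pow, OneMemClass.coe_one]
    rw [← zpow_natCast, ← zpow_mul, mul_comm, zpow_mul, zpow_natCast, ← hy, pow_orderOf_eq_one,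
      one_zpow]
  have h2 := h1.inf_normalizer_sylow P
  have h3 : y ∈ zpowers y ⊓ normalizer (P : Set G) := ⟨mem_zpowers y, hN⟩
  rw [h2] at h3
  exact h3.2

/-- An element of order `p ^ k` is conjugate into any Sylow `p`-subgroup. -/
theorem exists_conj_mem_sylow_of_orderOf [Finite G] {p : ℕ} [Fact p.Prime] (P : Sylow p G)
    {y : G} {k : ℕ} (hy : orderOf y = p ^ k) : ∃ g : G, g⁻¹ * y * g ∈ (P : Subgroup G) := by
  have h1 : IsPGroup p (zpowers y) := IsPGroup.of_card (by rw [Nat.card_zpowers, hy])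
  obtain ⟨Q, hQ⟩ := h1.exists_le_sylow
  obtain ⟨g, rfl⟩ := exists_smul_eq G P Q
  refine ⟨g, ?_⟩
  have := hQ (mem_zpowers y)
  rw [Sylow.coe_subgroup_smul, mem_pointwise_smul_iff_inv_smul_mem] at this
  simpa using this

/-- If a non-identity element of a subgroup `P` of prime order is conjugated into `P` by `g`, then
`g` normalises `P`. -/
theorem mem_normalizer_of_conj_mem_card_prime {p : ℕ} (hp : p.Prime) {P : Subgroup G}
    (hP : Nat.card P = p) {z g : G} (hz : z ∈ P) (h1 : z ≠ 1) (hg : g * z * g⁻¹ ∈ P) :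
    g ∈ normalizer (P : Set G) := by
  have : Finite P := Nat.finite_of_card_ne_zero (hP ▸ hp.ne_zero)
  refine mem_normalizer_fintype (S := (P : Set G)) fun y hy => ?_
  rw [SetLike.mem_coe, ← eq_zpowers_of_card_prime hp hP hz h1] at hy
  obtain ⟨k, rfl⟩ := hy
  have := P.zpow_mem hg k
  rwa [conj_zpow] at this

/-- In the action on the cosets of the normaliser of a Sylow subgroup of prime order `p`, an
element of order `p` fixes exactly one point. -/
theorem card_fixedBy_eq_one_of_orderOf [Finite G] {p : ℕ} [hp : Fact p.Prime] (P : Sylow p G)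
    (hP : Nat.card (P : Subgroup G) = p) (y : G) (hy : orderOf y = p) :
    Nat.card (fixedBy (G ⧸ normalizer (P : Set G)) y) = 1 := by
  obtain ⟨g, hg⟩ := exists_conj_mem_sylow_of_orderOf P (k := 1) (by simpa using hy)
  rw [Nat.card_eq_one_iff_exists]
  refine ⟨⟨(g : G ⧸ normalizer (P : Set G)),
    (smul_mk_eq_iff _ _ _).mpr (le_normalizer hg)⟩, ?_⟩
  rintro ⟨q, hq⟩
  obtain ⟨h, rfl⟩ := QuotientGroup.mk_surjective q
  have h1 := (smul_mk_eq_iff _ _ _).mp hq
  have ho : ∀ a : G, orderOf (a⁻¹ * y * a) = p := fun a => by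
    rw [← hy]
    simpa using (MulAut.conj a⁻¹).orderOf_eq y
  have h2 := mem_sylow_of_mem_normalizer_of_orderOf P (k := 1) (by simpa using ho h) h1
  refine Subtype.ext (QuotientGroup.eq.mpr ?_)
  have hne : g⁻¹ * y * g ≠ 1 := fun h => hp.out.ne_one (by rw [← ho g, h, orderOf_one])
  refine mem_normalizer_of_conj_mem_card_prime hp.out hP hg hne ?_
  convert h2 using 1
  group

/-- An element normalising but not centralising a subgroup `P` of prime order fixes at most one
point in each `P`-orbit. -/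
theorem card_fixedBy_le_card_orbits {X : Type*} [MulAction G X] [Finite X] {p : ℕ}
    (hp : p.Prime) {P : Subgroup G} (hP : Nat.card P = p) {x : G}
    (hx : x ∈ normalizer (P : Set G)) (hx' : x ∉ centralizer (P : Set G)) :
    Nat.card (fixedBy X x) ≤ Nat.card (orbitRel.Quotient P X) := by
  refine Nat.card_le_card_of_injective
    (fun a : fixedBy X x => (Quotient.mk (orbitRel P X) a.1 : orbitRel.Quotient P X)) ?_
  rintro ⟨a, ha⟩ ⟨b, hb⟩ hab
  obtain ⟨z, rfl⟩ : a ∈ orbit P b := Quotient.exact hab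
  refine Subtype.ext ?_
  dsimp only
  by_cases hz : (z : G) = 1
  · rw [Subgroup.smul_def, hz, one_smul]
  have hc : (z : G)⁻¹ * (x * z * x⁻¹) ∈ P :=
    P.mul_mem (P.inv_mem z.2) ((mem_normalizer_iff.mp hx z).mp z.2)
  have hc1 : (z : G)⁻¹ * (x * z * x⁻¹) ≠ 1 := by
    intro h
    apply hx'
    rw [← eq_zpowers_of_card_prime hp hP z.2 hz, centralizer_zpowers_eq,
      mem_centralizer_singleton_iff]
    calc x * z = z * ((z : G)⁻¹ * (x * z * x⁻¹)) * x := by group
      _ = z * x := by rw [h, mul_one]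
  have hb' : x⁻¹ • b = b := by rw [inv_smul_eq_iff]; exact hb.symm
  have hfix : ((z : G)⁻¹ * (x * z * x⁻¹)) • b = b := by
    have ha' : x • (z : G) • b = (z : G) • b := ha
    rw [mul_smul, mul_smul, mul_smul, hb', ha', inv_smul_smul]
  have hz' : (z : G) ∈ stabilizer G b := by
    have h3 : zpowers ((z : G)⁻¹ * (x * z * x⁻¹)) ≤ stabilizer G b := zpowers_le.mpr hfix
    rw [eq_zpowers_of_card_prime hp hP hc hc1] at h3
    exact h3 z.2
  exact hz'

end CL.Small
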