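import Cfsg.Agent.Base
import Cfsg.Agent.Small.PrimeSylow

/-! Elements of prime order generating their own centraliser; counting elements of order `p`. -/

set_option autoImplicit false

namespace CL.Small

open MulAction Subgroup Pointwise

variable {G : Type*} [Group G]

theorem orderOf_conj_eq (a y : G) : orderOf (a * y * a⁻¹) = orderOf y := by
  simpa using (MulAut.conj a).orderOf_eq y

theorem orderOf_conj_eq' (a y : G) : orderOf (a⁻¹ * y * a) = orderOf y := by
  simpa using orderOf_conj_eq a⁻¹ y

theorem orderOf_eq_of_isConj {x y : G} (h : IsConj x y) : orderOf x = orderOf y := by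
  obtain ⟨c, rfl⟩ := isConj_iff.mp h
  rw [orderOf_conj_eq]

theorem card_centralizer_eq_of_isConj [Finite G] {x y : G} (h : IsConj x y) :
    Nat.card (centralizer ({x} : Set G)) = Nat.card (centralizer ({y} : Set G)) := by
  have h1 := card_conj_mul_card_centralizer x
  have h2 := card_conj_mul_card_centralizer y
  have h3 : Nat.card {g : G // IsConj x g} = Nat.card {g : G // IsConj y g} :=
    Nat.card_congr (Equiv.subtypeEquivRight fun g => ⟨h.symm.trans, h.trans⟩)
  have : Nonempty {g : G // IsConj x g} := ⟨⟨x, IsConj.refl x⟩⟩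
  refine Nat.eq_of_mul_eq_mul_left (Nat.card_pos (α := {g : G // IsConj x g})) ?_
  rw [h1, h3, h2]

/-- A self-centralising element of prime order generates a Sylow subgroup. -/
theorem exists_sylow_eq_zpowers_of_self_centralizing [Finite G] {p : ℕ} [hp : Fact p.Prime] {z : G}
    (hz : orderOf z = p) (hC : centralizer ({z} : Set G) = zpowers z) :
    ∃ P : Sylow p G, (P : Subgroup G) = zpowers z := by
  have hcard : Nat.card (zpowers z) = p := by rw [Nat.card_zpowers, hz]
  have h1 : IsPGroup p (zpowers z) := IsPGroup.of_card (n := 1) (by simpa using hcard)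
  obtain ⟨P, hP⟩ := h1.exists_le_sylow
  refine ⟨P, le_antisymm ?_ hP⟩
  have hz1 : z ≠ 1 := fun h => hp.out.ne_one (by rw [← hz, h, orderOf_one])
  have : Nontrivial (P : Subgroup G) :=
    ⟨⟨⟨z, hP (mem_zpowers z)⟩, 1, fun h => hz1 (congrArg Subtype.val h)⟩⟩
  have := P.isPGroup'.center_nontrivial
  obtain ⟨⟨w, hw⟩, hw1⟩ := exists_ne (1 : center (P : Subgroup G))
  have hw1' : (w : G) ≠ 1 := fun h => hw1 (Subtype.ext (Subtype.ext h))
  have hw2 : (w : G) ∈ zpowers z := by
    rw [← hC, mem_centralizer_singleton_iff]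
    exact (congrArg Subtype.val (mem_center_iff.mp hw ⟨z, hP (mem_zpowers z)⟩)).symm
  have h3 := eq_zpowers_of_card_prime hp.out hcard hw2 hw1'
  intro y hy
  rw [← hC, ← centralizer_zpowers_eq, ← h3, centralizer_zpowers_eq, mem_centralizer_singleton_iff]
  exact congrArg Subtype.val (mem_center_iff.mp hw ⟨y, hy⟩)

/-- If the Sylow `p`-subgroups have order `p`, there are `n_p (p - 1)` elements of order `p`. -/
theorem card_orderOf_eq_prime [Finite G] {p : ℕ} [hp : Fact p.Prime] (P : Sylow p G)
    (hP : Nat.card (P : Subgroup G) = p) :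
    Nat.card {g : G // orderOf g = p} = Nat.card (Sylow p G) * (p - 1) := by
  classical
  have := Fintype.ofFinite G
  have := Fintype.ofFinite (Sylow p G)
  have hQ : ∀ Q : Sylow p G, Nat.card (Q : Subgroup G) = p := fun Q => by
    rw [Q.card_eq_multiplicity, ← P.card_eq_multiplicity, hP]
  have hne : ∀ g : G, orderOf g = p → g ≠ 1 := fun g hg h =>
    hp.out.ne_one (by rw [← hg, h, orderOf_one])
  have hex : ∀ g : {g : G // orderOf g = p}, ∃ Q : Sylow p G, g.1 ∈ (Q : Subgroup G) := fun g => by
    have h1 : IsPGroup p (zpowers g.1) :=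
      IsPGroup.of_card (n := 1) (by rw [Nat.card_zpowers, g.2, pow_one])
    obtain ⟨Q, hQ⟩ := h1.exists_le_sylow
    exact ⟨Q, hQ (mem_zpowers _)⟩
  choose f hf using hex
  let e : {g : G // orderOf g = p} ≃ Σ Q : Sylow p G, {x : (Q : Subgroup G) // x ≠ 1} :=
    Equiv.ofBijective (fun g => ⟨f g, ⟨g.1, hf g⟩, fun h => hne _ g.2 (congrArg Subtype.val h)⟩)
      ⟨fun a b hab => by
        have := congrArg (fun x : Σ Q : Sylow p G, {x : (Q : Subgroup G) // x ≠ 1} => (x.2.1 : G))
          hab
        exact Subtype.ext this,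
      by
        rintro ⟨Q, ⟨x, hx⟩, hx1⟩
        have hx1' : x ≠ 1 := fun h => hx1 (Subtype.ext h)
        have ho := orderOf_eq_of_mem_card_prime hp.out (hQ Q) hx hx1'
        refine ⟨⟨x, ho⟩, ?_⟩
        have : f ⟨x, ho⟩ = Q := Sylow.ext (by
          rw [← eq_zpowers_of_card_prime hp.out (hQ Q) hx hx1',
            ← eq_zpowers_of_card_prime hp.out (hQ _) (hf ⟨x, ho⟩) hx1'])
        subst this
        rfl⟩
  rw [Nat.card_congr e, Nat.card_sigma]
  have : ∀ Q : Sylow p G, Nat.card {x : (Q : Subgroup G) // x ≠ 1} = p - 1 := fun Q => by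
    rw [Nat.card_eq_fintype_card, Fintype.card_subtype_compl, ← Nat.card_eq_fintype_card, hQ]
    simp
  rw [Finset.sum_congr rfl fun Q _ => this Q]
  simp

/-- A conjugation-invariant set of elements all having centralisers of order `c`: the number of
elements times `c` is the number of classes times `|G|`. -/
theorem card_mul_eq_card_classes_mul [Finite G] (q : G → Prop)
    (hq : ∀ x y, IsConj x y → q x → q y) (c : ℕ)
    (hc : ∀ x, q x → Nat.card (centralizer ({x} : Set G)) = c) :
    Nat.card {g : G // q g} * c =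
      Nat.card {k : ConjClasses G // ∃ g : G, ConjClasses.mk g = k ∧ q g} * Nat.card G := by
  classical
  have := Fintype.ofFinite G
  let e : {g : G // q g} ≃ Σ k : {k : ConjClasses G // ∃ g : G, ConjClasses.mk g = k ∧ q g},
      {g : G // ConjClasses.mk g = k.1} :=
    { toFun := fun g => ⟨⟨ConjClasses.mk g.1, g.1, rfl, g.2⟩, g.1, rfl⟩
      invFun := fun a => ⟨a.2.1, by
        obtain ⟨g, hg, hg'⟩ := a.1.2
        exact hq g _ (ConjClasses.mk_eq_mk_iff_isConj.mp (hg.trans a.2.2.symm)) hg'⟩
      left_inv := fun g => rfl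
      right_inv := by
        rintro ⟨⟨y, hy⟩, g, hg⟩
        dsimp only at hg
        subst hg
        rfl }
  rw [Nat.card_congr e, Nat.card_sigma, Finset.sum_mul]
  rw [Finset.sum_congr rfl (g := fun _ => Nat.card G)]
  · simp
  · rintro ⟨k, g, rfl, hg⟩ -
    rw [← card_conj_mul_card_centralizer g, hc g hg]
    congr 1
    exact Nat.card_congr (Equiv.subtypeEquivRight fun x => by
      rw [ConjClasses.mk_eq_mk_iff_isConj, isConj_comm])

/-- If one element of order `p` is self-centralising, all elements of order `p` have centraliser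
of order `p`. -/
theorem card_centralizer_of_self_centralizing [Finite G] {p : ℕ} [hp : Fact p.Prime] {z : G}
    (hz : orderOf z = p) (hC : centralizer ({z} : Set G) = zpowers z) {y : G}
    (hy : orderOf y = p) : Nat.card (centralizer ({y} : Set G)) = p := by
  obtain ⟨P, hP⟩ := exists_sylow_eq_zpowers_of_self_centralizing hz hC
  have hcard : Nat.card (zpowers z) = p := by rw [Nat.card_zpowers, hz]
  obtain ⟨g, hg⟩ := exists_conj_mem_sylow_of_orderOf P (k := 1) (by simpa using hy)
  have h1 : IsConj y (g⁻¹ * y * g) := isConj_iff.mpr ⟨g⁻¹, by simp⟩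
  rw [card_centralizer_eq_of_isConj h1]
  have hne : g⁻¹ * y * g ≠ 1 := fun h =>
    hp.out.ne_one (by rw [← hy, ← orderOf_conj_eq' g y, h, orderOf_one])
  rw [hP] at hg
  rw [← centralizer_zpowers_eq, eq_zpowers_of_card_prime hp.out hcard hg hne,
    centralizer_zpowers_eq, hC, hcard]

theorem centralizer_eq_zpowers_of_self_centralizing [Finite G] {p : ℕ} [Fact p.Prime] {z : G}
    (hz : orderOf z = p) (hC : centralizer ({z} : Set G) = zpowers z) {y : G}
    (hy : orderOf y = p) : centralizer ({y} : Set G) = zpowers y := by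
  refine (eq_of_le_of_card_ge (zpowers_le.mpr (mem_centralizer_singleton_iff.mpr rfl)) ?_).symm
  rw [card_centralizer_of_self_centralizing hz hC hy, Nat.card_zpowers, hy]

end CL.Small
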