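import Cfsg.Agent.Base

/-!
Elementary counting tools for "simple group of order `n`" arguments.
-/

set_option autoImplicit false
set_option linter.unusedSectionVars false
set_option linter.style.haveILetI false

namespace CL.SG

open Subgroup

variable {G : Type*} [Group G]

theorem stabilizer_conjAct_card (x : G) :
    Nat.card (MulAction.stabilizer (ConjAct G) x) = Nat.card (centralizer ({x} : Set G)) := by
  refine Nat.card_congr
    { toFun := fun g => ⟨ConjAct.ofConjAct g.1, ?_⟩
      invFun := fun g => ⟨ConjAct.toConjAct g.1, ?_⟩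
      left_inv := fun g => rfl
      right_inv := fun g => rfl }
  · have h := g.2
    rw [MulAction.mem_stabilizer_iff, ConjAct.smul_def] at h
    rw [mem_centralizer_singleton_iff]
    exact mul_inv_eq_iff_eq_mul.mp h
  · have h := g.2
    rw [mem_centralizer_singleton_iff] at h
    rw [MulAction.mem_stabilizer_iff, ConjAct.smul_def, ConjAct.ofConjAct_toConjAct]
    exact mul_inv_eq_iff_eq_mul.mpr h

/-- class size times centraliser order is the group order. -/
theorem ncard_isConj_mul_card_centralizer (x : G) :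
    {g : G | IsConj x g}.ncard * Nat.card (centralizer ({x} : Set G)) = Nat.card G := by
  have h1 : MulAction.orbit (ConjAct G) x = {g : G | IsConj x g} := by
    ext g
    rw [ConjAct.mem_orbit_conjAct]
    exact ⟨fun h => h.symm, fun h => IsConj.symm h⟩
  have h2 := Nat.card_congr (MulAction.orbitProdStabilizerEquivGroup (ConjAct G) x)
  rw [Nat.card_prod, stabilizer_conjAct_card, h1] at h2
  exact h2

theorem card_isConj_mul_card_centralizer (x : G) :
    Nat.card {g : G // IsConj x g} * Nat.card (centralizer ({x} : Set G)) = Nat.card G :=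
  ncard_isConj_mul_card_centralizer x

theorem orderOf_eq_of_isConj {x y : G} (h : IsConj x y) : orderOf y = orderOf x := by
  obtain ⟨c, rfl⟩ := isConj_iff.mp h
  exact (MulAut.conj c).orderOf_eq x

theorem centralizer_conj (x c : G) :
    centralizer ({c * x * c⁻¹} : Set G) =
      (centralizer ({x} : Set G)).map (MulAut.conj c).toMonoidHom := by
  ext g
  rw [mem_map_equiv, mem_centralizer_singleton_iff, mem_centralizer_singleton_iff]
  simp only [MulAut.conj_symm_apply]
  constructor
  · intro h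
    have : c⁻¹ * g * c * x = c⁻¹ * (g * (c * x * c⁻¹)) * c := by group
    rw [this, h]; group
  · intro h
    have : g * (c * x * c⁻¹) = c * (c⁻¹ * g * c * x) * c⁻¹ := by group
    rw [this, h]; group

theorem card_map_conj (H : Subgroup G) (c : G) :
    Nat.card (H.map (MulAut.conj c).toMonoidHom) = Nat.card H :=
  (Nat.card_congr (H.equivMapOfInjective _ (MulAut.conj c).injective).toEquiv).symm

theorem card_centralizer_eq_of_isConj {x y : G} (h : IsConj x y) :
    Nat.card (centralizer ({y} : Set G)) = Nat.card (centralizer ({x} : Set G)) := by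
  obtain ⟨c, rfl⟩ := isConj_iff.mp h
  rw [centralizer_conj, card_map_conj]

theorem zpowers_le_centralizer (x : G) : zpowers x ≤ centralizer ({x} : Set G) := by
  rw [zpowers_le, mem_centralizer_singleton_iff]

theorem centralizer_zpowers (x : G) :
    centralizer ((zpowers x : Subgroup G) : Set G) = centralizer ({x} : Set G) := by
  rw [zpowers_eq_closure, centralizer_closure]

theorem mem_centralizer_comm {x y : G} :
    x ∈ centralizer ({y} : Set G) ↔ y ∈ centralizer ({x} : Set G) := by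
  rw [mem_centralizer_singleton_iff, mem_centralizer_singleton_iff, eq_comm]

/-- In a simple group an element all of whose conjugates lie in a proper subgroup is trivial. -/
theorem eq_one_of_forall_conj_mem [IsSimpleGroup G] {H : Subgroup G} (hH : H ≠ ⊤) {x : G}
    (hx : ∀ g : G, g * x * g⁻¹ ∈ H) : x = 1 := by
  rcases H.normalCore_normal.eq_bot_or_eq_top with h | h
  · have : x ∈ H.normalCore := hx
    rwa [h, mem_bot] at this
  · exact absurd (top_le_iff.mp (h ▸ H.normalCore_le)) hH

theorem toPermHom_injective [IsSimpleGroup G] {H : Subgroup G} (hH : H ≠ ⊤) :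
    Function.Injective (MulAction.toPermHom G (G ⧸ H)) := by
  rw [← MonoidHom.ker_eq_bot_iff, ← normalCore_eq_ker]
  rcases H.normalCore_normal.eq_bot_or_eq_top with h | h
  · exact h
  · exact absurd (top_le_iff.mp (h ▸ H.normalCore_le)) hH

section Finite

variable [Finite G]

theorem card_dvd_factorial_index [IsSimpleGroup G] {H : Subgroup G} (hH : H ≠ ⊤) :
    Nat.card G ∣ (H.index).factorial := by
  have := card_dvd_of_injective _ (toPermHom_injective hH)
  rwa [Nat.card_perm] at this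

theorem eq_of_le_of_card_le {H K : Subgroup G} (h : H ≤ K) (hc : Nat.card K ≤ Nat.card H) :
    H = K :=
  eq_of_le_of_card_ge h hc

theorem exists_orderOf_eq_mem (H : Subgroup G) (p : ℕ) [Fact p.Prime] (h : p ∣ Nat.card H) :
    ∃ x ∈ H, orderOf x = p := by
  obtain ⟨x, hx⟩ := exists_prime_orderOf_dvd_card' p h
  exact ⟨x, x.2, by rw [← hx]; exact (Subgroup.orderOf_coe x)⟩

theorem orderOf_dvd_card_of_mem {H : Subgroup G} {x : G} (h : x ∈ H) :
    orderOf x ∣ Nat.card H := by
  have := orderOf_dvd_natCard (⟨x, h⟩ : H)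
  rwa [← Subgroup.orderOf_coe] at this

theorem card_subgroupOf {H K : Subgroup G} (hHK : H ≤ K) :
    Nat.card (H.subgroupOf K) = Nat.card H :=
  Nat.card_congr (subgroupOfEquivOfLe hHK).toEquiv

theorem index_subgroupOf_eq {H K : Subgroup G} (hHK : H ≤ K) {m : ℕ}
    (hc : Nat.card K = m * Nat.card H) : (H.subgroupOf K).index = m := by
  have := card_mul_index (H.subgroupOf K)
  rw [card_subgroupOf hHK, hc, mul_comm m] at this
  exact Nat.eq_of_mul_eq_mul_left Nat.card_pos this

theorem mul_mem_iff_of_card_two {H K : Subgroup G} (hHK : H ≤ K)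
    (hc : Nat.card K = 2 * Nat.card H) {a b : G} (ha : a ∈ K) (hb : b ∈ K) :
    a * b ∈ H ↔ (a ∈ H ↔ b ∈ H) :=
  mul_mem_iff_of_index_two (index_subgroupOf_eq hHK hc) (a := ⟨a, ha⟩) (b := ⟨b, hb⟩)

theorem mul_self_mem_of_card_two {H K : Subgroup G} (hHK : H ≤ K)
    (hc : Nat.card K = 2 * Nat.card H) {a : G} (ha : a ∈ K) : a * a ∈ H := by
  rw [mul_mem_iff_of_card_two hHK hc ha ha]

theorem conj_mem_of_card_two {H K : Subgroup G} (hHK : H ≤ K)
    (hc : Nat.card K = 2 * Nat.card H) {g x : G} (hg : g ∈ K) (hx : x ∈ H) : g * x * g⁻¹ ∈ H := by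
  rw [mul_mem_iff_of_card_two hHK hc (mul_mem hg (hHK hx)) (inv_mem hg),
    mul_mem_iff_of_card_two hHK hc hg (hHK hx), inv_mem_iff]
  simp [hx]

theorem le_normalizer_of_card_two {H K : Subgroup G} (hHK : H ≤ K)
    (hc : Nat.card K = 2 * Nat.card H) : K ≤ normalizer (H : Set G) := by
  intro g hg
  rw [mem_normalizer_iff]
  intro x
  refine ⟨conj_mem_of_card_two hHK hc hg, fun hx => ?_⟩
  simpa [mul_assoc] using conj_mem_of_card_two hHK hc (inv_mem hg) hx

/-- A group with a central subgroup of index two is commutative. -/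
theorem comm_of_card_two {H K : Subgroup G} (hHK : H ≤ K)
    (hc : Nat.card K = 2 * Nat.card H) (hZ : ∀ u ∈ H, ∀ a ∈ K, u * a = a * u) :
    ∀ a ∈ K, ∀ b ∈ K, a * b = b * a := by
  intro a ha b hb
  by_cases h1 : a ∈ H
  · exact hZ a h1 b hb
  by_cases h2 : b ∈ H
  · exact (hZ b h2 a ha).symm
  have h3 : a⁻¹ * b ∈ H := by
    rw [mul_mem_iff_of_card_two hHK hc (inv_mem ha) hb, inv_mem_iff]
    simp [h1, h2]
  have h4 := hZ _ h3 a ha
  calc a * b = a * (a * (a⁻¹ * b)) := by group
    _ = a * (a⁻¹ * b * a) := by rw [h4]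
    _ = b * a := by group

theorem exists_pow_eq_of_mem_zpowers {x y : G} (h : y ∈ zpowers x) :
    ∃ k < orderOf x, y = x ^ k := by
  rw [← mem_powers_iff_mem_zpowers] at h
  obtain ⟨k, rfl⟩ := h
  exact ⟨k % orderOf x, Nat.mod_lt _ (orderOf_pos x), (pow_mod_orderOf x k).symm⟩

theorem eq_sq_of_mem_zpowers {x y : G} (hx : orderOf x = 4) (hy : y ∈ zpowers x)
    (h2 : orderOf y = 2) : y = x ^ 2 := by
  obtain ⟨k, hk, rfl⟩ := exists_pow_eq_of_mem_zpowers hy
  rw [orderOf_pow, hx] at h2
  rw [hx] at hk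
  interval_cases k <;> first | rfl | (exfalso; revert h2; decide)

theorem comm_of_mul_self {H : Subgroup G} (h : ∀ a ∈ H, a * a = 1) :
    ∀ a ∈ H, ∀ b ∈ H, a * b = b * a := by
  intro a ha b hb
  have h1 := h _ (mul_mem ha hb)
  have h2 : a⁻¹ = a := inv_eq_of_mul_eq_one_right (h a ha)
  have h3 : b⁻¹ = b := inv_eq_of_mul_eq_one_right (h b hb)
  have h4 : (a * b)⁻¹ = a * b := inv_eq_of_mul_eq_one_right h1
  rw [← h4, mul_inv_rev, h2, h3]

theorem comm_of_mem_zpowers {x a b : G} (ha : a ∈ zpowers x) (hb : b ∈ zpowers x) :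
    a * b = b * a := by
  obtain ⟨i, rfl⟩ := ha
  obtain ⟨j, rfl⟩ := hb
  exact (Commute.zpow_zpow_self x i j).eq

variable {p : ℕ} [hp : Fact p.Prime]

theorem card_sylow_mul_card_normalizer (P : Sylow p G) :
    Nat.card (Sylow p G) * Nat.card (normalizer ((P : Subgroup G) : Set G)) = Nat.card G := by
  rw [P.card_eq_index_normalizer, mul_comm]
  exact card_mul_index _

theorem exists_sylow_mem {x : G} {k : ℕ} (hx : orderOf x ∣ p ^ k) : ∃ P : Sylow p G, x ∈ P := by
  have h : IsPGroup p (zpowers x) := IsPGroup.of_card_dvd_pow (n := k) (by rwa [Nat.card_zpowers])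
  obtain ⟨P, hP⟩ := h.exists_le_sylow
  exact ⟨P, hP (mem_zpowers x)⟩

theorem card_sylow_eq (P Q : Sylow p G) :
    Nat.card (P : Subgroup G) = Nat.card (Q : Subgroup G) :=
  Nat.card_congr (Sylow.equiv P Q).toEquiv

theorem card_sylow_of_eq (P : Sylow p G) {k m : ℕ} (h : Nat.card G = p ^ k * m)
    (hm : ¬ p ∣ m) : Nat.card (P : Subgroup G) = p ^ k := by
  have hm0 : m ≠ 0 := by rintro rfl; exact hm (dvd_zero p)
  rw [P.card_eq_multiplicity, h, Nat.factorization_mul (pow_ne_zero _ hp.out.ne_zero) hm0,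
    Nat.factorization_pow]
  simp [hp.out.factorization_self, Nat.factorization_eq_zero_of_not_dvd hm]

/-- A `p`-subgroup with the order of a Sylow subgroup is (the subgroup of) a Sylow subgroup. -/
theorem exists_sylow_eq (P : Sylow p G) {H : Subgroup G}
    (hH : Nat.card H = Nat.card (P : Subgroup G)) : ∃ Q : Sylow p G, (Q : Subgroup G) = H := by
  obtain ⟨k, hk⟩ := IsPGroup.iff_card.mp P.2
  have h : IsPGroup p H := IsPGroup.of_card (hH.trans hk)
  obtain ⟨Q, hQ⟩ := h.exists_le_sylow
  exact ⟨Q, (eq_of_le_of_card_le hQ (by rw [hH, card_sylow_eq P Q])).symm⟩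

omit hp in
theorem zpowers_eq_of_card_prime {H : Subgroup G} (hp : p.Prime) (hH : Nat.card H = p) {x : G}
    (hx : x ∈ H) (h1 : x ≠ 1) : zpowers x = H := by
  apply eq_of_le_of_card_le (zpowers_le.mpr hx)
  have h := orderOf_dvd_card_of_mem hx
  rw [hH] at h
  rcases (Nat.dvd_prime hp).mp h with h | h
  · exact absurd (orderOf_eq_one_iff.mp h) h1
  · rw [Nat.card_zpowers, h, hH]

omit hp in
theorem orderOf_eq_of_card_prime {H : Subgroup G} (hp : p.Prime) (hH : Nat.card H = p) {x : G}
    (hx : x ∈ H) (h1 : x ≠ 1) : orderOf x = p := by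
  rw [← Nat.card_zpowers, zpowers_eq_of_card_prime hp hH hx h1, hH]

/-- A `p`-element normalising a Sylow `p`-subgroup lies in it. -/
theorem mem_sylow_of_mem_normalizer (P : Sylow p G) {x : G} {k : ℕ} (hx : orderOf x ∣ p ^ k)
    (hn : x ∈ normalizer ((P : Subgroup G) : Set G)) : x ∈ (P : Subgroup G) := by
  have h : IsPGroup p (zpowers x) := IsPGroup.of_card_dvd_pow (n := k) (by rwa [Nat.card_zpowers])
  have h2 := h.inf_normalizer_sylow P
  have h3 : x ∈ zpowers x ⊓ normalizer ((P : Subgroup G) : Set G) := ⟨mem_zpowers x, hn⟩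
  have h4 : x ∈ zpowers x ⊓ (P : Subgroup G) := h2 ▸ h3
  exact h4.2

/-- If distinct Sylow `p`-subgroups meet trivially, count the non-identity `p`-elements. -/
theorem ncard_pElements_of_TI (P : Sylow p G)
    (hTI : ∀ (Q R : Sylow p G) (x : G), x ∈ Q → x ∈ R → x ≠ 1 → Q = R) :
    {g : G | g ≠ 1 ∧ ∃ k, orderOf g = p ^ k}.ncard =
      Nat.card (Sylow p G) * (Nat.card (P : Subgroup G) - 1) := by
  classical
  have hfib : ∀ Q : Sylow p G,
      Nat.card {g : G // g ∈ Q ∧ g ≠ 1} = Nat.card (P : Subgroup G) - 1 := by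
    intro Q
    rw [card_sylow_eq P Q]
    have h1 : {g : G | g ∈ Q ∧ g ≠ 1} = ((Q : Subgroup G) : Set G) \ {1} := by
      ext g; simp
    change {g : G | g ∈ Q ∧ g ≠ 1}.ncard = _
    rw [h1, Set.ncard_sdiff_singleton_of_mem (Q : Subgroup G).one_mem]
    rfl
  have e : {g : G | g ≠ 1 ∧ ∃ k, orderOf g = p ^ k} ≃
      Σ Q : Sylow p G, {g : G // g ∈ Q ∧ g ≠ 1} := by
    refine (Equiv.ofBijective (fun y => (⟨y.2.1, y.2.2.2, ?_⟩ :
      {g : G | g ≠ 1 ∧ ∃ k, orderOf g = p ^ k})) ⟨?_, ?_⟩).symm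
    · obtain ⟨k, hk⟩ := IsPGroup.iff_orderOf.mp y.1.2 ⟨y.2.1, y.2.2.1⟩
      exact ⟨k, by rw [← hk]; exact (Subgroup.orderOf_mk _ _).symm⟩
    · rintro ⟨Q, g, hg, hg1⟩ ⟨R, g', hg', hg1'⟩ h
      have h' : g = g' := congrArg Subtype.val h
      subst h'
      have := hTI Q R g hg hg' hg1
      subst this
      rfl
    · rintro ⟨g, hg1, k, hk⟩
      obtain ⟨Q, hQ⟩ := exists_sylow_mem (p := p) (k := k) hk.dvd
      exact ⟨⟨Q, g, hQ, hg1⟩, rfl⟩
  change Nat.card {g : G | g ≠ 1 ∧ ∃ k, orderOf g = p ^ k} = _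
  haveI := Fintype.ofFinite (Sylow p G)
  rw [Nat.card_congr e, Nat.card_sigma]
  simp [hfib]

/-- The number of elements of order `p` when the Sylow `p`-subgroups have order `p`. -/
theorem ncard_orderOf_eq_prime (P : Sylow p G) (hP : Nat.card (P : Subgroup G) = p) :
    {g : G | orderOf g = p}.ncard = Nat.card (Sylow p G) * (p - 1) := by
  have h := ncard_pElements_of_TI P (by
    intro Q R x hQ hR h1
    apply Sylow.ext
    rw [← zpowers_eq_of_card_prime hp.out ((card_sylow_eq Q P).trans hP) hQ h1,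
      ← zpowers_eq_of_card_prime hp.out ((card_sylow_eq R P).trans hP) hR h1])
  rw [hP] at h
  rw [← h]
  congr 1
  ext g
  constructor
  · intro hg
    have hg : orderOf g = p := hg
    refine ⟨?_, 1, by simpa using hg⟩
    rintro rfl
    rw [orderOf_one] at hg
    exact hp.out.one_lt.ne hg
  · rintro ⟨hg1, k, hk⟩
    obtain ⟨Q, hQ⟩ := exists_sylow_mem (p := p) (k := k) hk.dvd
    exact orderOf_eq_of_card_prime hp.out ((card_sylow_eq Q P).trans hP) hQ hg1

/-- The union bound: the number of `p`-elements is at most `n_p * |P|`. -/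
theorem ncard_pElements_le (P : Sylow p G) :
    {g : G | ∃ k, orderOf g ∣ p ^ k}.ncard ≤ Nat.card (Sylow p G) * Nat.card (P : Subgroup G) := by
  classical
  haveI := Fintype.ofFinite (Sylow p G)
  have hs : Function.Surjective (fun y : (Σ Q : Sylow p G, (Q : Subgroup G)) =>
      (⟨y.2.1, by
        obtain ⟨k, hk⟩ := IsPGroup.iff_orderOf.mp y.1.2 y.2
        exact ⟨k, by rw [← hk, Subgroup.orderOf_coe]⟩⟩ : {g : G | ∃ k, orderOf g ∣ p ^ k})) := by
    rintro ⟨g, k, hk⟩
    obtain ⟨Q, hQ⟩ := exists_sylow_mem hk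
    exact ⟨⟨Q, g, hQ⟩, rfl⟩
  have := Nat.card_le_card_of_surjective _ hs
  rw [Nat.card_sigma] at this
  change Nat.card {g : G | ∃ k, orderOf g ∣ p ^ k} ≤ _
  refine this.trans (le_of_eq ?_)
  simp [fun Q => card_sylow_eq Q P]

/-- Burnside's transfer theorem in a simple group. -/
theorem not_normalizer_le_centralizer [IsSimpleGroup G] (P : Sylow p G)
    (h1 : (P : Subgroup G) ≠ ⊥) (h2 : (P : Subgroup G) ≠ ⊤) :
    ¬ normalizer ((P : Subgroup G) : Set G) ≤ centralizer ((P : Subgroup G) : Set G) := by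
  intro h
  have hc := MonoidHom.ker_transferSylow_isComplement' P h
  rcases (MonoidHom.normal_ker (MonoidHom.transferSylow P h)).eq_bot_or_eq_top with hk | hk
  · rw [hk] at hc
    exact h2 (isComplement'_bot_left.mp hc)
  · rw [hk] at hc
    exact h1 (isComplement'_top_left.mp hc)

theorem card_sylow_ne_one [IsSimpleGroup G] (P : Sylow p G)
    (h1 : (P : Subgroup G) ≠ ⊥) (h2 : (P : Subgroup G) ≠ ⊤) : Nat.card (Sylow p G) ≠ 1 := by
  intro h
  haveI : Subsingleton (Sylow p G) := (Nat.card_eq_one_iff_unique.mp h).1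
  rcases (P.normal_of_subsingleton).eq_bot_or_eq_top with h | h
  · exact h1 h
  · exact h2 h

theorem normalizer_ne_top [IsSimpleGroup G] {H : Subgroup G} (h1 : H ≠ ⊥) (h2 : H ≠ ⊤) :
    normalizer (H : Set G) ≠ ⊤ := by
  intro h
  rcases (normalizer_eq_top_iff.mp h).eq_bot_or_eq_top with h | h
  · exact h1 h
  · exact h2 h

theorem card_dvd_factorial_card_sylow [IsSimpleGroup G] (P : Sylow p G)
    (h1 : (P : Subgroup G) ≠ ⊥) (h2 : (P : Subgroup G) ≠ ⊤) :
    Nat.card G ∣ (Nat.card (Sylow p G)).factorial := by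
  rw [P.card_eq_index_normalizer]
  exact card_dvd_factorial_index (normalizer_ne_top h1 h2)

omit hp in
theorem ne_bot_of_card {H : Subgroup G} (h : Nat.card H ≠ 1) : H ≠ ⊥ := by
  rintro rfl
  exact h card_bot

omit hp in
theorem ne_top_of_card {H : Subgroup G} (h : Nat.card H ≠ Nat.card G) : H ≠ ⊤ := by
  rintro rfl
  exact h card_top

omit hp in
/-- `|N(H)| = |C(H)| * m` with `m ∣ |Aut H|`. -/
theorem exists_card_normalizer_eq (H : Subgroup G) :
    ∃ m : ℕ, m ∣ Nat.card (MulAut H) ∧
      Nat.card (normalizer (H : Set G)) = Nat.card (centralizer (H : Set G)) * m := by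
  refine ⟨(centralizer (H : Set G)).relIndex (normalizer (H : Set G)), ?_, ?_⟩
  · have key := card_dvd_of_injective _ (QuotientGroup.kerLift_injective H.normalizerMonoidHom)
    rwa [normalizerMonoidHom_ker, ← index, ← relIndex] at key
  · rw [relIndex, ← card_mul_index ((centralizer (H : Set G)).subgroupOf (normalizer (H : Set G))),
      Nat.card_congr (subgroupOfEquivOfLe (centralizer_le_normalizer (H : Set G))).toEquiv]

omit hp in
theorem exists_card_normalizer_eq_of_isCyclic (H : Subgroup G) (hH : IsCyclic H) :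
    ∃ m : ℕ, m ∣ (Nat.card H).totient ∧
      Nat.card (normalizer (H : Set G)) = Nat.card (centralizer (H : Set G)) * m := by
  obtain ⟨m, h1, h2⟩ := exists_card_normalizer_eq H
  exact ⟨m, hH.card_mulAut ▸ h1, h2⟩

omit hp in
theorem exists_card_normalizer_eq_of_prime (H : Subgroup G) (hp : p.Prime) (hH : Nat.card H = p) :
    ∃ m : ℕ, m ∣ p - 1 ∧
      Nat.card (normalizer (H : Set G)) = Nat.card (centralizer (H : Set G)) * m := by
  haveI := Fact.mk hp
  obtain ⟨m, h1, h2⟩ := exists_card_normalizer_eq_of_isCyclic H (isCyclic_of_prime_card hH)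
  exact ⟨m, by rwa [hH, Nat.totient_prime hp] at h1, h2⟩

end Finite

end CL.SG
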