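import Cfsg.Agent.Base

/-!
# The arithmetic sieve for orders of simple groups: the computable part
-/

set_option autoImplicit false

namespace CL.Sieve

/-- the block intersection condition -/
def Inter (n p k : ℕ) (W : Multiset ℤ) : Prop :=
  ∀ q b : ℕ, q.Prime → q ≠ p → ¬ q ∣ k → q ^ b ∣ n → ∃ m ≤ W, ((q ^ b : ℕ) : ℤ) ∣ 1 + m.sum ∧
    (∀ w ∈ m, ¬ w.natAbs ∣ q ^ b ∧ q ∣ n / w.natAbs) ∧
    (q ∣ n → ¬ q ^ 2 ∣ n → ∃ x, ∀ w ∈ m, w.natAbs % q = 1 ∨ (w.natAbs + 1) % q = 0 ∨ w.natAbs = x)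

/-- the arithmetic consequences of Brauer's theorem -/
def Brauer (n p s : ℕ) : Prop :=
  ∃ (e k t : ℕ) (T : ℤ) (L : Multiset ℤ), n = p * k * e * s ∧ e * t = p - 1 ∧ L.card + 1 = e ∧
    (∀ v ∈ T ::ₘ L, 1 < v.natAbs ∧ v.natAbs ∣ e * s ∧ (k ≠ 1 → 2 * p ≤ v.natAbs) ∧
      (k = 1 → Even e → Odd t → v ≠ 1 - p)) ∧
    (∀ v ∈ L, (p : ℤ) ∣ v - 1) ∧ (p : ℤ) ∣ T + e ∧ 1 + L.sum + T = 0 ∧
    1 + (L.map fun v => v.natAbs * v.natAbs).sum + t * (T.natAbs * T.natAbs) ≤ n ∧
    Inter n p k (T ::ₘ L)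

/-- small primes, descending -/
def SP : List ℕ :=
  [79, 73, 71, 67, 61, 59, 53, 47, 43, 41, 37, 31, 29, 23, 19, 17, 13, 11, 7, 5, 3, 2]

/-- their product -/
def PP : ℕ := 3217644767340672907899084554130

theorem prime_of_mem_SP : ∀ q ∈ SP, q.Prime := by
  simp only [SP, List.mem_cons, List.not_mem_nil, or_false, forall_eq_or_imp, forall_eq]
  norm_num

/-- subset sums of the allowed entries -/
def sums (al : ℤ → Bool) : List ℤ → List ℤ
  | [] => [0]
  | v :: vs => if al v then sums al vs ++ (sums al vs).map (v + ·) else sums al vs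

theorem mem_sums (al : ℤ → Bool) (l : List ℤ) : ∀ m : Multiset ℤ, m ≤ (l : Multiset ℤ) →
    (∀ w ∈ m, al w = true) → m.sum ∈ sums al l := by
  induction l with
  | nil => intro m hm _; simp [Multiset.le_zero.mp hm, sums]
  | cons v vs ih =>
    intro m hm hal
    rw [← Multiset.cons_coe] at hm
    by_cases hv : v ∈ m
    · obtain ⟨m', rfl⟩ := Multiset.exists_cons_of_mem hv
      have := ih m' ((Multiset.cons_le_cons_iff v).mp hm)
        fun w hw => hal w (Multiset.mem_cons_of_mem hw)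
      rw [sums, if_pos (hal v hv), Multiset.sum_cons]
      exact List.mem_append_right _ (List.mem_map_of_mem this)
    · have := ih m ((Multiset.le_cons_of_notMem hv).mp hm) hal
      rw [sums]
      split_ifs
      · exact List.mem_append_left _ this
      · exact this

/-- allowed degrees in the principal `q`-block -/
def allowed (n q Q x : ℕ) (w : ℤ) : Bool :=
  Q % w.natAbs != 0 && (n / w.natAbs) % q == 0 &&
    (n % (q * q) == 0 || w.natAbs % q == 1 || (w.natAbs + 1) % q == 0 || w.natAbs == x)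

/-- computable form of `Inter` -/
def interB (n p k : ℕ) (W : List ℤ) : Bool :=
  SP.all fun q => n % q != 0 || q == p || k % q == 0 ||
    (0 :: W.map Int.natAbs).any fun x =>
      (sums (allowed n q (Nat.gcd n (q ^ 20)) x) W).any fun σ =>
        (1 + σ).natAbs % Nat.gcd n (q ^ 20) == 0

theorem exists_gcd_eq_pow {q : ℕ} (hq : q.Prime) (n : ℕ) :
    ∃ b, Nat.gcd n (q ^ 20) = q ^ b := by
  obtain ⟨b, -, hb⟩ := (Nat.dvd_prime_pow hq).mp (Nat.gcd_dvd_right n (q ^ 20))
  exact ⟨b, hb⟩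

theorem interB_of_inter {n p k : ℕ} {W : List ℤ} (h : Inter n p k W) : interB n p k W = true := by
  rw [interB, List.all_eq_true]
  intro q hq
  have hq' := prime_of_mem_SP q hq
  by_cases h1 : q ∣ n
  swap
  · simp [← Nat.dvd_iff_mod_eq_zero, h1]
  by_cases h2 : q = p
  · simp [h2]
  by_cases h3 : q ∣ k
  · simp [← Nat.dvd_iff_mod_eq_zero, h3]
  obtain ⟨b, hb⟩ := exists_gcd_eq_pow hq' n
  obtain ⟨m, hm, h4, h5, h6⟩ := h q b hq' h2 h3 (hb ▸ Nat.gcd_dvd_left _ _)
  have hal : ∀ x, ∀ w ∈ m, (q * q ∣ n ∨ w.natAbs % q = 1 ∨ (w.natAbs + 1) % q = 0 ∨ w.natAbs = x) →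
      allowed n q (q ^ b) x w = true := fun x w hw h => by
    have h7 := h5 w hw
    rw [Nat.dvd_iff_mod_eq_zero, Nat.dvd_iff_mod_eq_zero] at h7
    rw [Nat.dvd_iff_mod_eq_zero] at h
    simp only [allowed, Bool.and_eq_true, Bool.or_eq_true, beq_iff_eq, bne_iff_ne]
    tauto
  obtain ⟨x, hx, h7⟩ : ∃ x ∈ 0 :: W.map Int.natAbs, ∀ w ∈ m, allowed n q (q ^ b) x w = true := by
    by_cases h8 : q ^ 2 ∣ n
    · exact ⟨0, List.mem_cons_self, fun w hw => hal _ w hw (Or.inl (pow_two q ▸ h8))⟩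
    · obtain ⟨x, hx⟩ := h6 h1 h8
      by_cases h9 : x ∈ W.map Int.natAbs
      · exact ⟨x, List.mem_cons_of_mem _ h9, fun w hw => hal _ w hw (Or.inr (hx w hw))⟩
      · refine ⟨0, List.mem_cons_self, fun w hw => hal _ w hw ?_⟩
        have : w.natAbs ≠ x := fun h =>
          h9 (h ▸ List.mem_map_of_mem (Multiset.mem_of_le hm hw))
        have := hx w hw
        tauto
  simp only [Bool.or_eq_true, List.any_eq_true]
  refine Or.inr ⟨x, hx, m.sum, hb ▸ mem_sums _ W m hm h7, ?_⟩
  rw [hb, beq_iff_eq, ← Nat.dvd_iff_mod_eq_zero]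
  exact Int.natCast_dvd.mp h4

/-- search for a multiset of candidates with given size, sum and bounded sum of squares -/
def search (fin : List ℤ → Bool) : List ℤ → ℕ → ℤ → ℕ → List ℤ → Bool
  | [], c, t, _, acc => c == 0 && t == 0 && fin acc
  | v :: vs, c, t, b, acc => (List.range (c + 1)).any fun j =>
      Nat.ble (j * (v.natAbs * v.natAbs)) b &&
        search fin vs (c - j) (t - j * v) (b - j * (v.natAbs * v.natAbs))
          (List.replicate j v ++ acc)

theorem search_eq_true (fin : List ℤ → Bool) (C : List ℤ) : ∀ (L : Multiset ℤ) (b : ℕ)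
    (acc : List ℤ), (∀ v ∈ L, v ∈ C) → (L.map fun v => v.natAbs * v.natAbs).sum ≤ b →
    (∀ W : List ℤ, (W : Multiset ℤ) = L + acc → fin W = true) →
    search fin C L.card L.sum b acc = true := by
  induction C with
  | nil =>
    intro L b acc h1 _ h3
    have : L = 0 := Multiset.eq_zero_of_forall_notMem fun v hv => by simpa using h1 v hv
    subst this
    simp [search, h3 acc (by simp)]
  | cons v vs ih =>
    intro L b acc h1 h2 h3
    obtain ⟨j, L', rfl, hL'⟩ : ∃ j L', L = Multiset.replicate j v + L' ∧ v ∉ L' :=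
      ⟨L.count v, L.filter (· ≠ v), by
        rw [← Multiset.filter_eq', Multiset.filter_add_not], by simp⟩
    simp only [Multiset.map_add, Multiset.map_replicate, Multiset.sum_add, Multiset.sum_replicate,
      smul_eq_mul, Multiset.card_add, Multiset.card_replicate, nsmul_eq_mul] at h2 ⊢
    rw [search, List.any_eq_true]
    refine ⟨j, List.mem_range.mpr (by omega), ?_⟩
    rw [Bool.and_eq_true, Nat.ble_eq, Nat.add_sub_cancel_left, add_sub_cancel_left]
    refine ⟨by simpa using le_trans (Nat.le_add_right _ _) h2,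
      ih L' _ _ (fun w hw => ?_) (by omega) fun W hW => h3 W ?_⟩
    · exact (List.mem_cons.mp (h1 w (Multiset.mem_add.mpr (Or.inr hw)))).resolve_left
        fun h => hL' (h ▸ hw)
    · rw [hW, ← Multiset.coe_add, Multiset.coe_replicate]
      abel

/-- signed candidate degrees -/
def cands (B n p e k t s : ℕ) : List ℤ :=
  (((List.range B).filter fun d => Nat.blt 1 d && (e * s) % d == 0 && Nat.ble (d * d) n &&
    (k == 1 || Nat.ble (2 * p) d)).flatMap fun d : ℕ => [(d : ℤ), -(d : ℤ)]).filter fun v =>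
      !(k == 1 && e % 2 == 0 && t % 2 == 1 && v == 1 - p)

theorem mem_cands {B n p e k t s : ℕ} (hB : n < B * B) {v : ℤ} (h1 : 1 < v.natAbs)
    (h2 : v.natAbs ∣ e * s) (h3 : k ≠ 1 → 2 * p ≤ v.natAbs)
    (h4 : k = 1 → Even e → Odd t → v ≠ 1 - p) (h5 : v.natAbs * v.natAbs ≤ n) :
    v ∈ cands B n p e k t s := by
  simp only [cands, List.mem_filter, List.mem_flatMap, List.mem_range, Bool.and_eq_true,
    Nat.blt_eq, Nat.ble_eq, beq_iff_eq, Bool.or_eq_true, Bool.not_eq_true', ← Bool.not_eq_true,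
    ← Nat.odd_iff, ← Nat.dvd_iff_mod_eq_zero]
  rw [even_iff_two_dvd] at h4
  refine ⟨⟨v.natAbs, ⟨by nlinarith, ⟨⟨h1, h2⟩, h5⟩, by tauto⟩, ?_⟩, by tauto⟩
  simp only [List.mem_cons, List.not_mem_nil, or_false]
  omega

/-- computable form of `Brauer` -/
def brauerB (B n p s : ℕ) : Bool :=
  (List.range p).any fun e => e != 0 && (p - 1) % e == 0 && (n / (p * s)) % e == 0 &&
    let k := n / (p * s) / e
    let t := (p - 1) / e
    let C := cands B n p e k t s
    (C.filter fun T : ℤ => (T + e).natAbs % p == 0).any fun T : ℤ =>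
      Nat.ble (1 + t * (T.natAbs * T.natAbs)) n &&
        search (interB n p k) (C.filter fun v : ℤ => (v - 1).natAbs % p == 0) (e - 1) (-1 - T)
          (n - (1 + t * (T.natAbs * T.natAbs))) [T]

theorem brauerB_of_brauer {B n p s : ℕ} (hB : n < B * B) (hp : 2 ≤ p) (hn : n ≠ 0)
    (h : Brauer n p s) : brauerB B n p s = true := by
  obtain ⟨e, k, t, T, L, h1, h2, h3, h4, h5, h6, h7, h8, h9⟩ := h
  have he : 0 < e := by omega
  have ht : 0 < t := Nat.pos_of_ne_zero fun h => by rw [h] at h2; omega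
  have hps : 0 < p * s := Nat.pos_of_ne_zero fun h => hn (by
    rw [h1]; linarith [show p * k * e * s = p * s * (k * e) by ring, congrArg (· * (k * e)) h])
  have h10 : n / (p * s) = k * e := by
    rw [h1, show p * k * e * s = p * s * (k * e) by ring, Nat.mul_div_cancel_left _ hps]
  have h11 : (p - 1) / e = t := by rw [← h2, Nat.mul_div_cancel_left _ he]
  rw [brauerB, List.any_eq_true]
  refine ⟨e, List.mem_range.mpr (by nlinarith [Nat.sub_add_cancel (by omega : 1 ≤ p)]), ?_⟩
  simp only [h10, h11, Nat.mul_div_cancel _ he, Nat.mul_mod_left, Bool.and_eq_true,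
    List.any_eq_true, List.mem_filter, beq_iff_eq, Nat.ble_eq, bne_iff_ne]
  refine ⟨⟨⟨he.ne', by rw [← h2, Nat.mul_mod_right]⟩, trivial⟩, T, ⟨?_, ?_⟩, by omega, ?_⟩
  · obtain ⟨a, b, c, d⟩ := h4 T (Multiset.mem_cons_self _ _)
    exact mem_cands hB a b c d (le_trans (Nat.le_mul_of_pos_left _ ht) (by omega))
  · rw [← Nat.dvd_iff_mod_eq_zero]
    exact Int.natCast_dvd.mp h6
  · rw [show e - 1 = L.card by omega, show -1 - T = L.sum by omega]
    refine search_eq_true _ _ L _ _ (fun v hv => ?_) (by omega) fun W hW => interB_of_inter ?_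
    · obtain ⟨a, b, c, d⟩ := h4 v (Multiset.mem_cons_of_mem hv)
      rw [List.mem_filter, beq_iff_eq, ← Nat.dvd_iff_mod_eq_zero]
      refine ⟨mem_cands hB a b c d ?_, Int.natCast_dvd.mp (h5 v hv)⟩
      have := Multiset.single_le_sum (s := L.map fun v => v.natAbs * v.natAbs)
        (fun _ _ => Nat.zero_le _) _ (Multiset.mem_map_of_mem _ hv)
      omega
    · rw [hW, add_comm]
      exact h9

/-- necessary condition for an index -/
def facOK (n s : ℕ) : Bool := Nat.ble 40 s || s.factorial % (2 * n) == 0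

theorem facOK_of_dvd {n s : ℕ} (h : 2 * n ∣ s.factorial) : facOK n s = true := by
  simp [facOK, ← Nat.dvd_iff_mod_eq_zero, h]

/-- divisors of `m` bigger than `1` and congruent to `1` modulo `p` -/
def sylows (p m : ℕ) : List ℕ :=
  ((List.range (m / p + 1)).map fun j => 1 + p * j).filter fun s => Nat.blt 1 s && m % s == 0

theorem mem_sylows {p m s : ℕ} (hm : m ≠ 0) (h1 : 1 < s) (h2 : s ∣ m) (h3 : s % p = 1) :
    s ∈ sylows p m := by
  simp only [sylows, List.mem_filter, List.mem_map, List.mem_range, Bool.and_eq_true, Nat.blt_eq,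
    beq_iff_eq, ← Nat.dvd_iff_mod_eq_zero]
  refine ⟨⟨s / p, Nat.lt_succ_of_le (Nat.div_le_div_right (Nat.le_of_dvd (by omega) h2)), ?_⟩,
    h1, h2⟩
  rw [← h3, Nat.mod_add_div]

/-- the test at the prime `p` -/
def killP (B n p : ℕ) : Bool :=
  let Q := Nat.gcd n (p ^ 20)
  let m := n / Q
  n % p == 0 && m % p != 0 &&
    (sylows p m).all fun s => !facOK n s ||
      if Q == p then !brauerB B n p s
      else s % (p * p) != 1 && (sylows p m).all fun s' => !facOK n (m / s')

/-- primality of the large prime factor -/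
def isPrimeB (c : ℕ) : Bool := Nat.ble 2 c && Nat.blt c 6889 && Nat.gcd c PP == 1

theorem prime_of_isPrimeB {c : ℕ} (h : isPrimeB c = true) : c.Prime := by
  simp only [isPrimeB, Bool.and_eq_true, Nat.ble_eq, Nat.blt_eq, beq_iff_eq] at h
  by_contra hc
  have h1 := Nat.minFac_sq_le_self (by omega) hc
  have h2 := Nat.minFac_prime (n := c) (by omega)
  have h3 : c.minFac < 83 := by nlinarith
  have h4 : ∀ m < 83, m.Prime → m ∣ PP := by decide +kernel
  have h5 := Nat.dvd_gcd (Nat.minFac_dvd c) (h4 _ h3 h2)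
  rw [h.2] at h5
  exact h2.not_dvd_one h5

/-- the prime factors, descending -/
def primesOf (n : ℕ) : List ℕ :=
  ([n / Nat.gcd n (PP ^ 13)].filter isPrimeB) ++ SP.filter fun q => n % q == 0

theorem prime_of_mem_primesOf {n q : ℕ} (h : q ∈ primesOf n) : q.Prime := by
  simp only [primesOf, List.mem_append, List.mem_filter] at h
  exact h.elim (fun h => prime_of_isPrimeB h.2) fun h => prime_of_mem_SP q h.1

/-- the sieve -/
def kill (B n : ℕ) : Bool :=
  Nat.blt n (B * B) &&
    let ps := primesOf n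
    ((ps.getD 0 2 ^ 20 * ps.getD 1 2 ^ 20) % n == 0 || ps.any (killP B n))

end CL.Sieve
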