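import Cfsg.Agent.Base

/-! Counting lemmas for Sylow subgroups and orbits. -/

set_option autoImplicit false

namespace CL.Small

open MulAction Subgroup

/-- An invariant set all of whose points have orbits of size divisible by `m` has size
divisible by `m`. -/
theorem dvd_ncard_of_dvd_orbit {H X : Type*} [Group H] [MulAction H X] [Finite X] (m : ℕ)
    (S : Set X) (hS : ∀ x ∈ S, ∀ h : H, h • x ∈ S)
    (hm : ∀ x ∈ S, m ∣ (stabilizer H x).index) : m ∣ S.ncard := by
  classical
  have := Fintype.ofFinite X
  rw [Set.ncard_eq_toFinset_card' S,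
    Finset.card_eq_sum_card_image (fun x : X => (Quotient.mk (orbitRel H X) x))]
  refine Finset.dvd_sum fun ω hω => ?_
  obtain ⟨x, hx, rfl⟩ := Finset.mem_image.mp hω
  have hx' : x ∈ S := by simpa using hx
  have : (Finset.filter (fun a => Quotient.mk (orbitRel H X) a = Quotient.mk (orbitRel H X) x)
      S.toFinset) = (orbit H x).toFinset := by
    ext y
    simp only [Finset.mem_filter, Set.mem_toFinset, Quotient.eq, orbitRel_apply]
    constructor
    · exact fun h => h.2
    · rintro ⟨h, rfl⟩
      exact ⟨hS x hx' h, h, rfl⟩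
  rw [this, ← Set.ncard_eq_toFinset_card', ← index_stabilizer]
  exact hm x hx'

/-- If `F` is an invariant set and every point outside has orbit size divisible by `m`, then
`#X ≡ #F` modulo `m`. -/
theorem card_modEq_ncard_of_dvd_orbit {H X : Type*} [Group H] [MulAction H X] [Finite X] (m : ℕ)
    (F : Set X) (hF : ∀ x ∈ F, ∀ h : H, h • x ∈ F)
    (hm : ∀ x ∉ F, m ∣ (stabilizer H x).index) : Nat.card X ≡ F.ncard [MOD m] := by
  have h1 : m ∣ Fᶜ.ncard := by
    refine dvd_ncard_of_dvd_orbit (H := H) m Fᶜ (fun x hx h hh => hx ?_) hm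
    simpa using hF _ hh h⁻¹
  rw [← Set.ncard_add_ncard_compl F]
  exact ((Nat.modEq_iff_dvd' (Nat.le_add_right _ _)).mpr (by simpa using h1)).symm

variable {G : Type*} [Group G]

/-- The stabiliser in a `p`-subgroup `P` of a Sylow subgroup `R` is `P ∩ R`. -/
theorem stabilizer_sylow_of_isPGroup {p : ℕ} {P : Subgroup G} (hP : IsPGroup p P)
    (R : Sylow p G) : stabilizer P R = (R : Subgroup G).subgroupOf P := by
  ext x
  rw [mem_stabilizer_iff, mem_subgroupOf, Subgroup.smul_def, Sylow.smul_eq_iff_mem_normalizer]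
  have := hP.inf_normalizer_sylow R
  constructor
  · intro h
    have h2 : (x : G) ∈ P ⊓ normalizer (R : Set G) := ⟨x.2, h⟩
    rw [this] at h2
    exact h2.2
  · intro h
    exact le_normalizer h

/-- If every Sylow subgroup other than `P` meets `P` in index divisible by `m`, then the number
of Sylow subgroups is `1` modulo `m`. -/
theorem card_sylow_modEq_one_of_dvd_relIndex [Finite G] {p : ℕ} [Fact p.Prime] (P : Sylow p G)
    (m : ℕ) (h : ∀ R : Sylow p G, R ≠ P → m ∣ ((R : Subgroup G).subgroupOf P).index) :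
    Nat.card (Sylow p G) ≡ 1 [MOD m] := by
  have := card_modEq_ncard_of_dvd_orbit (H := (P : Subgroup G)) m ({P} : Set (Sylow p G))
    (by
      rintro x rfl h
      rw [Set.mem_singleton_iff, Subgroup.smul_def, Sylow.smul_eq_iff_mem_normalizer]
      exact le_normalizer h.2)
    (by
      intro R hR
      rw [stabilizer_sylow_of_isPGroup P.isPGroup']
      exact h R hR)
  simpa using this

/-- For a fixed Sylow `P`: if the number of Sylow subgroups is not `1` mod `p ^ k`, some other
Sylow subgroup meets `P` in index at most `p ^ (k - 1)`. -/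
theorem exists_sylow_relIndex_le [Finite G] {p : ℕ} [hp : Fact p.Prime] (P : Sylow p G) (k : ℕ)
    (h : ¬ Nat.card (Sylow p G) ≡ 1 [MOD p ^ k]) :
    ∃ R : Sylow p G, R ≠ P ∧ ∃ j < k, ((R : Subgroup G).subgroupOf P).index = p ^ j := by
  by_contra hc
  push Not at hc
  refine h (card_sylow_modEq_one_of_dvd_relIndex P _ fun R hR => ?_)
  obtain ⟨j, hj⟩ := P.isPGroup'.index ((R : Subgroup G).subgroupOf P)
  rw [hj]
  refine pow_dvd_pow p ?_
  by_contra hlt
  exact hc R hR j (by omega) hj

end CL.Small
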