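import Cfsg.Agent.Base

/-! Intersections of Sylow subgroups. -/

set_option autoImplicit false

namespace CL.Small

open MulAction Subgroup

variable {G : Type*} [Group G]

/-- Normalisers grow in `p`-groups (ambient form). -/
theorem lt_inf_normalizer_of_isPGroup [Finite G] {p : ℕ} [Fact p.Prime] {D P : Subgroup G}
    (hP : IsPGroup p P) (hlt : D < P) : D < P ⊓ normalizer (D : Set G) := by
  have hnil : Group.IsNilpotent P := hP.isNilpotent
  have hnc : NormalizerCondition P := Group.normalizerCondition_of_isNilpotent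
  have h1 : D.subgroupOf P < ⊤ := by
    rw [lt_top_iff_ne_top, Ne, subgroupOf_eq_top]
    exact not_le_of_gt hlt
  have h2 := hnc _ h1
  obtain ⟨x, hx, hx'⟩ := SetLike.exists_of_lt h2
  refine lt_of_le_of_ne (le_inf hlt.le le_normalizer) fun h => hx' ?_
  rw [← subgroupOf_normalizer_eq hlt.le, mem_subgroupOf] at hx
  rw [mem_subgroupOf, h]
  exact ⟨x.2, hx⟩

theorem sylow_eq_of_le {p : ℕ} {P Q : Sylow p G} (h : (P : Subgroup G) ≤ Q) : P = Q :=
  Sylow.ext (P.is_maximal' Q.isPGroup' h).symm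

theorem sylow_inf_lt_left {p : ℕ} {P Q : Sylow p G} (h : P ≠ Q) :
    (P : Subgroup G) ⊓ Q < P :=
  lt_of_le_of_ne inf_le_left fun h' => h (sylow_eq_of_le (inf_eq_left.mp h'))

theorem sylow_inf_lt_right {p : ℕ} {P Q : Sylow p G} (h : P ≠ Q) :
    (P : Subgroup G) ⊓ Q < Q := by
  rw [inf_comm]; exact sylow_inf_lt_left h.symm

/-- A `p`-subgroup strictly larger than every intersection of distinct Sylow subgroups lies in
exactly one Sylow subgroup. -/
theorem sylow_unique_of_card_gt [Finite G] {p : ℕ} {m : ℕ}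
    (hmax : ∀ P' Q' : Sylow p G, P' ≠ Q' → Nat.card ↥((P' : Subgroup G) ⊓ (Q' : Subgroup G)) ≤ m)
    {X : Subgroup G} (hX : m < Nat.card X) {S T : Sylow p G} (hS : X ≤ S) (hT : X ≤ T) :
    S = T := by
  by_contra h
  have := hmax S T h
  have h2 := card_le_of_le (le_inf hS hT)
  omega

theorem card_lt_of_lt [Finite G] {H K : Subgroup G} (h : H < K) : Nat.card H < Nat.card K := by
  refine lt_of_le_of_ne (card_le_of_le h.le) fun h' => h.ne ?_
  exact eq_of_le_of_card_ge h.le h'.ge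

/-- A normal `p`-subgroup `D` of `N` lies in each Sylow subgroup of `N`. -/
theorem le_map_sylow_of_le_normalizer {p : ℕ} {D N : Subgroup G} (hD : IsPGroup p D) (hDN : D ≤ N)
    (hN : N ≤ normalizer (D : Set G)) (S : Sylow p N) :
    D ≤ (S : Subgroup N).map N.subtype := by
  have : (D.subgroupOf N).Normal := (normal_subgroupOf_iff_le_normalizer hDN).mpr hN
  have h1 : IsPGroup p (D.subgroupOf N) := hD.comap_subtype
  have h2 := h1.le_sylow_of_normal S
  intro x hx
  exact ⟨⟨x, hDN hx⟩, h2 hx, rfl⟩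

theorem card_sylow_eq [Finite G] {p : ℕ} [Fact p.Prime] (P Q : Sylow p G) :
    Nat.card (P : Subgroup G) = Nat.card (Q : Subgroup G) := by
  rw [P.card_eq_multiplicity, Q.card_eq_multiplicity]

/-- A `p`-subgroup of `N` is no larger than a Sylow subgroup of `N`. -/
theorem card_le_card_sylow_of_le [Finite G] {p : ℕ} [Fact p.Prime] {X N : Subgroup G}
    (hX : IsPGroup p X) (hXN : X ≤ N) (S : Sylow p N) :
    Nat.card X ≤ Nat.card ((S : Subgroup N).map N.subtype) := by
  obtain ⟨T, hT⟩ := (hX.comap_subtype (K := N)).exists_le_sylow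
  rw [card_map_of_injective N.subtype_injective, card_sylow_eq S T,
    ← Nat.card_congr (subgroupOfEquivOfLe hXN).toEquiv]
  exact card_le_of_le hT

theorem exists_sylow_ge_map {p : ℕ} {N : Subgroup G} (S : Sylow p N) :
    ∃ T : Sylow p G, (S : Subgroup N).map N.subtype ≤ T :=
  (S.isPGroup'.map N.subtype).exists_le_sylow

theorem sylow_eq_subgroupOf_of_map_le {p : ℕ} {N : Subgroup G} (S : Sylow p N) (T : Sylow p G)
    (h : (S : Subgroup N).map N.subtype ≤ T) : (S : Subgroup N) = (T : Subgroup G).subgroupOf N :=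
  (S.is_maximal' T.isPGroup'.comap_subtype (map_le_iff_le_comap.mp h)).symm

section maxInter

variable [Finite G] {p : ℕ} [Fact p.Prime] {P Q : Sylow p G} (hPQ : P ≠ Q)
  (hmax : ∀ P' Q' : Sylow p G, P' ≠ Q' → Nat.card ↥((P' : Subgroup G) ⊓ (Q' : Subgroup G)) ≤
    Nat.card ↥((P : Subgroup G) ⊓ (Q : Subgroup G)))
include hPQ

theorem maxInter_card_lt_sylow
    (S : Sylow p ↥(normalizer (((P : Subgroup G) ⊓ (Q : Subgroup G) : Subgroup G) : Set G))) :
    Nat.card ↥((P : Subgroup G) ⊓ (Q : Subgroup G)) <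
      Nat.card ((S : Subgroup _).map
        (normalizer (((P : Subgroup G) ⊓ (Q : Subgroup G) : Subgroup G) : Set G)).subtype) :=
  lt_of_lt_of_le
    (card_lt_of_lt (lt_inf_normalizer_of_isPGroup P.isPGroup' (sylow_inf_lt_left hPQ)))
    (card_le_card_sylow_of_le (P.isPGroup'.to_inf_left) inf_le_right S)

include hmax

theorem maxInter_existsUnique
    (S : Sylow p ↥(normalizer (((P : Subgroup G) ⊓ (Q : Subgroup G) : Subgroup G) : Set G))) :
    ∃! T : Sylow p G, (S : Subgroup _).map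
      (normalizer (((P : Subgroup G) ⊓ (Q : Subgroup G) : Subgroup G) : Set G)).subtype ≤
        (T : Subgroup G) := by
  obtain ⟨T, hT⟩ := exists_sylow_ge_map S
  exact ⟨T, hT, fun T' hT' => sylow_unique_of_card_gt hmax (maxInter_card_lt_sylow hPQ S) hT' hT⟩

theorem maxInter_one_lt_card : 1 < Nat.card (Sylow p
    ↥(normalizer (((P : Subgroup G) ⊓ (Q : Subgroup G) : Subgroup G) : Set G))) := by
  set N := normalizer (((P : Subgroup G) ⊓ (Q : Subgroup G) : Subgroup G) : Set G) with hN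
  rw [Finite.one_lt_card_iff_nontrivial]
  obtain ⟨S, hS⟩ := (P.isPGroup'.comap_subtype (K := N)).exists_le_sylow
  obtain ⟨T, hT⟩ := (Q.isPGroup'.comap_subtype (K := N)).exists_le_sylow
  refine ⟨S, T, fun h => hPQ ?_⟩
  subst h
  obtain ⟨R, hR⟩ := exists_sylow_ge_map S
  have h1 : (P : Subgroup G) ⊓ N ≤ R := by
    refine le_trans ?_ hR
    rintro x ⟨hx, hx'⟩
    exact ⟨⟨x, hx'⟩, hS hx, rfl⟩
  have h2 : (Q : Subgroup G) ⊓ N ≤ R := by
    refine le_trans ?_ hR
    rintro x ⟨hx, hx'⟩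
    exact ⟨⟨x, hx'⟩, hT hx, rfl⟩
  have e1 : P = R := sylow_unique_of_card_gt hmax
    (card_lt_of_lt (lt_inf_normalizer_of_isPGroup P.isPGroup' (sylow_inf_lt_left hPQ)))
    inf_le_left h1
  have e2 : Q = R := sylow_unique_of_card_gt hmax
    (card_lt_of_lt (lt_inf_normalizer_of_isPGroup Q.isPGroup' (sylow_inf_lt_right hPQ)))
    inf_le_left h2
  rw [e1, e2]

theorem maxInter_inf_eq
    (S T : Sylow p ↥(normalizer (((P : Subgroup G) ⊓ (Q : Subgroup G) : Subgroup G) : Set G)))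
    (hST : S ≠ T) : (S : Subgroup _) ⊓ (T : Subgroup _) =
      ((P : Subgroup G) ⊓ (Q : Subgroup G)).subgroupOf
        (normalizer (((P : Subgroup G) ⊓ (Q : Subgroup G) : Subgroup G) : Set G)) := by
  revert S T
  set D : Subgroup G := (P : Subgroup G) ⊓ (Q : Subgroup G) with hD
  set N := normalizer (D : Set G) with hN
  intro S T hST
  have hDp : IsPGroup p D := P.isPGroup'.to_inf_left
  have h1 : D ≤ (S : Subgroup N).map N.subtype :=
    le_map_sylow_of_le_normalizer hDp le_normalizer le_rfl S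
  have h2 : D ≤ (T : Subgroup N).map N.subtype :=
    le_map_sylow_of_le_normalizer hDp le_normalizer le_rfl T
  obtain ⟨S', hS'⟩ := exists_sylow_ge_map S
  obtain ⟨T', hT'⟩ := exists_sylow_ge_map T
  have hne : S' ≠ T' := by
    rintro rfl
    exact hST (Sylow.ext ((sylow_eq_subgroupOf_of_map_le S S' hS').trans
      (sylow_eq_subgroupOf_of_map_le T S' hT').symm))
  have h3 : D = (S' : Subgroup G) ⊓ T' :=
    eq_of_le_of_card_ge (le_inf (h1.trans hS') (h2.trans hT')) (hmax S' T' hne)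
  rw [sylow_eq_subgroupOf_of_map_le S S' hS', sylow_eq_subgroupOf_of_map_le T T' hT']
  ext x
  simp only [mem_inf, mem_subgroupOf]
  rw [h3]
  rfl

end maxInter

/-- There is a pair of distinct Sylow subgroups with largest intersection. -/
theorem exists_maxInter [Finite G] {p : ℕ} (h : 1 < Nat.card (Sylow p G)) :
    ∃ P Q : Sylow p G, P ≠ Q ∧ ∀ P' Q' : Sylow p G, P' ≠ Q' →
      Nat.card ↥((P' : Subgroup G) ⊓ (Q' : Subgroup G)) ≤
        Nat.card ↥((P : Subgroup G) ⊓ (Q : Subgroup G)) := by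
  rw [Finite.one_lt_card_iff_nontrivial] at h
  obtain ⟨P, Q, hPQ⟩ := h
  have : Nonempty {x : Sylow p G × Sylow p G // x.1 ≠ x.2} := ⟨⟨(P, Q), hPQ⟩⟩
  obtain ⟨⟨⟨P0, Q0⟩, h0⟩, hm⟩ := Finite.exists_max (α := {x : Sylow p G × Sylow p G // x.1 ≠ x.2})
    (fun x => Nat.card ↥((x.1.1 : Subgroup G) ⊓ (x.1.2 : Subgroup G)))
  exact ⟨P0, Q0, h0, fun P' Q' h' => hm ⟨(P', Q'), h'⟩⟩

end CL.Small
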