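import Cfsg.Agent.Base
import Cfsg.Agent.D1.Tests
import Cfsg.Agent.Blocks.DefectZero
import Cfsg.Agent.S0910
import Cfsg.Agent.Small.SimpleEmbed
import Cfsg.Agent.Small.SylowCount
import Cfsg.Agent.Small.SylowInter
import Cfsg.Agent.Small.Count
import Cfsg.Agent.Small.SieveArith

/-!
# Soundness of the arithmetic sieve
-/

set_option autoImplicit false

open Cfsg CL.Char CL.Blocks CL.D1 CL.Small Subgroup

namespace CL.Sieve

variable {G : Type*} [Group G] [Finite G]

theorem natAbs_sign_mul {δ : ℤ} (h : δ = 1 ∨ δ = -1) (d : ℕ) : (δ * d).natAbs = d := by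
  rcases h with rfl | rfl <;> simp

omit [Finite G] in
theorem one_lt_deg (hG : commutator G = ⊤) {χ : IrrCharacter G} (h : χ ≠ irrOne G) :
    1 < deg (χ : G → ℂ) := by
  have h1 := irr_deg_pos χ.2
  by_contra h2
  have h3 : (χ : G → ℂ) 1 = 1 := by
    rw [← irr_cast_deg χ.2, show deg (χ : G → ℂ) = 1 by omega, Nat.cast_one]
  obtain ⟨f, hf⟩ := char_exists_unitsHom (irr_isCharacter χ.2) h3
  refine h (Subtype.ext (funext fun g => ?_))
  have h4 : f g = 1 := Abelianization.commutator_subset_ker f (hG ▸ mem_top g)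
  rw [hf]
  simp [h4, irrOne_apply]

omit [Finite G] in
theorem deg_irrOne : deg (irrOne G : G → ℂ) = 1 := deg_eq_of_apply_one (by simp [irrOne_apply])

theorem principal_props [IsSimpleGroup G] (hG : ¬ IsMulCommutative G) {q : ℕ} {M : Ideal AlgInt}
    (hM : IsPModular q M) (b : ℕ) : (∀ χ ∈ principalBlock M G, χ ≠ irrOne G →
      ¬ deg (χ : G → ℂ) ∣ q ^ b ∧ q ∣ Nat.card G / deg (χ : G → ℂ)) ∧
    (q ∣ Nat.card G → ¬ q ^ 2 ∣ Nat.card G → ∃ x, ∀ χ ∈ principalBlock M G,
      deg (χ : G → ℂ) % q = 1 ∨ (deg (χ : G → ℂ) + 1) % q = 0 ∨ deg (χ : G → ℂ) = x) := by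
  have : Fact q.Prime := ⟨hM.1⟩
  have := hM.2.1
  refine ⟨fun χ hχ h1 => ⟨fun h => ?_, ?_⟩, fun h1 h2 => ?_⟩
  · obtain ⟨i, -, hi⟩ := (Nat.dvd_prime_pow hM.1).mp h
    refine h1 (Subtype.ext (Cfsg.Agent.S0910.result q M hM ?_ χ hχ i ?_))
    · by_contra h2
      push Not at h2
      exact hG ⟨⟨h2⟩⟩
    · rw [← irr_cast_deg χ.2, hi, Nat.cast_pow]
  · by_contra h
    have h2 := (defect_zero_iff_blockOf_eq_singleton hM χ).mp
      ((not_dvd_card_div_charDegree_iff hM.1 χ).mp h)
    rw [← block_eq_blockOf isPBlock_principalBlock hχ] at h2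
    have h3 := irrOne_mem_principalBlock (M := M) (G := G)
    rw [h2] at h3
    exact h1 h3.symm
  · obtain ⟨z, hz⟩ := exists_prime_orderOf_dvd_card' q h1
    obtain ⟨D⟩ := nonempty_data hz h2
    refine ⟨deg (D.θ 1 : G → ℂ), fun χ hχ => ?_⟩
    rcases D.mem_of_mem_principalBlock hz h2 hM hχ with h | h
    · have h3 := D.deg_A_modEq hz h
      rcases D.δ_sign χ h with h4 | h4 <;> rw [h4] at h3
      · left
        have h5 : deg (χ : G → ℂ) ≡ 1 [MOD q] := Int.natCast_modEq_iff.mp h3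
        rw [h5, Nat.mod_eq_of_lt hM.1.one_lt]
      · right; left
        rw [← Nat.dvd_iff_mod_eq_zero, ← Int.natCast_dvd_natCast]
        simpa using h3.symm.dvd
    · obtain ⟨a, rfl⟩ := D.mem_E.mp h
      exact Or.inr (Or.inr (D.deg_θ_eq a 1))

theorem brauer_of_simple [IsSimpleGroup G] (hG : ¬ IsMulCommutative G) {p : ℕ} [hp : Fact p.Prime]
    (h1 : p ∣ Nat.card G) (hP : ¬ p ^ 2 ∣ Nat.card G) :
    Brauer (Nat.card G) p (Nat.card (Sylow p G)) := by
  classical
  obtain ⟨z, hz⟩ := exists_prime_orderOf_dvd_card' p h1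
  obtain ⟨D⟩ := nonempty_data hz hP
  have hc := commutator_eq_top_of_simple hG
  obtain ⟨P, hPz⟩ := exists_sylow_eq hz hP
  have hs : Nat.card (Sylow p G) = (normalizer ((zpowers z : Subgroup G) : Set G)).index := by
    rw [P.card_eq_index_normalizer, ← hPz]
    rfl
  let v : IrrCharacter G → ℤ := fun χ => D.δ χ * deg (χ : G → ℂ)
  have hv : ∀ χ ∈ D.A, (v χ).natAbs = deg (χ : G → ℂ) := fun χ h =>
    natAbs_sign_mul (D.δ_sign χ h) _
  have hT := natAbs_sign_mul D.ε_sign (deg (D.θ 1 : G → ℂ))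
  have hv1 : v (irrOne G) = 1 := by simp [v, D.δ_one, deg_irrOne]
  have hK : Nat.card D.K ≠ 1 → D.K ≠ ⊥ := fun h h' => h (by rw [h', card_bot])
  have hp1 := hp.out.one_lt
  refine ⟨Nat.card D.H, Nat.card D.K, D.H.index, D.ε * deg (D.θ 1 : G → ℂ),
    (D.A.erase (irrOne G)).val.map v, hs ▸ D.card_eq, D.card_H_mul_index, ?_, ?_, ?_, ?_, ?_, ?_,
    ?_⟩
  · rw [Multiset.card_map, Finset.card_val, Finset.card_erase_add_one D.one_mem_A, D.card_A]
  · intro w hw
    rw [hs, ← D.index_centralizer_eq]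
    rcases Multiset.mem_cons.mp hw with rfl | hw
    · rw [hT]
      refine ⟨one_lt_deg hc (D.θ_ne_one 1), D.deg_θ_dvd 1, fun h => D.two_mul_le_deg hc hz (hK h)
        (Or.inr (D.mem_E.mpr ⟨1, rfl⟩)) (D.θ_ne_one 1), fun h2 h3 h4 h5 => ?_⟩
      have h6 : D.ε = -1 := D.ε_sign.resolve_left fun h => by rw [h] at h5; omega
      have h7 : deg (D.θ 1 : G → ℂ) = p - 1 := by rw [h6] at h5; omega
      have h8 := (D.deg_θ_modEq hz 1).add_right 1
      rw [h7, h6, neg_neg, one_mul] at h8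
      have h9 : p ∣ Nat.card D.H + 1 := by
        rw [← Int.natCast_dvd_natCast]
        have h10 : ((p - 1 : ℕ) : ℤ) + 1 = p := by omega
        rw [h10] at h8
        simpa using (dvd_add h8.dvd (dvd_refl (p : ℤ)))
      have h10 : Nat.card D.H = p - 1 := by
        have := Nat.le_of_dvd (by omega) h9
        have := D.card_H_lt
        omega
      have h11 : D.H = ⊤ := by
        have := D.card_H_mul_index
        rw [h10] at this
        exact index_eq_one.mp (Nat.eq_of_mul_eq_mul_left (by omega : 0 < p - 1) (by omega))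
      refine Nat.not_even_iff_odd.mpr h4 (D.even_index hc hz (eq_bot_of_card_eq _ h2) h3
        (irr_isCharacter (D.θ 1).2) h7 fun b hb => ?_)
      have h12 := D.apply_θ 1 _ (not_dvd_val hb) 1 D.K.one_mem
      rw [mul_one, h11, eta_top (by simpa using hb), h6] at h12
      exact h12.trans (by simp)
    · obtain ⟨χ, hχ, rfl⟩ := Multiset.mem_map.mp hw
      obtain ⟨hχ1, hχ⟩ := Finset.mem_erase.mp hχ
      rw [hv χ hχ]
      refine ⟨one_lt_deg hc hχ1, D.deg_A_dvd hz hχ, fun h => D.two_mul_le_deg hc hz (hK h)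
        (Or.inl hχ) hχ1, fun h2 h3 h4 h5 => ?_⟩
      simp only [v] at h5
      have h6 : D.δ χ = -1 := (D.δ_sign χ hχ).resolve_left fun h => by rw [h] at h5; omega
      have h7 : deg (χ : G → ℂ) = p - 1 := by rw [h6] at h5; omega
      refine Nat.not_even_iff_odd.mpr h4 (D.even_index hc hz (eq_bot_of_card_eq _ h2) h3
        (irr_isCharacter χ.2) h7 fun b hb => ?_)
      rw [D.apply_A χ hχ _ (by rw [orderOf_zp hz hb]), h6]
      simp
  · intro w hw
    obtain ⟨χ, hχ, rfl⟩ := Multiset.mem_map.mp hw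
    have h2 := (D.deg_A_modEq hz (Finset.mem_erase.mp hχ).2).mul_left (D.δ χ)
    rw [D.δ_mul_self (Finset.mem_erase.mp hχ).2] at h2
    exact h2.symm.dvd
  · have h2 := ((D.deg_θ_modEq hz 1).mul_left D.ε).symm.dvd
    rwa [← mul_assoc, mul_neg, D.ε_mul_self, neg_one_mul, sub_neg_eq_add] at h2
  · have h2 := D.degree_eq 1
    rw [← Finset.add_sum_erase _ _ D.one_mem_A] at h2
    rw [← h2, ← hv1]
    rfl
  · have h2 := D.sum_sq_le 1
    rw [← Finset.add_sum_erase _ _ D.one_mem_A, deg_irrOne, one_pow] at h2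
    rw [hT, Multiset.map_map, ← pow_two]
    convert h2 using 2
    congr 1
    refine Finset.sum_congr rfl fun χ h => ?_
    simp only [Function.comp_apply, hv χ (Finset.mem_erase.mp h).2, pow_two]
  · intro q b hq hqp hqK hb
    obtain ⟨M, hM⟩ := exists_isPModular hq
    have := hM.2.1
    obtain ⟨h2, h3⟩ := principal_props hG hM b
    let m : Multiset ℤ := (if D.θ 1 ∈ principalBlock M G then {D.ε * deg (D.θ 1 : G → ℂ)} else 0) +
      ((D.A.erase (irrOne G)).filter (· ∈ principalBlock M G)).val.map v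
    have hm : ∀ w ∈ m, ∃ χ ∈ principalBlock M G, χ ≠ irrOne G ∧ w.natAbs = deg (χ : G → ℂ) := by
      intro w hw
      rcases Multiset.mem_add.mp hw with hw | hw
      · split_ifs at hw with h
        · rw [Multiset.mem_singleton.mp hw]
          exact ⟨_, h, D.θ_ne_one 1, hT⟩
        · simp at hw
      · obtain ⟨χ, hχ, rfl⟩ := Multiset.mem_map.mp hw
        obtain ⟨h4, h5⟩ := Finset.mem_filter.mp hχ
        exact ⟨χ, h5, (Finset.mem_erase.mp h4).1, hv χ (Finset.mem_erase.mp h4).2⟩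
    refine ⟨m, ?_, ?_, fun w hw => ?_, fun h4 h5 => ?_⟩
    · rw [← Multiset.singleton_add]
      refine add_le_add ?_ (Multiset.map_le_map (Finset.val_le_iff.mpr (Finset.filter_subset _ _)))
      split_ifs
      · exact le_rfl
      · exact Multiset.zero_le _
    · have h4 := D.inter hz hP hqp hqK hM hb
      rw [← Finset.add_sum_erase _ _ (Finset.mem_filter.mpr
        ⟨D.one_mem_A, irrOne_mem_principalBlock⟩), ← Finset.filter_erase] at h4
      convert h4 using 1
      rw [Multiset.sum_add, add_comm _ (Multiset.sum _), ← add_assoc, ← hv1]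
      congr 1
      split_ifs <;> simp
    · obtain ⟨χ, h4, h5, h6⟩ := hm w hw
      rw [h6]
      exact h2 χ h4 h5
    · obtain ⟨x, hx⟩ := h3 h4 h5
      refine ⟨x, fun w hw => ?_⟩
      obtain ⟨χ, h4, -, h6⟩ := hm w hw
      rw [h6]
      exact hx χ h4

theorem le_normalizer_inf {p : ℕ} [hp : Fact p.Prime] (P R : Sylow p G)
    (h : ((R : Subgroup G).subgroupOf P).index = p) :
    (P : Subgroup G) ≤ normalizer (((R : Subgroup G) ⊓ P : Subgroup G) : Set G) := by
  rw [← normal_subgroupOf_iff_le_normalizer_inf]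
  apply normal_of_index_eq_minFac_card
  obtain ⟨k, hk⟩ := P.isPGroup'.exists_card_eq
  have h1 := ((R : Subgroup G).subgroupOf P).index_dvd_card
  rw [h, hk] at h1
  rw [h, hk, hp.out.pow_minFac (by rintro rfl; exact hp.out.not_dvd_one (by simpa using h1))]

omit [Finite G] in
theorem card_inf_mul_index (H K : Subgroup G) :
    Nat.card (H ⊓ K : Subgroup G) * (H.subgroupOf K).index = Nat.card K := by
  rw [← Subgroup.card_mul_index (H.subgroupOf K), ← inf_subgroupOf_right,
    Nat.card_congr (subgroupOfEquivOfLe inf_le_right).toEquiv]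

/-- two Sylow subgroups meeting in a subgroup of index `p` -/
theorem exists_inter {p : ℕ} [hp : Fact p.Prime] (P : Sylow p G)
    (h : ¬ Nat.card (Sylow p G) ≡ 1 [MOD p ^ 2]) : ∃ R : Sylow p G, R ≠ P ∧
      Nat.card ((R : Subgroup G) ⊓ P : Subgroup G) * p = Nat.card P ∧
      (P : Subgroup G) ≤ normalizer (((R : Subgroup G) ⊓ P : Subgroup G) : Set G) ∧
      (R : Subgroup G) ≤ normalizer (((R : Subgroup G) ⊓ P : Subgroup G) : Set G) := by
  obtain ⟨R, hR, j, hj, h1⟩ := exists_sylow_relIndex_le P 2 h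
  have h2 : j = 1 := by
    by_contra h2
    rw [show j = 0 by omega, pow_zero, index_eq_one, subgroupOf_eq_top] at h1
    exact hR (sylow_eq_of_le h1).symm
  rw [h2, pow_one] at h1
  have h3 := card_inf_mul_index (R : Subgroup G) P
  have h4 := card_inf_mul_index (P : Subgroup G) R
  rw [h1] at h3
  rw [inf_comm, card_sylow_eq R P, ← h3] at h4
  refine ⟨R, hR, h3, le_normalizer_inf P R h1, ?_⟩
  rw [inf_comm]
  exact le_normalizer_inf R P (Nat.eq_of_mul_eq_mul_left Nat.card_pos h4)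

theorem one_lt_card_sylow_of_le {p : ℕ} {P R : Sylow p G} (h : R ≠ P)
    {N : Subgroup G} (hP : (P : Subgroup G) ≤ N) (hR : (R : Subgroup G) ≤ N) :
    1 < Nat.card (Sylow p N) :=
  Finite.one_lt_card_iff_nontrivial.mpr
    ⟨R.subtype hR, P.subtype hP, fun h' => h (Sylow.subtype_injective h')⟩

theorem card_sylow_mul_index_dvd {p : ℕ} [hp : Fact p.Prime] (P : Sylow p G)
    {N : Subgroup G} (hP : (P : Subgroup G) ≤ N) :
    Nat.card (Sylow p N) * N.index ∣ (P : Subgroup G).index := by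
  rw [← relIndex_mul_index hP]
  exact Nat.mul_dvd_mul_right (P.subtype hP).card_dvd_index _

theorem inter_test [IsSimpleGroup G] (hG : ¬ IsMulCommutative G) {p : ℕ} [hp : Fact p.Prime]
    (P : Sylow p G) (hP : Nat.card P ≠ p) (h : ¬ Nat.card (Sylow p G) ≡ 1 [MOD p ^ 2]) :
    ∃ s, 1 < s ∧ s ∣ (P : Subgroup G).index ∧ s % p = 1 ∧
      2 * Nat.card G ∣ ((P : Subgroup G).index / s).factorial := by
  obtain ⟨R, hR, h1, h2, h3⟩ := exists_inter P h
  have h4 := card_sylow_mul_index_dvd P h2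
  refine ⟨_, one_lt_card_sylow_of_le hR h2 h3, (dvd_mul_right _ _).trans h4, ?_, ?_⟩
  · rw [card_sylow_modEq_one, Nat.mod_eq_of_lt hp.out.one_lt]
  · have h5 := normalizer_pSubgroup_ne_top hG (P.isPGroup'.to_inf_right (H := R))
      fun h5 => hP (by rw [← h1, h5, card_bot, one_mul])
    refine (two_mul_card_dvd_factorial_index hG h5).trans (Nat.factorial_dvd_factorial ?_)
    exact Nat.le_of_dvd (Nat.div_pos (Nat.le_of_dvd (Nat.pos_of_ne_zero index_ne_zero_of_finite)
      ((dvd_mul_right _ _).trans h4)) Nat.card_pos) (Nat.dvd_div_of_mul_dvd h4)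

theorem not_killP [IsSimpleGroup G] (hG : ¬ IsMulCommutative G) {p B : ℕ} (hp : p.Prime)
    (hB : Nat.card G < B * B) : ¬ killP B (Nat.card G) p = true := by
  have : Fact p.Prime := ⟨hp⟩
  intro h
  simp only [killP, Bool.and_eq_true, beq_iff_eq, bne_iff_ne, List.all_eq_true, Bool.or_eq_true,
    Bool.not_eq_true', Ne, ← Nat.dvd_iff_mod_eq_zero] at h
  obtain ⟨⟨h1, h2⟩, h3⟩ := h
  obtain ⟨b, hb⟩ := exists_gcd_eq_pow hp (Nat.card G)
  have h4 : Nat.card G = p ^ b * (Nat.card G / p ^ b) :=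
    (Nat.mul_div_cancel' (hb ▸ Nat.gcd_dvd_left _ _)).symm
  rw [hb] at h2 h3
  obtain ⟨P⟩ : Nonempty (Sylow p G) := inferInstance
  have h5 : Nat.card P = p ^ b := CL.SG.card_sylow_of_eq P h4 h2
  have h6 : (P : Subgroup G).index = Nat.card G / p ^ b := by
    rw [← h5, ← Subgroup.card_mul_index (P : Subgroup G), Nat.mul_div_cancel_left _ Nat.card_pos]
  have h7 : Nat.card G / p ^ b ≠ 0 := h6 ▸ index_ne_zero_of_finite
  have h8 : Nat.card (Sylow p G) % p = 1 := by
    rw [card_sylow_modEq_one, Nat.mod_eq_of_lt hp.one_lt]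
  rcases h3 _ (mem_sylows h7 (one_lt_card_sylow hG h1) (h6 ▸ P.card_dvd_index) h8) with h9 | h9
  · rw [facOK_of_dvd (two_mul_card_dvd_factorial_card_sylow hG h1)] at h9
    exact absurd h9 (by simp)
  split_ifs at h9 with h10
  · rw [brauerB_of_brauer hB hp.two_le Nat.card_pos.ne' (brauer_of_simple hG h1 fun h11 => h2 ?_)]
      at h9
    · exact absurd h9 (by simp)
    · rw [h10]
      exact Nat.dvd_div_of_mul_dvd (pow_two p ▸ h11)
  · simp only [Bool.and_eq_true, bne_iff_ne, List.all_eq_true, Bool.not_eq_true'] at h9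
    obtain ⟨s, a1, a2, a3, a4⟩ := inter_test hG P (h5 ▸ h10) fun h11 => h9.1 (by
      rw [← pow_two, h11, Nat.mod_eq_of_lt (Nat.one_lt_pow two_ne_zero hp.one_lt)])
    rw [h6] at a2 a4
    have := h9.2 s (mem_sylows h7 a1 a2 a3)
    rw [facOK_of_dvd a4] at this
    exact absurd this (by simp)

theorem not_kill [IsSimpleGroup G] (hG : ¬ IsMulCommutative G) (B : ℕ) :
    ¬ kill B (Nat.card G) = true := by
  intro h
  simp only [kill, Bool.and_eq_true, Nat.blt_eq, Bool.or_eq_true, beq_iff_eq, List.any_eq_true,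
    ← Nat.dvd_iff_mod_eq_zero] at h
  have h0 : ∀ i, ((primesOf (Nat.card G)).getD i 2).Prime := fun i => by
    rw [List.getD_eq_getElem?_getD]
    cases h : (primesOf (Nat.card G))[i]? with
    | none => exact Nat.prime_two
    | some q => exact prime_of_mem_primesOf (List.mem_of_getElem? h)
  rcases h.2 with h1 | ⟨p, h1, h2⟩
  · exact hG ⟨⟨IsSimpleGroup.comm_iff_isSolvable.mpr (isSolvable_of_card_dvd (h0 0) (h0 1) h1)⟩⟩
  · exact not_killP hG (prime_of_mem_primesOf h1) h.1 h2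

theorem card_ne_of_kill [IsSimpleGroup G] {B n : ℕ} (hn : ¬ n.Prime) (h : kill B n = true) :
    Nat.card G ≠ n := by
  rintro rfl
  exact not_kill (not_comm_of_simple_of_not_prime hn) B h

theorem card_ne_of_killP [IsSimpleGroup G] {B n p : ℕ} (hn : ¬ n.Prime) (hp : p.Prime)
    (hB : n < B * B) (h : killP B n p = true) : Nat.card G ≠ n := by
  rintro rfl
  exact not_killP (not_comm_of_simple_of_not_prime hn) hp hB h

end CL.Sieve
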