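import Cfsg.Agent.Base
import Cfsg.Agent.Small.Count

/-!
Recognition of dihedral groups and of the symmetric group of degree 4.
-/

set_option autoImplicit false
set_option linter.unusedSectionVars false
set_option linter.style.haveILetI false

namespace CL.SG

open Subgroup

variable {G : Type*} [Group G]

/-- The homomorphism out of a dihedral group given by a rotation `x` and a reflection `s`. -/
def dihedralHom (n : ℕ) [NeZero n] (x s : G) (hx : x ^ n = 1) (hs : s * s = 1)
    (hsx : s * x * s = x⁻¹) : DihedralGroup n →* G :=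
  have hadd : ∀ i j : ZMod n, x ^ (i + j).val = x ^ i.val * x ^ j.val := by
    intro i j
    rw [ZMod.val_add, ← pow_add]
    conv_rhs => rw [← Nat.mod_add_div (i.val + j.val) n, pow_add, pow_mul, hx, one_pow, mul_one]
  have hsub : ∀ i j : ZMod n, x ^ (j - i).val = (x ^ i.val)⁻¹ * x ^ j.val := by
    intro i j
    rw [eq_inv_mul_iff_mul_eq, ← hadd, add_sub_cancel]
  have hsi : s⁻¹ = s := inv_eq_of_mul_eq_one_right hs
  have hconj : ∀ k : ℕ, x ^ k * s = s * (x ^ k)⁻¹ := by
    intro k
    have h1 : s * x * s⁻¹ = x⁻¹ := by rw [hsi, hsx]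
    have h2 : s * x ^ k * s⁻¹ = (x ^ k)⁻¹ := by rw [← conj_pow, h1, inv_pow]
    rw [← h2, hsi, ← mul_assoc, ← mul_assoc, hs, one_mul]
  MonoidHom.mk' (fun g => match g with
    | DihedralGroup.r i => x ^ i.val
    | DihedralGroup.sr i => s * x ^ i.val) (by
    rintro (i | i) (j | j)
    · simp only [DihedralGroup.r_mul_r, hadd]
    · simp only [DihedralGroup.r_mul_sr, hsub]
      rw [← mul_assoc, ← mul_assoc, hconj]
    · simp only [DihedralGroup.sr_mul_r, hadd, mul_assoc]
    · simp only [DihedralGroup.sr_mul_sr, hsub]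
      rw [← mul_assoc, mul_assoc s, hconj, ← mul_assoc, hs, one_mul])

theorem dihedralHom_r (n : ℕ) [NeZero n] (x s : G) (hx : x ^ n = 1) (hs : s * s = 1)
    (hsx : s * x * s = x⁻¹) (i : ZMod n) :
    dihedralHom n x s hx hs hsx (DihedralGroup.r i) = x ^ i.val := rfl

theorem dihedralHom_sr (n : ℕ) [NeZero n] (x s : G) (hx : x ^ n = 1) (hs : s * s = 1)
    (hsx : s * x * s = x⁻¹) (i : ZMod n) :
    dihedralHom n x s hx hs hsx (DihedralGroup.sr i) = s * x ^ i.val := rfl

theorem dihedralHom_injective (n : ℕ) [NeZero n] (x s : G) (hx : x ^ n = 1) (hs : s * s = 1)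
    (hsx : s * x * s = x⁻¹) (ho : orderOf x = n) (hs' : s ∉ zpowers x) :
    Function.Injective (dihedralHom n x s hx hs hsx) := by
  rw [injective_iff_map_eq_one]
  rintro (i | i) h
  · rw [dihedralHom_r] at h
    have h1 : n ∣ i.val := by
      have := orderOf_dvd_of_pow_eq_one h
      rwa [ho] at this
    have h2 : i.val = 0 := Nat.eq_zero_of_dvd_of_lt h1 (ZMod.val_lt i)
    rw [ZMod.val_eq_zero] at h2
    rw [h2]; rfl
  · rw [dihedralHom_sr] at h
    exfalso
    apply hs'
    rw [eq_inv_of_mul_eq_one_left h]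
    exact inv_mem (pow_mem (mem_zpowers x) _)

theorem dihedralHom_range_le (n : ℕ) [NeZero n] (x s : G) (hx : x ^ n = 1) (hs : s * s = 1)
    (hsx : s * x * s = x⁻¹) {H : Subgroup G} (hxH : x ∈ H) (hsH : s ∈ H) :
    (dihedralHom n x s hx hs hsx).range ≤ H := by
  rintro _ ⟨i | i, rfl⟩
  · exact pow_mem hxH _
  · exact mul_mem hsH (pow_mem hxH _)

/-- An injective homomorphism from the dihedral group onto a subgroup `H` of order `2 n`
containing a rotation of order `n` and a reflection. -/
theorem exists_dihedral_embedding [Finite G] (n : ℕ) [NeZero n] (x s : G) (ho : orderOf x = n)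
    (hs : s * s = 1) (hsx : s * x * s = x⁻¹) (hs' : s ∉ zpowers x) {H : Subgroup G}
    (hxH : x ∈ H) (hsH : s ∈ H) (hH : Nat.card H = 2 * n) :
    ∃ φ : DihedralGroup n →* G, Function.Injective φ ∧ φ.range = H ∧
      (∀ i : ZMod n, φ (DihedralGroup.r i) = x ^ i.val) ∧
      ∀ i : ZMod n, φ (DihedralGroup.sr i) = s * x ^ i.val := by
  have hx : x ^ n = 1 := ho ▸ pow_orderOf_eq_one x
  have hi := dihedralHom_injective n x s hx hs hsx ho hs'
  refine ⟨dihedralHom n x s hx hs hsx, hi, ?_, fun _ => rfl, fun _ => rfl⟩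
  apply eq_of_le_of_card_le (dihedralHom_range_le n x s hx hs hsx hxH hsH)
  rw [hH, ← Nat.card_congr (MonoidHom.ofInjective hi).toEquiv, DihedralGroup.nat_card]

theorem nonempty_mulEquiv_dihedral [Finite G] (n : ℕ) [NeZero n] (x s : G) (ho : orderOf x = n)
    (hs : s * s = 1) (hsx : s * x * s = x⁻¹) (hs' : s ∉ zpowers x) {H : Subgroup G}
    (hxH : x ∈ H) (hsH : s ∈ H) (hH : Nat.card H = 2 * n) :
    Nonempty (H ≃* DihedralGroup n) := by
  obtain ⟨φ, hi, hr, -⟩ := exists_dihedral_embedding n x s ho hs hsx hs' hxH hsH hH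
  exact ⟨((MonoidHom.ofInjective hi).trans (MulEquiv.subgroupCongr hr)).symm⟩

theorem orderOf_mul_of_commute_coprime {x y : G} (h : x * y = y * x)
    (hc : (orderOf x).Coprime (orderOf y)) : orderOf (x * y) = orderOf x * orderOf y :=
  Commute.orderOf_mul_eq_mul_orderOf_of_coprime h hc

/-- A group of order 24 without elements of order 6 is the symmetric group of degree 4. -/
theorem nonempty_mulEquiv_perm_four [Finite G] (h : Nat.card G = 24)
    (h6 : ∀ g : G, orderOf g ≠ 6) : Nonempty (G ≃* Equiv.Perm (Fin 4)) := by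
  classical
  haveI : Fact (Nat.Prime 3) := ⟨by norm_num⟩
  haveI : Fact (Nat.Prime 2) := ⟨by norm_num⟩
  have hno : ∀ t y : G, orderOf t = 2 → orderOf y = 3 → t * y ≠ y * t := by
    intro t y ht hy hc
    apply h6 (t * y)
    rw [orderOf_mul_of_commute_coprime hc (by rw [ht, hy]; norm_num), ht, hy]
  have hcard : ∀ Q : Sylow 3 G, Nat.card (Q : Subgroup G) = 3 := by
    intro Q
    exact card_sylow_of_eq Q (k := 1) (m := 8) (h.trans (by norm_num)) (by norm_num)
  obtain ⟨Q⟩ : Nonempty (Sylow 3 G) := inferInstance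
  have hn3 : Nat.card (Sylow 3 G) = 4 := by
    have h1 := card_sylow_mul_card_normalizer Q
    have h2 := card_sylow_modEq_one 3 G
    obtain ⟨m, hm, h3⟩ := exists_card_normalizer_eq_of_prime (Q : Subgroup G) (by norm_num)
      (hcard Q)
    have h4 : ¬ 2 ∣ Nat.card (centralizer ((Q : Subgroup G) : Set G)) := by
      intro h4
      obtain ⟨t, ht, ht2⟩ := exists_orderOf_eq_mem _ 2 h4
      obtain ⟨y, hy, hy3⟩ := exists_orderOf_eq_mem (Q : Subgroup G) 3 (by rw [hcard])
      exact hno t y ht2 hy3 (ht y hy).symm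
    have h5 : 3 ∣ Nat.card (normalizer ((Q : Subgroup G) : Set G)) := by
      exact (hcard Q).symm.dvd.trans (card_dvd_of_le le_normalizer)
    rw [h] at h1
    generalize Nat.card (Sylow 3 G) = n at *
    generalize Nat.card (normalizer ((Q : Subgroup G) : Set G)) = a at *
    generalize Nat.card (centralizer ((Q : Subgroup G) : Set G)) = c at *
    have hn : n ≤ 24 := Nat.le_of_dvd (by norm_num) ⟨a, h1.symm⟩
    have hm2 : m ≤ 2 := Nat.le_of_dvd (by norm_num) hm
    unfold Nat.ModEq at h2
    subst h3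
    interval_cases n <;> interval_cases m <;> omega
  have hinj : Function.Injective (MulAction.toPermHom G (Sylow 3 G)) := by
    rw [← MonoidHom.ker_eq_bot_iff]
    set K := (MulAction.toPermHom G (Sylow 3 G)).ker with hK
    have hKN : ∀ k ∈ K, ∀ R : Sylow 3 G, k ∈ normalizer ((R : Subgroup G) : Set G) := by
      intro k hk R
      have : MulAction.toPermHom G (Sylow 3 G) k R = R := by
        rw [MonoidHom.mem_ker.mp hk]; rfl
      exact Sylow.smul_eq_iff_mem_normalizer.mp this
    have hK3 : ∀ k ∈ K, orderOf k ≠ 3 := by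
      intro k hk h3
      have hk1 : k ≠ 1 := by rintro rfl; simp at h3
      have : ∀ R : Sylow 3 G, (R : Subgroup G) = zpowers k := fun R =>
        (zpowers_eq_of_card_prime (by norm_num) (hcard R)
          (mem_sylow_of_mem_normalizer R (k := 1) (by rw [h3]; norm_num) (hKN k hk R)) hk1).symm
      have hs : Subsingleton (Sylow 3 G) :=
        ⟨fun R S => Sylow.ext ((this R).trans (this S).symm)⟩
      have := Nat.card_of_subsingleton Q
      omega
    have hK2 : ∀ k ∈ K, orderOf k ≠ 2 := by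
      intro t ht h2
      obtain ⟨y, hy, hy3⟩ := exists_orderOf_eq_mem (Q : Subgroup G) 3 (by rw [hcard])
      apply hno t y h2 hy3
      have h1 : t * y * t⁻¹ * y⁻¹ ∈ K := by
        have : t * y * t⁻¹ * y⁻¹ = t * (y * t⁻¹ * y⁻¹) := by group
        rw [this]
        exact mul_mem ht ((MonoidHom.normal_ker _).conj_mem _ (inv_mem ht) y)
      have h2 : t * y * t⁻¹ * y⁻¹ ∈ (Q : Subgroup G) :=
        mul_mem ((mem_normalizer_iff.mp (hKN t ht Q) y).mp hy) (inv_mem hy)
      by_contra hne
      have h3 : t * y * t⁻¹ * y⁻¹ ≠ 1 := by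
        intro h3
        apply hne
        have : t * y = (t * y * t⁻¹ * y⁻¹) * (y * t) := by group
        rw [this, h3, one_mul]
      exact hK3 _ h1 (orderOf_eq_of_card_prime (by norm_num) (hcard Q) h2 h3)
    by_contra hne
    have h1 : Nat.card K ≠ 1 := fun h1 => hne (card_eq_one.mp h1)
    obtain ⟨q, hq, hqd⟩ := Nat.exists_prime_and_dvd h1
    haveI := Fact.mk hq
    obtain ⟨k, hk, hko⟩ := exists_orderOf_eq_mem K q hqd
    have h2 : q ∣ 24 := h ▸ hqd.trans (card_subgroup_dvd_card K)
    have h3 : q ∣ 2 ^ 3 * 3 := by simpa using h2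
    rcases (Nat.Prime.dvd_mul hq).mp h3 with h4 | h4
    · exact hK2 k hk (hko.trans ((Nat.prime_dvd_prime_iff_eq hq Nat.prime_two).mp
        (hq.dvd_of_dvd_pow h4)))
    · exact hK3 k hk (hko.trans ((Nat.prime_dvd_prime_iff_eq hq Nat.prime_three).mp h4))
  have e : Sylow 3 G ≃ Fin 4 := Finite.equivFinOfCardEq hn3
  have hbij : Function.Bijective (MulAction.toPermHom G (Sylow 3 G)) := by
    rw [Nat.bijective_iff_injective_and_card]
    refine ⟨hinj, ?_⟩
    rw [Nat.card_perm, hn3, h]; rfl
  exact ⟨(MulEquiv.ofBijective _ hbij).trans e.permCongrHom⟩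

end CL.SG
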