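import Cfsg.Agent.Base
import Cfsg.Agent.Small.Recog

/-!
Klein four-subgroups: elementary description, and the ones of `D₈` and `S₄`.
-/

set_option autoImplicit false
set_option linter.unusedSectionVars false
set_option linter.style.haveILetI false

namespace CL.SG

open Subgroup

variable {G : Type*} [Group G]

theorem isKleinFour_iff (U : Subgroup G) :
    IsKleinFour U ↔ Nat.card U = 4 ∧ ∀ a ∈ U, a * a = 1 := by
  constructor
  · intro hU
    refine ⟨hU.card_four, fun a ha => ?_⟩
    have := IsKleinFour.mul_self (⟨a, ha⟩ : U)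
    exact congrArg Subtype.val this
  · rintro ⟨h1, h2⟩
    refine ⟨h1, ?_⟩
    haveI : Finite U := Nat.finite_of_card_ne_zero (by omega)
    haveI : Nontrivial U := Finite.one_lt_card_iff_nontrivial.mp (by omega)
    rw [Monoid.exponent_eq_prime_iff Nat.prime_two]
    intro g hg
    apply orderOf_eq_prime _ hg
    rw [pow_two]
    exact Subtype.ext (h2 g g.2)

theorem isKleinFour_map {H : Type*} [Group H] {U : Subgroup G} (hU : IsKleinFour U) (f : G →* H)
    (hf : Function.Injective f) : IsKleinFour (U.map f) := by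
  rw [isKleinFour_iff] at hU ⊢
  refine ⟨(card_map_of_injective hf).trans hU.1, ?_⟩
  rintro _ ⟨a, ha, rfl⟩
  rw [← map_mul, hU.2 a ha, map_one]

theorem isKleinFour_comap {H : Type*} [Group H] {U : Subgroup G} (hU : IsKleinFour U) (f : H →* G)
    (hf : Function.Injective f) (hle : U ≤ f.range) : IsKleinFour (U.comap f) := by
  rw [isKleinFour_iff] at hU ⊢
  refine ⟨?_, fun a ha => hf ?_⟩
  · rw [← card_map_of_injective hf, map_comap_eq_self hle, hU.1]
  · rw [map_mul, hU.2 _ ha, map_one]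

theorem klein_comm {U : Subgroup G} (hU : IsKleinFour U) : ∀ a ∈ U, ∀ b ∈ U, a * b = b * a :=
  fun a ha b hb => by
    have h := ((isKleinFour_iff U).mp hU).2
    have h1 := h _ (mul_mem ha hb)
    have h2 : a⁻¹ = a := inv_eq_of_mul_eq_one_right (h a ha)
    have h3 : b⁻¹ = b := inv_eq_of_mul_eq_one_right (h b hb)
    have h4 : (a * b)⁻¹ = a * b := inv_eq_of_mul_eq_one_right h1
    rw [← h4, mul_inv_rev, h2, h3]

theorem klein_orderOf {U : Subgroup G} (hU : IsKleinFour U) {a : G} (ha : a ∈ U) (h1 : a ≠ 1) :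
    orderOf a = 2 :=
  orderOf_eq_prime (by rw [pow_two]; exact ((isKleinFour_iff U).mp hU).2 a ha) h1

/-- A subgroup given by an explicit finite set. -/
def subgroupOfFinset [DecidableEq G] (s : Finset G) (h1 : 1 ∈ s)
    (hm : ∀ a ∈ s, ∀ b ∈ s, a * b ∈ s) (hi : ∀ a ∈ s, a⁻¹ ∈ s) : Subgroup G where
  carrier := s
  one_mem' := h1
  mul_mem' := fun {a b} ha hb => hm a ha b hb
  inv_mem' := fun {a} ha => hi a ha

theorem mem_subgroupOfFinset [DecidableEq G] (s : Finset G) (h1 : 1 ∈ s)
    (hm : ∀ a ∈ s, ∀ b ∈ s, a * b ∈ s) (hi : ∀ a ∈ s, a⁻¹ ∈ s) (a : G) :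
    a ∈ subgroupOfFinset s h1 hm hi ↔ a ∈ s := Iff.rfl

theorem card_subgroupOfFinset [DecidableEq G] (s : Finset G) (h1 : 1 ∈ s)
    (hm : ∀ a ∈ s, ∀ b ∈ s, a * b ∈ s) (hi : ∀ a ∈ s, a⁻¹ ∈ s) :
    Nat.card (subgroupOfFinset s h1 hm hi) = s.card :=
  Set.ncard_coe_finset s

open DihedralGroup in
/-- The first Klein four-subgroup of the dihedral group of order 8. -/
def d8V1 : Subgroup (DihedralGroup 4) :=
  subgroupOfFinset {r 0, r 2, sr 0, sr 2} (by decide) (by decide) (by decide)

open DihedralGroup in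
/-- The second Klein four-subgroup of the dihedral group of order 8. -/
def d8V2 : Subgroup (DihedralGroup 4) :=
  subgroupOfFinset {r 0, r 2, sr 1, sr 3} (by decide) (by decide) (by decide)

theorem d8V1_klein : IsKleinFour d8V1 := by
  rw [isKleinFour_iff]
  refine ⟨(card_subgroupOfFinset _ _ _ _).trans (by decide), ?_⟩
  simp only [d8V1, mem_subgroupOfFinset]
  decide

theorem d8V2_klein : IsKleinFour d8V2 := by
  rw [isKleinFour_iff]
  refine ⟨(card_subgroupOfFinset _ _ _ _).trans (by decide), ?_⟩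
  simp only [d8V2, mem_subgroupOfFinset]
  decide

theorem d8V1_ne_d8V2 : d8V1 ≠ d8V2 := by
  intro h
  have : DihedralGroup.sr 0 ∈ d8V1 := by
    simp only [d8V1, mem_subgroupOfFinset]; decide
  rw [h] at this
  simp only [d8V2, mem_subgroupOfFinset] at this
  revert this
  decide

open DihedralGroup in
theorem d8_klein_aux : ∀ s : Finset (DihedralGroup 4), s.card = 4 → (∀ a ∈ s, a * a = 1) →
    (∀ a ∈ s, ∀ b ∈ s, a * b ∈ s) → s = {r 0, r 2, sr 0, sr 2} ∨ s = {r 0, r 2, sr 1, sr 3} := by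
  decide +kernel

theorem d8_klein_cases {V : Subgroup (DihedralGroup 4)} (hV : IsKleinFour V) :
    V = d8V1 ∨ V = d8V2 := by
  classical
  rw [isKleinFour_iff] at hV
  have hmem : ∀ a, a ∈ (V : Set (DihedralGroup 4)).toFinset ↔ a ∈ V := by simp
  have := d8_klein_aux (V : Set (DihedralGroup 4)).toFinset (by
    rw [← Set.ncard_eq_toFinset_card']; exact hV.1) (fun a ha => hV.2 a ((hmem a).mp ha))
    (fun a ha b hb => (hmem _).mpr (mul_mem ((hmem a).mp ha) ((hmem b).mp hb)))
  rcases this with h | h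
  · left; ext a; rw [← hmem, h]; rfl
  · right; ext a; rw [← hmem, h]; rfl

/-- The normal Klein four-subgroup of the symmetric group of degree 4. -/
def s4V : Subgroup (Equiv.Perm (Fin 4)) :=
  subgroupOfFinset {1, Equiv.swap 0 1 * Equiv.swap 2 3, Equiv.swap 0 2 * Equiv.swap 1 3,
    Equiv.swap 0 3 * Equiv.swap 1 2} (by decide) (by decide) (by decide)

theorem s4V_klein : IsKleinFour s4V := by
  rw [isKleinFour_iff]
  refine ⟨(card_subgroupOfFinset _ _ _ _).trans (by decide), ?_⟩
  simp only [s4V, mem_subgroupOfFinset]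
  decide

theorem s4V_conj : ∀ g : Equiv.Perm (Fin 4), ∀ a ∈ s4V, g * a * g⁻¹ ∈ s4V := by
  simp only [s4V, mem_subgroupOfFinset]
  decide +kernel

/-- A subgroup isomorphic to `S₄` normalises a Klein four-subgroup of itself. -/
theorem exists_klein_of_perm_four [Finite G] {M : Subgroup G} (e : M ≃* Equiv.Perm (Fin 4)) :
    ∃ U : Subgroup G, IsKleinFour U ∧ U ≤ M ∧ M ≤ normalizer (U : Set G) := by
  let f : Equiv.Perm (Fin 4) →* G := M.subtype.comp e.symm.toMonoidHom
  have hf : Function.Injective f := M.subtype_injective.comp e.symm.injective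
  refine ⟨s4V.map f, isKleinFour_map s4V_klein f hf, ?_, ?_⟩
  · rintro _ ⟨a, -, rfl⟩
    exact (e.symm a).2
  · intro m hm
    apply mem_normalizer_fintype
    rintro _ ⟨a, ha, rfl⟩
    refine ⟨_, s4V_conj (e ⟨m, hm⟩) a ha, ?_⟩
    simp [f]

theorem mem_map_conj {H : Subgroup G} {g y : G} :
    y ∈ H.map (MulAut.conj g).toMonoidHom ↔ g⁻¹ * y * g ∈ H := by
  rw [mem_map_equiv, MulAut.conj_symm_apply]

theorem normalizer_map_conj (H : Subgroup G) (g : G) :
    normalizer ((H.map (MulAut.conj g).toMonoidHom : Subgroup G) : Set G) =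
      (normalizer (H : Set G)).map (MulAut.conj g).toMonoidHom :=
  (map_equiv_normalizer_eq H (MulAut.conj g)).symm

theorem map_conj_map_conj (H : Subgroup G) (g k : G) :
    (H.map (MulAut.conj g).toMonoidHom).map (MulAut.conj k).toMonoidHom =
      H.map (MulAut.conj (k * g)).toMonoidHom := by
  ext y
  simp only [mem_map_conj, mul_inv_rev, mul_assoc]

theorem map_conj_eq_of_mem_normalizer {H : Subgroup G} {g : G}
    (hg : g ∈ normalizer (H : Set G)) : H.map (MulAut.conj g).toMonoidHom = H := by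
  ext y
  rw [mem_map_conj]
  have := (mem_normalizer_iff.mp (inv_mem hg) y).symm
  rwa [inv_inv] at this

theorem map_conj_one (H : Subgroup G) : H.map (MulAut.conj (1 : G)).toMonoidHom = H :=
  map_conj_eq_of_mem_normalizer (one_mem _)

theorem coe_sylow_smul {p : ℕ} (g : G) (P : Sylow p G) :
    ((g • P : Sylow p G) : Subgroup G) = (P : Subgroup G).map (MulAut.conj g).toMonoidHom :=
  rfl

theorem exists_sylow_conj [Finite G] {p : ℕ} [Fact p.Prime] (P Q : Sylow p G) :
    ∃ g : G, (Q : Subgroup G) = (P : Subgroup G).map (MulAut.conj g).toMonoidHom := by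
  obtain ⟨g, rfl⟩ := MulAction.exists_smul_eq G P Q
  exact ⟨g, rfl⟩

/-- Two Sylow subgroups of `G` inside a subgroup `N` are conjugate in `N`. -/
theorem exists_sylow_conj_mem [Finite G] {p : ℕ} [Fact p.Prime] (P Q : Sylow p G)
    {N : Subgroup G} (hP : (P : Subgroup G) ≤ N) (hQ : (Q : Subgroup G) ≤ N) :
    ∃ g ∈ N, g • P = Q := by
  obtain ⟨n, hn⟩ := MulAction.exists_smul_eq N (P.subtype hP) (Q.subtype hQ)
  rw [Sylow.smul_subtype] at hn
  exact ⟨n, n.2, Sylow.subtype_injective hn⟩

end CL.SG
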