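import Cfsg.Agent.Base
import Cfsg.Agent.Small.Klein

/-!
More tools: automorphisms of prime order, cyclic Sylow subgroups for the smallest prime,
normalisers of Sylow subgroups in symmetric groups of degree `p`, `p + 1`.
-/

set_option autoImplicit false
set_option linter.unusedSectionVars false
set_option linter.style.haveILetI false

namespace CL.SG

open Subgroup

variable {G : Type*} [Group G]

/-- If a prime `s` divides `|Aut P|` then `s` divides `|P| - |F|` for a proper subgroup `F`. -/
theorem exists_of_prime_dvd_card_mulAut [Finite G] {s : ℕ} (hs : s.Prime)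
    (h : s ∣ Nat.card (MulAut G)) :
    ∃ F : Subgroup G, F ≠ ⊤ ∧ Nat.card G ≡ Nat.card F [MOD s] := by
  haveI := Fact.mk hs
  obtain ⟨α, hα⟩ := exists_prime_orderOf_dvd_card' s h
  have hp : IsPGroup s (zpowers α) :=
    IsPGroup.of_card (n := 1) (by rw [Nat.card_zpowers, hα, pow_one])
  have h1 := hp.card_modEq_card_fixedPoints G
  refine ⟨MonoidHom.eqLocus α.toMonoidHom (MonoidHom.id G), ?_, ?_⟩
  · intro ht
    have : α = 1 := by
      ext x
      have : x ∈ MonoidHom.eqLocus α.toMonoidHom (MonoidHom.id G) := ht ▸ mem_top x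
      exact this
    rw [this, orderOf_one] at hα
    exact hs.one_lt.ne hα
  · have h2 : MulAction.fixedPoints (zpowers α) G =
        (MonoidHom.eqLocus α.toMonoidHom (MonoidHom.id G) : Set G) := by
      ext x
      constructor
      · intro hx
        exact hx ⟨α, mem_zpowers α⟩
      · rintro hx ⟨β, hβ⟩
        have hx' : α ∈ MulAction.stabilizer (MulAut G) x := hx
        exact zpowers_le.mpr hx' hβ
    rwa [h2] at h1

theorem prime_dvd_of_dvd_card_mulAut_sq [Finite G] {p s : ℕ} (hp : p.Prime) (hs : s.Prime)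
    (hG : Nat.card G = p ^ 2) (h : s ∣ Nat.card (MulAut G)) : s ∣ p * ((p - 1) * (p + 1)) := by
  obtain ⟨F, hF, h1⟩ := exists_of_prime_dvd_card_mulAut hs h
  have h2 := card_subgroup_dvd_card F
  rw [hG] at h1 h2
  obtain ⟨i, hi, h3⟩ := (Nat.dvd_prime_pow hp).mp h2
  obtain ⟨k, rfl⟩ : ∃ k, p = k + 1 := ⟨p - 1, (Nat.succ_pred_eq_of_pos hp.pos).symm⟩
  rw [h3] at h1
  simp only [Nat.add_sub_cancel]
  interval_cases i
  · have := (Nat.modEq_iff_dvd' (Nat.one_le_pow _ _ hp.pos)).mp h1.symm
    rw [show (k + 1) ^ 2 - 1 = k * (k + 1 + 1) by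
      rw [show (k + 1) ^ 2 = k * (k + 1 + 1) + 1 by ring]; simp] at this
    exact this.mul_left _
  · have := (Nat.modEq_iff_dvd' (Nat.pow_le_pow_right hp.pos (by norm_num))).mp h1.symm
    rw [show (k + 1) ^ 2 - (k + 1) ^ 1 = (k + 1) * k by
      rw [show (k + 1) ^ 2 = (k + 1) * k + (k + 1) ^ 1 by ring]; simp] at this
    rw [← mul_assoc]
    exact this.mul_right _
  · exact absurd (eq_top_of_card_eq F (h3.trans hG.symm)) hF

theorem card_mulAut_dvd_factorial [Finite G] :
    Nat.card (MulAut G) ∣ (Nat.card G).factorial := by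
  have := card_dvd_of_injective (MulAut.toPerm G) (fun a b h => by
    ext x; exact congrArg (fun f : Equiv.Perm G => f x) h)
  rwa [Nat.card_perm] at this

/-- In a simple group the Sylow subgroup for the smallest prime is not cyclic (unless it is the
whole group). -/
theorem not_isCyclic_sylow_minFac [Finite G] [IsSimpleGroup G] {p : ℕ} [Fact p.Prime]
    (hp : (Nat.card G).minFac = p) (P : Sylow p G) (h2 : (P : Subgroup G) ≠ ⊤) :
    ¬ IsCyclic (P : Subgroup G) := by
  intro hc
  have h1 : (P : Subgroup G) ≠ ⊥ := P.ne_bot_of_dvd_card (hp ▸ Nat.minFac_dvd _)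
  exact not_normalizer_le_centralizer P h1 h2 (hc.normalizer_le_centralizer hp)

/-- For an abelian Sylow subgroup of a simple group, `|N(P)| = |C(P)| m` with `1 < m`,
`m ∣ |Aut P|`, `m` divides the index of `P`. -/
theorem exists_card_normalizer_sylow [Finite G] [IsSimpleGroup G] {p : ℕ} [Fact p.Prime]
    (P : Sylow p G) (h1 : (P : Subgroup G) ≠ ⊥) (h2 : (P : Subgroup G) ≠ ⊤)
    (hc : IsMulCommutative (P : Subgroup G)) :
    ∃ m : ℕ, m ≠ 1 ∧ m ∣ Nat.card (MulAut (P : Subgroup G)) ∧ m ∣ (P : Subgroup G).index ∧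
      m = (centralizer ((P : Subgroup G) : Set G)).relIndex
        (normalizer ((P : Subgroup G) : Set G)) ∧
      Nat.card (normalizer ((P : Subgroup G) : Set G)) =
        Nat.card (centralizer ((P : Subgroup G) : Set G)) * m := by
  refine ⟨_, ?_, ?_, ?_, rfl, ?_⟩
  · intro h
    exact not_normalizer_le_centralizer P h1 h2 (relIndex_eq_one.mp h)
  · have key := card_dvd_of_injective _
      (QuotientGroup.kerLift_injective (P : Subgroup G).normalizerMonoidHom)
    rwa [normalizerMonoidHom_ker, ← index, ← relIndex] at key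
  · exact (relIndex_dvd_of_le_left _ (le_centralizer _)).trans
      (relIndex_dvd_index_of_le le_normalizer)
  · rw [relIndex, ← card_mul_index ((centralizer ((P : Subgroup G) : Set G)).subgroupOf
      (normalizer ((P : Subgroup G) : Set G))), card_subgroupOf (centralizer_le_normalizer _)]

theorem card_prime_of_simple_of_comm [Finite G] [IsSimpleGroup G]
    (h : ∀ a b : G, a * b = b * a) : (Nat.card G).Prime := by
  letI : CommGroup G := { (inferInstance : Group G) with mul_comm := h }
  exact IsSimpleGroup.prime_card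

theorem perm_card_centralizer_of_prime {α : Type*} [Fintype α] [DecidableEq α] {p : ℕ}
    (hp : p.Prime) (hα : Fintype.card α = p ∨ Fintype.card α = p + 1) {σ : Equiv.Perm α}
    (hσ : orderOf σ = p) : σ.cycleType = {p} ∧
      Nat.card (centralizer ({σ} : Set (Equiv.Perm α))) = p := by
  have h1 : σ.IsCycle := Equiv.Perm.isCycle_of_prime_order' (hσ ▸ hp) (by
    have := hp.two_le; omega)
  have h2 : σ.cycleType = {p} := by rw [h1.cycleType, ← h1.orderOf, hσ]
  refine ⟨h2, ?_⟩
  rw [Equiv.Perm.nat_card_centralizer, h2]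
  rcases hα with h | h <;> simp [h]

theorem perm_card_sylow_of_prime {α : Type*} [Fintype α] [DecidableEq α] {p : ℕ}
    [hp : Fact p.Prime] (hα : Fintype.card α = p ∨ Fintype.card α = p + 1)
    (P : Sylow p (Equiv.Perm α)) : Nat.card (P : Subgroup (Equiv.Perm α)) = p := by
  obtain ⟨k, rfl⟩ : ∃ k, p = k + 1 := ⟨p - 1, (Nat.succ_pred_eq_of_pos hp.out.pos).symm⟩
  have hk : ¬ (k + 1) ∣ k.factorial := by
    rw [hp.out.dvd_factorial]; omega
  rcases hα with h | h
  · have := card_sylow_of_eq P (k := 1) (m := k.factorial) (by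
      rw [Nat.card_perm, Nat.card_eq_fintype_card, h, Nat.factorial_succ, pow_one]) hk
    simpa using this
  · have := card_sylow_of_eq P (k := 1) (m := (k + 1 + 1) * k.factorial) (by
      rw [Nat.card_perm, Nat.card_eq_fintype_card, h, Nat.factorial_succ, Nat.factorial_succ]
      ring) (by
      intro h1
      rcases (Nat.Prime.dvd_mul hp.out).mp h1 with h2 | h2
      · exact hp.out.one_lt.ne' (Nat.dvd_one.mp ((Nat.dvd_add_right dvd_rfl).mp h2))
      · exact hk h2)
    simpa using this

theorem perm_card_normalizer_sylow {α : Type*} [Fintype α] [DecidableEq α] {p : ℕ}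
    [hp : Fact p.Prime] (hα : Fintype.card α = p ∨ Fintype.card α = p + 1)
    (P : Sylow p (Equiv.Perm α)) :
    Nat.card (normalizer ((P : Subgroup (Equiv.Perm α)) : Set (Equiv.Perm α))) = p * (p - 1) := by
  have h1 := perm_card_sylow_of_prime hα P
  obtain ⟨σ, -, hσ⟩ := exists_orderOf_eq_mem (P : Subgroup (Equiv.Perm α)) p h1.symm.dvd
  have h2 := ncard_isConj_mul_card_centralizer σ
  have h3 : {g | IsConj σ g} = {g | orderOf g = p} := by
    ext g
    refine ⟨fun hg => (orderOf_eq_of_isConj hg).trans hσ, fun hg => ?_⟩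
    change IsConj σ g
    rw [Equiv.Perm.isConj_iff_cycleType_eq, (perm_card_centralizer_of_prime hp.out hα hσ).1,
      (perm_card_centralizer_of_prime hp.out hα hg).1]
  rw [h3, ncard_orderOf_eq_prime P h1, (perm_card_centralizer_of_prime hp.out hα hσ).2,
    ← card_sylow_mul_card_normalizer P, mul_assoc] at h2
  rw [← Nat.eq_of_mul_eq_mul_left Nat.card_pos h2, mul_comm]

end CL.SG
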