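import Cfsg.Agent.Base
import Cfsg.Agent.Small.Aut

/-!
More tools for simple groups of given order: elements of order divisible by `p`, transfer into
abelian Sylow subgroups, embeddings into alternating groups, groups whose 2-elements are all
2-central involutions.
-/

set_option autoImplicit false
set_option linter.unusedSectionVars false
set_option linter.style.haveILetI false

namespace CL.SG

open Subgroup

variable {G : Type*} [Group G] [Finite G]

theorem commute_pow_self (g : G) (k : ℕ) : g * g ^ k = g ^ k * g := (Commute.self_pow g k).eq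

theorem exists_pow_orderOf_eq {g : G} {p : ℕ} (h : p ∣ orderOf g) :
    ∃ k : ℕ, orderOf (g ^ k) = p :=
  ⟨orderOf g / p, orderOf_pow_orderOf_div (orderOf_pos g).ne' h⟩

theorem mem_centralizer_pow (g : G) (k : ℕ) : g ∈ centralizer ({g ^ k} : Set G) :=
  mem_centralizer_singleton_iff.mpr (commute_pow_self g k)

section

variable {p : ℕ} [hp : Fact p.Prime]

theorem exists_sylow_eq_zpowers (P : Sylow p G) (hP : Nat.card (P : Subgroup G) = p) {x : G}
    (hx : orderOf x = p) : ∃ Q : Sylow p G, (Q : Subgroup G) = zpowers x :=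
  exists_sylow_eq P (by rw [Nat.card_zpowers, hx, hP])

theorem card_centralizer_sylow_eq (P Q : Sylow p G) :
    Nat.card (centralizer ((Q : Subgroup G) : Set G)) =
      Nat.card (centralizer ((P : Subgroup G) : Set G)) := by
  have key : ∀ P Q : Sylow p G, Nat.card (centralizer ((P : Subgroup G) : Set G)) ≤
      Nat.card (centralizer ((Q : Subgroup G) : Set G)) := by
    intro P Q
    obtain ⟨g, hg⟩ := exists_sylow_conj P Q
    rw [← card_map_conj _ g, hg]
    apply card_le_of_le
    rw [coe_map]
    exact map_centralizer_le_centralizer_image _ _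
  exact le_antisymm (key Q P) (key P Q)

theorem card_normalizer_sylow_eq (P Q : Sylow p G) :
    Nat.card (normalizer ((Q : Subgroup G) : Set G)) =
      Nat.card (normalizer ((P : Subgroup G) : Set G)) := by
  have h1 := card_sylow_mul_card_normalizer P
  rw [← card_sylow_mul_card_normalizer Q] at h1
  exact (Nat.eq_of_mul_eq_mul_left Nat.card_pos h1).symm

theorem card_centralizer_of_orderOf (P : Sylow p G) (hP : Nat.card (P : Subgroup G) = p) {x : G}
    (hx : orderOf x = p) : Nat.card (centralizer ({x} : Set G)) =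
      Nat.card (centralizer ((P : Subgroup G) : Set G)) := by
  obtain ⟨Q, hQ⟩ := exists_sylow_eq_zpowers P hP hx
  rw [← centralizer_zpowers, ← hQ, card_centralizer_sylow_eq P Q]

theorem ncard_dvd_orderOf_of_central (P : Sylow p G) (hP : Nat.card (P : Subgroup G) = p)
    (hc : centralizer ((P : Subgroup G) : Set G) = ⊤) :
    p * {g : G | p ∣ orderOf g}.ncard = Nat.card G * (p - 1) := by
  have hN : normalizer ((P : Subgroup G) : Set G) ≤ centralizer ((P : Subgroup G) : Set G) :=
    hc ▸ le_top
  have h1 := (MonoidHom.ker_transferSylow_isComplement' P hN).card_mul_card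
  have h2 := MonoidHom.not_dvd_card_ker_transferSylow P hN
  set f := MonoidHom.transferSylow P hN
  have h3 : {g : G | p ∣ orderOf g} = (f.ker : Set G)ᶜ := by
    ext g
    simp only [Set.mem_ofPred_eq, Set.mem_compl_iff, SetLike.mem_coe]
    constructor
    · intro h4 h5
      exact h2 (h4.trans (orderOf_dvd_card_of_mem h5))
    · intro h4
      have h5 := orderOf_dvd_natCard (f g)
      rw [hP] at h5
      rcases (Nat.dvd_prime hp.out).mp h5 with h6 | h6
      · exact absurd (orderOf_eq_one_iff.mp h6) h4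
      · exact h6.symm.dvd.trans (orderOf_map_dvd f g)
  have h4 := Set.ncard_add_ncard_compl (f.ker : Set G)
  change Nat.card f.ker + _ = _ at h4
  rw [h3]
  rw [hP] at h1
  obtain ⟨k, hk⟩ : ∃ k, p = k + 1 := ⟨p - 1, (Nat.succ_pred_eq_of_pos hp.out.pos).symm⟩
  generalize Nat.card f.ker = a at *
  generalize ((f.ker : Set G)ᶜ).ncard = b at *
  rw [← h1] at h4 ⊢
  rw [hk] at h4 ⊢
  simp only [Nat.add_sub_cancel]
  have : b = a * k := by nlinarith
  rw [this]; ring

theorem ncard_mem_centralizer_dvd_orderOf (P : Sylow p G) (hP : Nat.card (P : Subgroup G) = p) :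
    p * {g : G | g ∈ centralizer ((P : Subgroup G) : Set G) ∧ p ∣ orderOf g}.ncard =
      Nat.card (centralizer ((P : Subgroup G) : Set G)) * (p - 1) := by
  haveI : IsCyclic (P : Subgroup G) := isCyclic_of_prime_card hP
  have hle : (P : Subgroup G) ≤ centralizer ((P : Subgroup G) : Set G) := le_centralizer _
  have h1 := ncard_dvd_orderOf_of_central (P.subtype hle) (by
    rw [Sylow.coe_subtype, card_subgroupOf hle, hP]) (by
    rw [eq_top_iff]
    intro c _ u hu
    exact Subtype.ext (c.2 u hu))
  rw [← h1]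
  congr 1
  rw [← Set.ncard_image_of_injective _ Subtype.val_injective]
  congr 1
  ext g
  constructor
  · rintro ⟨h2, h3⟩
    exact ⟨⟨g, h2⟩, by simpa using h3, rfl⟩
  · rintro ⟨c, hc, rfl⟩
    exact ⟨c.2, by simpa using hc⟩

/-- The number of elements of order divisible by `p` when the Sylow `p`-subgroups have
order `p`. -/
theorem ncard_dvd_orderOf (P : Sylow p G) (hP : Nat.card (P : Subgroup G) = p) :
    p * {g : G | p ∣ orderOf g}.ncard =
      Nat.card (Sylow p G) * Nat.card (centralizer ((P : Subgroup G) : Set G)) * (p - 1) := by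
  classical
  have e : {g : G | p ∣ orderOf g} ≃ Σ Q : Sylow p G,
      {g : G | g ∈ centralizer ((Q : Subgroup G) : Set G) ∧ p ∣ orderOf g} := by
    refine (Equiv.ofBijective (fun y => (⟨y.2.1, y.2.2.2⟩ : {g : G | p ∣ orderOf g})) ⟨?_, ?_⟩).symm
    · rintro ⟨Q, g, hg, hg1⟩ ⟨R, g', hg', hg1'⟩ h
      have h' : g = g' := congrArg Subtype.val h
      subst h'
      obtain ⟨k, hk⟩ := exists_pow_orderOf_eq hg1
      have h1 : g ^ k ≠ 1 := by
        intro h1; rw [h1, orderOf_one] at hk; exact hp.out.one_lt.ne hk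
      have h2 : ∀ S : Sylow p G, g ∈ centralizer ((S : Subgroup G) : Set G) →
          (S : Subgroup G) = zpowers (g ^ k) := fun S hS =>
        (zpowers_eq_of_card_prime hp.out ((card_sylow_eq S P).trans hP)
          (mem_sylow_of_mem_normalizer S (k := 1) (by rw [hk, pow_one])
            (centralizer_le_normalizer _ (pow_mem hS k))) h1).symm
      have : Q = R := Sylow.ext ((h2 Q hg).trans (h2 R hg').symm)
      subst this
      rfl
    · rintro ⟨g, hg⟩
      obtain ⟨k, hk⟩ := exists_pow_orderOf_eq hg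
      obtain ⟨Q, hQ⟩ := exists_sylow_eq_zpowers P hP hk
      refine ⟨⟨Q, g, ?_, hg⟩, rfl⟩
      rw [hQ, centralizer_zpowers]
      exact mem_centralizer_pow g k
  change p * Nat.card {g : G | p ∣ orderOf g} = _
  haveI := Fintype.ofFinite (Sylow p G)
  rw [Nat.card_congr e, Nat.card_sigma, Finset.mul_sum]
  have h1 : ∀ Q : Sylow p G, p * Nat.card
      {g : G | g ∈ centralizer ((Q : Subgroup G) : Set G) ∧ p ∣ orderOf g} =
      Nat.card (centralizer ((P : Subgroup G) : Set G)) * (p - 1) := fun Q => by
    rw [← card_centralizer_sylow_eq P Q]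
    exact ncard_mem_centralizer_dvd_orderOf Q ((card_sylow_eq Q P).trans hP)
  simp only [h1, Finset.sum_const, Finset.card_univ, smul_eq_mul, Nat.card_eq_fintype_card,
    mul_assoc]

open scoped IsMulCommutative in
/-- Transfer: in a simple group, an abelian Sylow subgroup meets the centre of its normaliser
trivially. -/
theorem eq_one_of_mem_center_normalizer [IsSimpleGroup G] (P : Sylow p G)
    (h2 : (P : Subgroup G) ≠ ⊤) (hc : IsMulCommutative (P : Subgroup G)) {y : G}
    (hy : y ∈ (P : Subgroup G))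
    (hn : ∀ n ∈ normalizer ((P : Subgroup G) : Set G), n * y = y * n) : y = 1 := by
  have key : ∀ (k : ℕ) (g₀ : G), g₀⁻¹ * y ^ k * g₀ ∈ (P : Subgroup G) →
      g₀⁻¹ * y ^ k * g₀ = y ^ k := by
    intro k g₀ h
    obtain ⟨n, hn', h1⟩ := P.conj_eq_normalizer_conj_of_mem (y ^ k) g₀ (pow_mem hy k) h
    have h3 : Commute n (y ^ k) := Commute.pow_right (hn n hn') k
    rw [h1, mul_assoc, ← h3.eq, inv_mul_cancel_left]
  have h1 := MonoidHom.transfer_eq_pow (MonoidHom.id (P : Subgroup G)) y key
  set V := MonoidHom.transfer (MonoidHom.id (P : Subgroup G))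
  rcases (MonoidHom.normal_ker V).eq_bot_or_eq_top with h | h
  · have := Nat.card_le_card_of_injective V ((MonoidHom.ker_eq_bot_iff V).mp h)
    exact absurd (eq_top_of_le_card _ this) h2
  · have h3 : V y = 1 := by
      rw [← MonoidHom.mem_ker, h]; exact mem_top y
    rw [h3] at h1
    have h4 : y ^ (P : Subgroup G).index = 1 := (congrArg Subtype.val h1).symm
    obtain ⟨k, hk⟩ := P.2 ⟨y, hy⟩
    have h5 : y ^ p ^ k = 1 := congrArg Subtype.val hk
    rw [← orderOf_eq_one_iff]
    exact Nat.eq_one_of_dvd_coprimes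
      (Nat.Coprime.pow_right k ((hp.out.coprime_iff_not_dvd.mpr P.not_dvd_index).symm))
      (orderOf_dvd_of_pow_eq_one h4) (orderOf_dvd_of_pow_eq_one h5)

/-- If `|N(P) : C(P)| = 2` for an abelian Sylow subgroup of a simple group, then the elements of
`N(P)` outside `C(P)` invert `P`. -/
theorem inverts_of_card_two [IsSimpleGroup G] (P : Sylow p G)
    (h2 : (P : Subgroup G) ≠ ⊤) (hc : IsMulCommutative (P : Subgroup G))
    (hN : Nat.card (normalizer ((P : Subgroup G) : Set G)) =
      2 * Nat.card (centralizer ((P : Subgroup G) : Set G)))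
    {u : G} (hu : u ∈ normalizer ((P : Subgroup G) : Set G))
    (hu' : u ∉ centralizer ((P : Subgroup G) : Set G)) {y : G} (hy : y ∈ (P : Subgroup G)) :
    u * y * u⁻¹ = y⁻¹ := by
  have hle := centralizer_le_normalizer ((P : Subgroup G) : Set G)
  have h1 : u * y * u⁻¹ ∈ (P : Subgroup G) := (mem_normalizer_iff.mp hu y).mp hy
  have hcomm : ∀ a ∈ (P : Subgroup G), ∀ b ∈ (P : Subgroup G), a * b = b * a :=
    fun a ha b hb => congrArg Subtype.val (hc.1.1 (⟨a, ha⟩ : (P : Subgroup G)) ⟨b, hb⟩)
  have huu : u * u ∈ centralizer ((P : Subgroup G) : Set G) := mul_self_mem_of_card_two hle hN hu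
  have h3 : u * (y * (u * y * u⁻¹)) = (y * (u * y * u⁻¹)) * u := by
    have h4 := huu y hy
    calc u * (y * (u * y * u⁻¹)) = (u * y * u⁻¹) * ((u * u) * y) * u⁻¹ := by group
      _ = (u * y * u⁻¹) * (y * (u * u)) * u⁻¹ := by rw [h4]
      _ = ((u * y * u⁻¹) * y) * u := by group
      _ = (y * (u * y * u⁻¹)) * u := by rw [hcomm _ h1 y hy]
  have h4 : y * (u * y * u⁻¹) = 1 := by
    apply eq_one_of_mem_center_normalizer P h2 hc (mul_mem hy h1)
    intro n hn
    by_cases h5 : n ∈ centralizer ((P : Subgroup G) : Set G)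
    · exact (h5 _ (mul_mem hy h1)).symm
    · have h6 : u⁻¹ * n ∈ centralizer ((P : Subgroup G) : Set G) := by
        rw [mul_mem_iff_of_card_two hle hN (inv_mem hu) hn, inv_mem_iff]
        exact iff_of_false hu' h5
      have h7 := h6 _ (mul_mem hy h1)
      generalize y * (u * y * u⁻¹) = w at *
      calc n * w = u * (u⁻¹ * n * w) := by group
        _ = (u * w) * (u⁻¹ * n) := by rw [← h7]; group
        _ = w * n := by rw [h3]; group
  exact eq_inv_of_mul_eq_one_right h4

end

theorem sign_eq_one_of_simple [IsSimpleGroup G] (h2 : Nat.card G ≠ 2) {α : Type*} [Fintype α]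
    [DecidableEq α] (f : G →* Equiv.Perm α) (g : G) : Equiv.Perm.sign (f g) = 1 := by
  set V := Equiv.Perm.sign.comp f
  rcases (MonoidHom.normal_ker V).eq_bot_or_eq_top with h | h
  · have h1 := Nat.card_le_card_of_injective V ((MonoidHom.ker_eq_bot_iff V).mp h)
    have h3 : Nat.card ℤˣ = 2 := by simp
    have h4 : 1 < Nat.card G := Finite.one_lt_card
    omega
  · have : g ∈ V.ker := h ▸ mem_top g
    exact this

theorem exists_embedding_alternating' [IsSimpleGroup G] (h2 : Nat.card G ≠ 2) {H : Subgroup G}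
    (hH : H ≠ ⊤) {n : ℕ} (hn : H.index = n) :
    ∃ f : G →* alternatingGroup (Fin n), Function.Injective f := by
  have e : G ⧸ H ≃ Fin n := Finite.equivFinOfCardEq hn
  let f : G →* Equiv.Perm (Fin n) :=
    e.permCongrHom.toMonoidHom.comp (MulAction.toPermHom G (G ⧸ H))
  have hf : Function.Injective f := e.permCongrHom.injective.comp (toPermHom_injective hH)
  refine ⟨f.codRestrict _ (fun g => Equiv.Perm.mem_alternatingGroup.mpr
    (sign_eq_one_of_simple h2 f g)), fun a b h => hf (congrArg Subtype.val h)⟩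

theorem two_mul_card_alt {n : ℕ} (hn : 2 ≤ n) :
    2 * Nat.card (alternatingGroup (Fin n)) = n.factorial := by
  haveI : Nontrivial (Fin n) := Fin.nontrivial_iff_two_le.mpr hn
  have := two_mul_nat_card_alternatingGroup (α := Fin n)
  rwa [Nat.card_perm, Nat.card_eq_fintype_card (α := Fin n), Fintype.card_fin] at this

/-- A simple group with a subgroup of index `n ≥ 5` is a subgroup of index `m` of `A_n`, where
`m = 1` or `n!` divides `2 m!`. -/
theorem exists_index_alt [IsSimpleGroup G] (h2 : Nat.card G ≠ 2) {H : Subgroup G}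
    {n : ℕ} (hn : H.index = n) (h5 : 5 ≤ n) :
    ∃ m : ℕ, 2 * (Nat.card G * m) = n.factorial ∧
      ((m = 1 ∧ Nonempty (G ≃* alternatingGroup (Fin n))) ∨ n.factorial ∣ 2 * m.factorial) := by
  have hH : H ≠ ⊤ := by rintro rfl; rw [index_top] at hn; omega
  obtain ⟨f, hf⟩ := exists_embedding_alternating' h2 hH hn
  haveI : IsSimpleGroup (alternatingGroup (Fin n)) := alternatingGroup.isSimpleGroup (by simpa)
  have h1 := two_mul_card_alt (n := n) (by omega)
  have h3 := card_mul_index f.range
  rw [← Nat.card_congr (MonoidHom.ofInjective hf).toEquiv] at h3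
  refine ⟨f.range.index, by rw [h3, h1], ?_⟩
  by_cases ht : f.range = ⊤
  · left
    exact ⟨by rw [ht, index_top], ⟨MulEquiv.ofBijective f ⟨hf, MonoidHom.range_eq_top.mp ht⟩⟩⟩
  · right
    rw [← h1]
    exact Nat.mul_dvd_mul_left 2 (card_dvd_factorial_index ht)

/-- If a simple group has `p + 1` Sylow `p`-subgroups of order `p`, they are self-centralising. -/
theorem card_centralizer_of_card_sylow [IsSimpleGroup G] {p : ℕ} [hp : Fact p.Prime]
    (P : Sylow p G) (hP : Nat.card (P : Subgroup G) = p) (hn : Nat.card (Sylow p G) = p + 1) :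
    Nat.card (centralizer ((P : Subgroup G) : Set G)) = p := by
  classical
  haveI : IsCyclic (P : Subgroup G) := isCyclic_of_prime_card hP
  have hH : normalizer ((P : Subgroup G) : Set G) ≠ ⊤ := by
    intro h
    rw [P.card_eq_index_normalizer] at hn
    have h' : normalizer (P : Set G) = ⊤ := h
    rw [h', index_top] at hn
    have := hp.out.pos
    omega
  have hf := toPermHom_injective hH
  set f := MulAction.toPermHom G (G ⧸ normalizer ((P : Subgroup G) : Set G))
  haveI := Fintype.ofFinite (G ⧸ normalizer ((P : Subgroup G) : Set G))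
  obtain ⟨x, -, hx⟩ := exists_orderOf_eq_mem (P : Subgroup G) p hP.symm.dvd
  have h1 := (perm_card_centralizer_of_prime hp.out (Or.inr (by
    rw [← Nat.card_eq_fintype_card, ← hn, P.card_eq_index_normalizer]; rfl))
    ((orderOf_injective f hf x).trans hx)).2
  have h2 : (centralizer ({x} : Set G)).map f ≤ centralizer {f x} := by
    have := map_centralizer_le_centralizer_image ({x} : Set G) f
    rwa [Set.image_singleton] at this
  have h3 := card_le_of_le h2
  rw [card_map_of_injective hf, h1, card_centralizer_of_orderOf P hP hx] at h3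
  exact le_antisymm h3 (hP.symm.le.trans (card_le_of_le (le_centralizer _)))

theorem card_dvd_two_pow {H : Subgroup G} (h : ∀ q : ℕ, q.Prime → q ∣ Nat.card H → q = 2) :
    IsPGroup 2 H := by
  rw [IsPGroup.iff_card]
  exact ⟨_, Nat.eq_prime_pow_of_unique_prime_dvd Nat.card_pos.ne' (fun hq hd => h _ hq hd)⟩

/-- If centralisers of involutions are 2-groups and there are few 2-elements, then the
centralisers of involutions are elementary abelian. -/
theorem centralizer_elementary (T : Sylow 2 G) (hT : (T : Subgroup G) ≠ ⊥)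
    (h1 : ∀ t : G, orderOf t = 2 → IsPGroup 2 (centralizer ({t} : Set G)))
    (h2 : ({g : G | ∃ k, orderOf g ∣ 2 ^ k}.ncard - 1) * Nat.card (T : Subgroup G) ≤ Nat.card G) :
    ∀ t : G, orderOf t = 2 → IsMulCommutative (centralizer ({t} : Set G)) ∧
      ∀ c ∈ centralizer ({t} : Set G), c ^ 2 = 1 := by
  haveI : Nontrivial (T : Subgroup G) := (nontrivial_iff_ne_bot _).mpr hT
  have h3 := T.2.bot_lt_center
  obtain ⟨z, hz, hz2⟩ := exists_orderOf_eq_mem (center (T : Subgroup G)) 2
    ((T.2.to_subgroup _).card_eq_or_dvd.resolve_left (fun h => h3.ne' (card_eq_one.mp h)))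
  have hz2' : orderOf (z : G) = 2 := (Subgroup.orderOf_coe z).trans hz2
  have h4 : (T : Subgroup G) ≤ centralizer ({(z : G)} : Set G) := fun a ha =>
    mem_centralizer_singleton_iff.mpr (congrArg Subtype.val (mem_center_iff.mp hz ⟨a, ha⟩))
  have h5 := T.3 (h1 z hz2') h4
  have h6 := ncard_isConj_mul_card_centralizer (z : G)
  rw [h5] at h6
  have h7 : insert 1 {g : G | IsConj (z : G) g} ⊆ {g : G | ∃ k, orderOf g ∣ 2 ^ k} := by
    rintro g (rfl | hg)
    · exact ⟨0, by simp⟩
    · exact ⟨1, by rw [orderOf_eq_of_isConj hg, hz2']; norm_num⟩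
  have h8 := Set.eq_of_subset_of_ncard_le h7 (by
    rw [Set.ncard_insert_of_notMem (by
      intro h
      have := orderOf_eq_of_isConj h
      rw [orderOf_one, hz2'] at this
      omega)]
    rw [← h6] at h2
    have := Nat.le_of_mul_le_mul_right h2 Nat.card_pos
    omega)
  intro t ht
  have h9 : ∀ c ∈ centralizer ({t} : Set G), c ^ 2 = 1 := by
    intro c hc
    obtain ⟨k, hk⟩ := isPGroup_iff_orderOf_dvd_pow.mp (h1 t ht) ⟨c, hc⟩
    have : c ∈ {g : G | ∃ k, orderOf g ∣ 2 ^ k} := ⟨k, by simpa using hk⟩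
    rw [← h8] at this
    rcases this with rfl | h
    · simp
    · rw [← hz2', ← orderOf_eq_of_isConj h, pow_orderOf_eq_one]
  refine ⟨⟨⟨fun a b => Subtype.ext ?_⟩⟩, h9⟩
  exact comm_of_mul_self (G := G) (fun a ha => by rw [← pow_two, h9 a ha]) a a.2 b b.2

end CL.SG
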