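import Cfsg.Agent.Base
import Cfsg.Agent.Small.Recog

/-!
Simple groups of order 168: Sylow numbers, centralisers, element counts.
-/

set_option autoImplicit false
set_option linter.unusedSectionVars false
set_option linter.style.haveILetI false

namespace CL.O168

open Subgroup CL.SG

theorem fact7 : Fact (Nat.Prime 7) := ⟨by norm_num⟩

attribute [local instance] fact7

variable {G : Type*} [Group G] [Finite G] [IsSimpleGroup G] (h : Nat.card G = 168)
include h

theorem card7 (P : Sylow 7 G) : Nat.card (P : Subgroup G) = 7 :=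
  card_sylow_of_eq P (k := 1) (m := 24) (h.trans (by norm_num)) (by norm_num)

theorem card3 (P : Sylow 3 G) : Nat.card (P : Subgroup G) = 3 :=
  card_sylow_of_eq P (k := 1) (m := 56) (h.trans (by norm_num)) (by norm_num)

theorem card2 (P : Sylow 2 G) : Nat.card (P : Subgroup G) = 8 :=
  card_sylow_of_eq P (k := 3) (m := 21) (h.trans (by norm_num)) (by norm_num)

theorem n7 : Nat.card (Sylow 7 G) = 8 := by
  obtain ⟨P⟩ : Nonempty (Sylow 7 G) := inferInstance
  have h1 := P.card_dvd_index
  have h2 := card_sylow_modEq_one 7 G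
  have h3 := card_sylow_ne_one P (ne_bot_of_card (by rw [card7 h]; norm_num))
    (ne_top_of_card (by rw [card7 h, h]; norm_num))
  have h4 := card_mul_index (P : Subgroup G)
  rw [card7 h, h] at h4
  have h5 : (P : Subgroup G).index = 24 := by omega
  rw [h5] at h1
  generalize Nat.card (Sylow 7 G) = n at *
  have hn := Nat.le_of_dvd (by norm_num) h1
  unfold Nat.ModEq at h2
  interval_cases n <;> omega

theorem card_normalizer7 (P : Sylow 7 G) :
    Nat.card (normalizer ((P : Subgroup G) : Set G)) = 21 := by
  have := card_sylow_mul_card_normalizer P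
  rw [n7 h, h] at this
  omega

theorem centralizer7 (P : Sylow 7 G) : centralizer ((P : Subgroup G) : Set G) = P := by
  haveI : IsCyclic (P : Subgroup G) := isCyclic_of_prime_card (card7 h P)
  have h1 : (P : Subgroup G) ≤ centralizer ((P : Subgroup G) : Set G) := le_centralizer _
  have h2 := centralizer_le_normalizer ((P : Subgroup G) : Set G)
  have h3 := not_normalizer_le_centralizer P (ne_bot_of_card (by rw [card7 h]; norm_num))
    (ne_top_of_card (by rw [card7 h, h]; norm_num))
  have h4 := card_dvd_of_le h1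
  have h5 := card_dvd_of_le h2
  have h6 : Nat.card (centralizer ((P : Subgroup G) : Set G)) ≠ 21 := by
    intro h6
    exact h3 (eq_of_le_of_card_le h2 (by rw [h6, card_normalizer7 h])).ge
  symm
  apply eq_of_le_of_card_le h1
  rw [card7 h] at h4 ⊢
  rw [card_normalizer7 h] at h5
  generalize Nat.card (centralizer ((P : Subgroup G) : Set G)) = c at *
  have hn := Nat.le_of_dvd (by norm_num) h5
  interval_cases c <;> omega

theorem centralizer_order7 {x : G} (hx : orderOf x = 7) :
    centralizer ({x} : Set G) = zpowers x := by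
  obtain ⟨P, hP⟩ := exists_sylow_mem (p := 7) (k := 1) (x := x) (by rw [hx]; norm_num)
  have h1 : x ≠ 1 := by rintro rfl; simp at hx
  have h2 := zpowers_eq_of_card_prime (by norm_num) (card7 h P) hP h1
  rw [← centralizer_zpowers, h2, centralizer7 h]

theorem orderOf_dvd_of_commute7 {x g : G} (hx : orderOf x = 7) (hc : g * x = x * g) :
    orderOf g ∣ 7 := by
  have : g ∈ centralizer ({x} : Set G) := mem_centralizer_singleton_iff.mpr hc
  rw [centralizer_order7 h hx] at this
  exact hx ▸ orderOf_dvd_of_mem_zpowers this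

theorem ncard_order7 : {g : G | orderOf g = 7}.ncard = 48 := by
  obtain ⟨P⟩ : Nonempty (Sylow 7 G) := inferInstance
  rw [ncard_orderOf_eq_prime P (card7 h P), n7 h]

theorem n3 : Nat.card (Sylow 3 G) = 28 := by
  obtain ⟨Q⟩ : Nonempty (Sylow 3 G) := inferInstance
  obtain ⟨P⟩ : Nonempty (Sylow 7 G) := inferInstance
  have h1 := Q.card_dvd_index
  have h2 := card_sylow_modEq_one 3 G
  have hb : (Q : Subgroup G) ≠ ⊥ := ne_bot_of_card (by rw [card3 h]; norm_num)
  have ht : (Q : Subgroup G) ≠ ⊤ := ne_top_of_card (by rw [card3 h, h]; norm_num)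
  have h3 := card_dvd_factorial_card_sylow Q hb ht
  have h4 := card_mul_index (Q : Subgroup G)
  rw [card3 h, h] at h4
  have h5 : (Q : Subgroup G).index = 56 := by omega
  rw [h5] at h1
  rw [h] at h3
  have h6 : Nat.card (Sylow 3 G) ≠ 7 := by
    intro h6
    have h7 : {g : G | orderOf g = 3}.ncard = 14 := by
      rw [ncard_orderOf_eq_prime Q (card3 h Q), h6]
    set N := normalizer ((P : Subgroup G) : Set G) with hN
    have h8 : ((N : Set G) \ (P : Subgroup G)) ⊆ {g : G | orderOf g = 3} := by
      rintro g ⟨hg, hgP⟩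
      have hd := orderOf_dvd_card_of_mem hg
      rw [card_normalizer7 h] at hd
      have h9 : ¬ orderOf g ∣ 7 := fun h9 =>
        hgP (mem_sylow_of_mem_normalizer P (k := 1) (by simpa using h9) hg)
      have h10 : orderOf g ≠ 21 := by
        intro h10
        have h11 : orderOf (g ^ 3) = 7 := by rw [orderOf_pow' _ (by norm_num), h10]; rfl
        exact h9 (orderOf_dvd_of_commute7 h h11 (by group))
      change orderOf g = 3
      generalize orderOf g = o at *
      have := Nat.le_of_dvd (by norm_num) hd
      interval_cases o <;> omega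
    have h9 : ((N : Set G) \ (P : Subgroup G)).ncard = 14 := by
      rw [Set.ncard_sdiff (le_normalizer (H := (P : Subgroup G)))]
      change Nat.card N - Nat.card (P : Subgroup G) = 14
      rw [card_normalizer7 h, card7 h]
    have h10 := Set.eq_of_subset_of_ncard_le h8 (by rw [h7, h9])
    obtain ⟨y, -, hy⟩ := exists_orderOf_eq_mem (Q : Subgroup G) 3 (by rw [card3 h])
    have h11 : y = 1 := by
      apply eq_one_of_forall_conj_mem (H := N) (ne_top_of_card (by
        rw [card_normalizer7 h, h]; norm_num))
      intro g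
      have : g * y * g⁻¹ ∈ {g : G | orderOf g = 3} :=
        (orderOf_eq_of_isConj (isConj_iff.mpr ⟨g, rfl⟩)).trans hy
      rw [← h10] at this
      exact this.1
    rw [h11, orderOf_one] at hy
    omega
  generalize Nat.card (Sylow 3 G) = n at *
  have hn := Nat.le_of_dvd (by norm_num) h1
  unfold Nat.ModEq at h2
  interval_cases n <;> first | omega | (exfalso; revert h3; decide)

theorem card_normalizer3 (P : Sylow 3 G) :
    Nat.card (normalizer ((P : Subgroup G) : Set G)) = 6 := by
  have := card_sylow_mul_card_normalizer P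
  rw [n3 h, h] at this
  omega

theorem centralizer3 (P : Sylow 3 G) : centralizer ((P : Subgroup G) : Set G) = P := by
  haveI : IsCyclic (P : Subgroup G) := isCyclic_of_prime_card (card3 h P)
  have h1 : (P : Subgroup G) ≤ centralizer ((P : Subgroup G) : Set G) := le_centralizer _
  have h2 := centralizer_le_normalizer ((P : Subgroup G) : Set G)
  have h3 := not_normalizer_le_centralizer P (ne_bot_of_card (by rw [card3 h]; norm_num))
    (ne_top_of_card (by rw [card3 h, h]; norm_num))
  have h4 := card_dvd_of_le h1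
  have h5 := card_dvd_of_le h2
  have h6 : Nat.card (centralizer ((P : Subgroup G) : Set G)) ≠ 6 := by
    intro h6
    exact h3 (eq_of_le_of_card_le h2 (by rw [h6, card_normalizer3 h])).ge
  symm
  apply eq_of_le_of_card_le h1
  rw [card3 h] at h4 ⊢
  rw [card_normalizer3 h] at h5
  generalize Nat.card (centralizer ((P : Subgroup G) : Set G)) = c at *
  have hn := Nat.le_of_dvd (by norm_num) h5
  interval_cases c <;> omega

theorem centralizer_order3 {x : G} (hx : orderOf x = 3) :
    centralizer ({x} : Set G) = zpowers x := by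
  obtain ⟨P, hP⟩ := exists_sylow_mem (p := 3) (k := 1) (x := x) (by rw [hx]; norm_num)
  have h1 : x ≠ 1 := by rintro rfl; simp at hx
  have h2 := zpowers_eq_of_card_prime (by norm_num) (card3 h P) hP h1
  rw [← centralizer_zpowers, h2, centralizer3 h]

theorem orderOf_dvd_of_commute3 {x g : G} (hx : orderOf x = 3) (hc : g * x = x * g) :
    orderOf g ∣ 3 := by
  have : g ∈ centralizer ({x} : Set G) := mem_centralizer_singleton_iff.mpr hc
  rw [centralizer_order3 h hx] at this
  exact hx ▸ orderOf_dvd_of_mem_zpowers this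

theorem ncard_order3 : {g : G | orderOf g = 3}.ncard = 56 := by
  obtain ⟨P⟩ : Nonempty (Sylow 3 G) := inferInstance
  rw [ncard_orderOf_eq_prime P (card3 h P), n3 h]

theorem orderOf_cases (g : G) : orderOf g = 7 ∨ orderOf g = 3 ∨ orderOf g ∣ 8 := by
  have h0 := orderOf_pos g
  by_cases h7 : 7 ∣ orderOf g
  · left
    have h1 : orderOf (g ^ (orderOf g / 7)) = 7 := orderOf_pow_orderOf_div h0.ne' h7
    exact Nat.dvd_antisymm (orderOf_dvd_of_commute7 h h1 (by group)) h7
  by_cases h3 : 3 ∣ orderOf g
  · right; left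
    have h1 : orderOf (g ^ (orderOf g / 3)) = 3 := orderOf_pow_orderOf_div h0.ne' h3
    exact Nat.dvd_antisymm (orderOf_dvd_of_commute3 h h1 (by group)) h3
  right; right
  have h1 := orderOf_dvd_natCard g
  rw [h, show (168 : ℕ) = 8 * 3 * 7 by norm_num] at h1
  have h2 := Nat.Coprime.dvd_of_dvd_mul_right
    (((Nat.Prime.coprime_iff_not_dvd (by norm_num)).mpr h7).symm) h1
  exact Nat.Coprime.dvd_of_dvd_mul_right
    (((Nat.Prime.coprime_iff_not_dvd (by norm_num)).mpr h3).symm) h2

theorem orderOf_ne_six (g : G) : orderOf g ≠ 6 := by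
  intro h6
  rcases orderOf_cases h g with h1 | h1 | h1 <;> rw [h6] at h1 <;> omega

theorem ncard_two_elements : {g : G | orderOf g ∣ 8}.ncard = 64 := by
  have h1 : (Set.univ : Set G) =
      ({g : G | orderOf g = 7} ∪ {g : G | orderOf g = 3}) ∪ {g : G | orderOf g ∣ 8} := by
    ext g
    have := orderOf_cases h g
    simp only [Set.mem_univ, Set.mem_union, Set.mem_ofPred_eq, true_iff]
    tauto
  have h2 := congrArg Set.ncard h1
  rw [Set.ncard_univ, h, Set.ncard_union_eq, Set.ncard_union_eq, ncard_order7 h,
    ncard_order3 h] at h2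
  · omega
  · rw [Set.disjoint_left]
    intro g h1 h2
    simp only [Set.mem_ofPred_eq] at h1 h2
    omega
  · rw [Set.disjoint_left]
    intro g h1 h2
    simp only [Set.mem_ofPred_eq, Set.mem_union] at h1 h2
    rcases h1 with h1 | h1 <;> rw [h1] at h2 <;> omega

theorem n2 : Nat.card (Sylow 2 G) = 21 := by
  obtain ⟨T⟩ : Nonempty (Sylow 2 G) := inferInstance
  have h1 := T.card_dvd_index
  have h4 := card_mul_index (T : Subgroup G)
  rw [card2 h, h] at h4
  have h5 : (T : Subgroup G).index = 21 := by omega
  rw [h5] at h1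
  have h2 := ncard_pElements_le T
  have h3 : {g : G | orderOf g ∣ 8}.ncard ≤ {g : G | ∃ k, orderOf g ∣ 2 ^ k}.ncard :=
    Set.ncard_le_ncard (fun g hg => ⟨3, hg⟩)
  rw [ncard_two_elements h] at h3
  rw [card2 h] at h2
  generalize Nat.card (Sylow 2 G) = n at *
  have hn := Nat.le_of_dvd (by norm_num) h1
  interval_cases n <;> omega

theorem normalizer2 (T : Sylow 2 G) : normalizer ((T : Subgroup G) : Set G) = T := by
  have := card_sylow_mul_card_normalizer T
  rw [n2 h, h] at this
  symm
  apply eq_of_le_of_card_le le_normalizer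
  rw [card2 h]
  omega

theorem not_comm2 (T : Sylow 2 G) :
    ¬ ∀ a ∈ (T : Subgroup G), ∀ b ∈ (T : Subgroup G), a * b = b * a := by
  intro hc
  apply not_normalizer_le_centralizer T (ne_bot_of_card (by rw [card2 h]; norm_num))
    (ne_top_of_card (by rw [card2 h, h]; norm_num))
  rw [normalizer2 h]
  intro a ha b hb
  exact hc b hb a ha

theorem card_centralizer_dvd {t : G} (ht : orderOf t ∣ 8) (h1 : t ≠ 1) :
    Nat.card (centralizer ({t} : Set G)) ∣ 8 := by
  have h0 : orderOf t ≠ 1 := fun h0 => h1 (orderOf_eq_one_iff.mp h0)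
  have h7 : ¬ 7 ∣ Nat.card (centralizer ({t} : Set G)) := by
    intro h7
    obtain ⟨x, hx, hx7⟩ := exists_orderOf_eq_mem _ 7 h7
    have := orderOf_dvd_of_commute7 h hx7 (mem_centralizer_singleton_iff.mp hx).symm
    exact h0 (Nat.eq_one_of_dvd_coprimes (by norm_num : Nat.Coprime 8 7) ht this)
  have h3 : ¬ 3 ∣ Nat.card (centralizer ({t} : Set G)) := by
    intro h3
    obtain ⟨x, hx, hx3⟩ := exists_orderOf_eq_mem _ 3 h3
    have := orderOf_dvd_of_commute3 h hx3 (mem_centralizer_singleton_iff.mp hx).symm
    exact h0 (Nat.eq_one_of_dvd_coprimes (by norm_num : Nat.Coprime 8 3) ht this)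
  have h1 := card_subgroup_dvd_card (centralizer ({t} : Set G))
  rw [h, show (168 : ℕ) = 8 * 3 * 7 by norm_num] at h1
  have h2 := Nat.Coprime.dvd_of_dvd_mul_right
    (((Nat.Prime.coprime_iff_not_dvd (by norm_num)).mpr h7).symm) h1
  exact Nat.Coprime.dvd_of_dvd_mul_right
    (((Nat.Prime.coprime_iff_not_dvd (by norm_num)).mpr h3).symm) h2

theorem centralizer_eq_of_central (T : Sylow 2 G) {z : G} (hz : z ∈ (T : Subgroup G))
    (h1 : z ≠ 1) (hc : ∀ t ∈ (T : Subgroup G), t * z = z * t) :
    centralizer ({z} : Set G) = T := by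
  symm
  apply eq_of_le_of_card_le (fun t ht => mem_centralizer_singleton_iff.mpr (hc t ht))
  rw [card2 h]
  exact Nat.le_of_dvd (by norm_num)
    (card_centralizer_dvd h (card2 h T ▸ orderOf_dvd_card_of_mem hz) h1)

end CL.O168
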