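import Cfsg.Agent.Base
import Cfsg.Agent.Small.O168a

/-!
Simple groups of order 168: the 2-elements and the dihedral Sylow 2-subgroup.
-/

set_option autoImplicit false
set_option linter.unusedSectionVars false
set_option linter.style.haveILetI false

namespace CL.O168

open Subgroup CL.SG

variable {G : Type*} [Group G] [Finite G] [IsSimpleGroup G] (h : Nat.card G = 168)
include h

theorem orderOf_ne_eight (g : G) : orderOf g ≠ 8 := by
  intro h8
  obtain ⟨T, hT⟩ := exists_sylow_mem (p := 2) (k := 3) (x := g) (by rw [h8]; norm_num)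
  have h1 : zpowers g = T :=
    eq_of_le_of_card_le (zpowers_le.mpr hT) (by rw [card2 h, Nat.card_zpowers, h8])
  apply not_comm2 h T
  intro a ha b hb
  rw [← h1] at ha hb
  exact comm_of_mem_zpowers ha hb

theorem exists_order4 (T : Sylow 2 G) : ∃ x ∈ (T : Subgroup G), orderOf x = 4 := by
  by_contra hne
  push Not at hne
  apply not_comm2 h T
  apply comm_of_mul_self
  intro a ha
  have h1 := orderOf_dvd_card_of_mem ha
  rw [card2 h] at h1
  have h2 := hne a ha
  have h3 := orderOf_ne_eight h a
  rw [← pow_two, ← orderOf_dvd_iff_pow_eq_one]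
  generalize orderOf a = o at *
  have := Nat.le_of_dvd (by norm_num) h1
  interval_cases o <;> omega

theorem card_centralizer4 {x : G} (hx : orderOf x = 4) :
    Nat.card (centralizer ({x} : Set G)) = 4 := by
  have h0 : x ≠ 1 := by rintro rfl; simp at hx
  have h1 := card_centralizer_dvd h (t := x) (by rw [hx]; norm_num) h0
  have h2 := card_dvd_of_le (zpowers_le_centralizer x)
  rw [Nat.card_zpowers, hx] at h2
  have h3 : Nat.card (centralizer ({x} : Set G)) ≠ 8 := by
    intro h3
    obtain ⟨T⟩ : Nonempty (Sylow 2 G) := inferInstance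
    obtain ⟨S, hS⟩ := exists_sylow_eq T (h3.trans (card2 h T).symm)
    apply not_comm2 h S
    rw [hS]
    apply comm_of_card_two (zpowers_le_centralizer x) (by rw [h3, Nat.card_zpowers, hx])
    intro u hu a ha
    rw [← centralizer_zpowers] at ha
    exact ha u hu
  generalize Nat.card (centralizer ({x} : Set G)) = c at *
  have := Nat.le_of_dvd (by norm_num) h1
  interval_cases c <;> omega

omit h in
theorem orderOf_sq {x : G} (hx : orderOf x = 4) : orderOf (x ^ 2) = 2 := by
  rw [orderOf_pow, hx]; rfl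

theorem card_eq_two_mul (T : Sylow 2 G) {x : G} (hx : orderOf x = 4) :
    Nat.card (T : Subgroup G) = 2 * Nat.card (zpowers x) := by
  rw [card2 h, Nat.card_zpowers, hx]

theorem centralizer_sq (T : Sylow 2 G) {x : G} (hxT : x ∈ (T : Subgroup G)) (hx : orderOf x = 4) :
    centralizer ({x ^ 2} : Set G) = T := by
  have h2 := orderOf_sq hx
  apply centralizer_eq_of_central h T (pow_mem hxT 2) (by rintro h1; simp [h1] at h2)
  intro t ht
  have h3 : t * x ^ 2 * t⁻¹ ∈ zpowers x :=
    conj_mem_of_card_two (zpowers_le.mpr hxT) (card_eq_two_mul h T hx) ht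
      (pow_mem (mem_zpowers x) 2)
  have h4 := eq_sq_of_mem_zpowers hx h3
    ((orderOf_eq_of_isConj (isConj_iff.mpr ⟨t, rfl⟩)).trans h2)
  exact mul_inv_eq_iff_eq_mul.mp h4

theorem card_centralizer_sq {x : G} (hx : orderOf x = 4) :
    Nat.card (centralizer ({x ^ 2} : Set G)) = 8 := by
  obtain ⟨T, hT⟩ := exists_sylow_mem (p := 2) (k := 2) (x := x) (by rw [hx]; norm_num)
  rw [centralizer_sq h T hT hx, card2 h]

theorem ncard_conj4 {x : G} (hx : orderOf x = 4) : {g : G | IsConj x g}.ncard = 42 := by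
  have := ncard_isConj_mul_card_centralizer x
  rw [card_centralizer4 h hx, h] at this
  omega

theorem ncard_conj_sq {x : G} (hx : orderOf x = 4) : {g : G | IsConj (x ^ 2) g}.ncard = 21 := by
  have := ncard_isConj_mul_card_centralizer (x ^ 2)
  rw [card_centralizer_sq h hx, h] at this
  omega

theorem two_elements {x : G} (hx : orderOf x = 4) {g : G} (hg : orderOf g ∣ 8) :
    g = 1 ∨ IsConj (x ^ 2) g ∨ IsConj x g := by
  have h2 := orderOf_sq hx
  have h1 : ({1} ∪ ({g : G | IsConj (x ^ 2) g} ∪ {g : G | IsConj x g}) : Set G) ⊆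
      {g : G | orderOf g ∣ 8} := by
    rintro g (rfl | hg | hg)
    · simp
    · change orderOf g ∣ 8
      rw [orderOf_eq_of_isConj hg, h2]; norm_num
    · change orderOf g ∣ 8
      rw [orderOf_eq_of_isConj hg, hx]; norm_num
  have h3 := Set.eq_of_subset_of_ncard_le h1 (by
    rw [ncard_two_elements h, Set.ncard_union_eq, Set.ncard_union_eq, ncard_conj4 h hx,
      ncard_conj_sq h hx, Set.ncard_singleton]
    · rw [Set.disjoint_left]
      intro g h4 h5
      have h6 := orderOf_eq_of_isConj h4
      have h7 := orderOf_eq_of_isConj h5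
      omega
    · rw [Set.disjoint_left]
      rintro g rfl (h4 | h4)
      · have h6 := orderOf_eq_of_isConj h4
        rw [orderOf_one] at h6; omega
      · have h6 := orderOf_eq_of_isConj h4
        rw [orderOf_one] at h6; omega)
  have h4 : g ∈ {g : G | orderOf g ∣ 8} := hg
  rw [← h3] at h4
  exact h4

theorem isConj_sq_of_order2 {x : G} (hx : orderOf x = 4) {g : G} (hg : orderOf g = 2) :
    IsConj (x ^ 2) g := by
  rcases two_elements h hx (g := g) (by rw [hg]; norm_num) with h1 | h1 | h1
  · rw [h1, orderOf_one] at hg; omega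
  · exact h1
  · have := orderOf_eq_of_isConj h1
    omega

theorem isConj_of_order4 {x : G} (hx : orderOf x = 4) {g : G} (hg : orderOf g = 4) :
    IsConj x g := by
  rcases two_elements h hx (g := g) (by rw [hg]; norm_num) with h1 | h1 | h1
  · rw [h1, orderOf_one] at hg; omega
  · have := orderOf_eq_of_isConj h1
    rw [orderOf_sq hx] at this
    omega
  · exact h1

theorem exists_order4' : ∃ x : G, orderOf x = 4 := by
  obtain ⟨T⟩ : Nonempty (Sylow 2 G) := inferInstance
  obtain ⟨x, -, hx⟩ := exists_order4 h T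
  exact ⟨x, hx⟩

theorem isConj_of_order2 {s t : G} (hs : orderOf s = 2) (ht : orderOf t = 2) : IsConj s t := by
  obtain ⟨x, hx⟩ := exists_order4' h
  exact (isConj_sq_of_order2 h hx hs).symm.trans (isConj_sq_of_order2 h hx ht)

theorem ncard_order2 : {g : G | orderOf g = 2}.ncard = 21 := by
  obtain ⟨x, hx⟩ := exists_order4' h
  rw [← ncard_conj_sq h hx]
  congr 1
  ext g
  exact ⟨isConj_sq_of_order2 h hx, fun hg => (orderOf_eq_of_isConj hg).trans (orderOf_sq hx)⟩

theorem ncard_order4 : {g : G | orderOf g = 4}.ncard = 42 := by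
  obtain ⟨x, hx⟩ := exists_order4' h
  rw [← ncard_conj4 h hx]
  congr 1
  ext g
  exact ⟨isConj_of_order4 h hx, fun hg => (orderOf_eq_of_isConj hg).trans hx⟩

theorem card_centralizer2 {t : G} (ht : orderOf t = 2) :
    Nat.card (centralizer ({t} : Set G)) = 8 := by
  obtain ⟨x, hx⟩ := exists_order4' h
  rw [card_centralizer_eq_of_isConj (isConj_sq_of_order2 h hx ht), card_centralizer_sq h hx]

theorem orderOf_cases' (g : G) :
    orderOf g = 1 ∨ orderOf g = 2 ∨ orderOf g = 3 ∨ orderOf g = 4 ∨ orderOf g = 7 := by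
  have h1 := orderOf_cases h g
  have h2 := orderOf_ne_eight h g
  rcases h1 with h1 | h1 | h1
  · omega
  · omega
  · generalize orderOf g = o at *
    have := Nat.le_of_dvd (by norm_num) h1
    interval_cases o <;> omega

theorem mem_zpowers_of_order4 (T : Sylow 2 G) {x w : G} (hxT : x ∈ (T : Subgroup G))
    (hx : orderOf x = 4) (hwT : w ∈ (T : Subgroup G)) (hw : orderOf w = 4) : w ∈ zpowers x := by
  have hle : zpowers x ≤ T := zpowers_le.mpr hxT
  have h1 : w ^ 2 = x ^ 2 := by
    apply eq_sq_of_mem_zpowers hx _ (orderOf_sq hw)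
    rw [pow_two]
    exact mul_self_mem_of_card_two hle (card_eq_two_mul h T hx) hwT
  obtain ⟨g, rfl⟩ := isConj_iff.mp (isConj_of_order4 h hx hw)
  have h2 : g ∈ (T : Subgroup G) := by
    rw [← centralizer_sq h T hxT hx, mem_centralizer_singleton_iff]
    rw [conj_pow] at h1
    exact mul_inv_eq_iff_eq_mul.mp h1
  exact conj_mem_of_card_two hle (card_eq_two_mul h T hx) h2 (mem_zpowers x)

theorem mul_self_of_not_mem (T : Sylow 2 G) {x s : G} (hxT : x ∈ (T : Subgroup G))
    (hx : orderOf x = 4) (hsT : s ∈ (T : Subgroup G)) (hs : s ∉ zpowers x) : s * s = 1 := by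
  have h1 := orderOf_dvd_card_of_mem hsT
  rw [card2 h] at h1
  have h2 : orderOf s ≠ 4 := fun h2 => hs (mem_zpowers_of_order4 h T hxT hx hsT h2)
  have h3 := orderOf_ne_eight h s
  rw [← pow_two, ← orderOf_dvd_iff_pow_eq_one]
  generalize orderOf s = o at *
  have := Nat.le_of_dvd (by norm_num) h1
  interval_cases o <;> omega

theorem exists_dihedral (T : Sylow 2 G) :
    ∃ φ : DihedralGroup 4 →* G, Function.Injective φ ∧ φ.range = T := by
  obtain ⟨x, hxT, hx⟩ := exists_order4 h T
  have hle : zpowers x ≤ T := zpowers_le.mpr hxT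
  obtain ⟨s, hsT, hs⟩ : ∃ s ∈ (T : Subgroup G), s ∉ zpowers x := by
    by_contra hne
    push Not at hne
    have := card_le_of_le (show (T : Subgroup G) ≤ zpowers x from hne)
    rw [card2 h, Nat.card_zpowers, hx] at this
    omega
  have h1 := mul_self_of_not_mem h T hxT hx hsT hs
  have h2 := mul_self_of_not_mem h T hxT hx (mul_mem hsT hxT) (by
    rwa [mul_mem_cancel_right (mem_zpowers x)])
  have h3 : s * x * s = x⁻¹ := by
    rw [eq_inv_iff_mul_eq_one, mul_assoc (s * x)]
    exact h2
  obtain ⟨φ, h4, h5, -⟩ := exists_dihedral_embedding 4 x s hx h1 h3 hs hxT hsT (card2 h T)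
  exact ⟨φ, h4, h5⟩

theorem nonempty_dihedral (T : Sylow 2 G) : Nonempty ((T : Subgroup G) ≃* DihedralGroup 4) := by
  obtain ⟨φ, hi, hr⟩ := exists_dihedral h T
  exact ⟨((MonoidHom.ofInjective hi).trans (MulEquiv.subgroupCongr hr)).symm⟩

theorem isConj_of_order3 {s t : G} (hs : orderOf s = 3) (ht : orderOf t = 3) : IsConj s t := by
  have h1 := ncard_isConj_mul_card_centralizer s
  rw [centralizer_order3 h hs, Nat.card_zpowers, hs, h] at h1
  have h2 : {g : G | IsConj s g} ⊆ {g : G | orderOf g = 3} :=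
    fun g hg => (orderOf_eq_of_isConj hg).trans hs
  have h3 := Set.eq_of_subset_of_ncard_le h2 (by rw [ncard_order3 h]; omega)
  have h4 : t ∈ {g : G | orderOf g = 3} := ht
  rw [← h3] at h4
  exact h4

theorem ncard_conj7 {x : G} (hx : orderOf x = 7) : {g : G | IsConj x g}.ncard = 24 := by
  have h1 := ncard_isConj_mul_card_centralizer x
  rw [centralizer_order7 h hx, Nat.card_zpowers, hx, h] at h1
  omega

theorem not_isConj_inv7 {x : G} (hx : orderOf x = 7) : ¬ IsConj x x⁻¹ := by
  haveI := fact7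
  intro hc
  obtain ⟨g, hg⟩ := isConj_iff.mp hc
  obtain ⟨P, hP⟩ := exists_sylow_mem (p := 7) (k := 1) (x := x) (by rw [hx]; norm_num)
  have h1 : x ≠ 1 := by rintro rfl; simp at hx
  have h2 := zpowers_eq_of_card_prime (by norm_num) (card7 h P) hP h1
  have h3 : g * g ∈ centralizer ({x} : Set G) := by
    rw [mem_centralizer_singleton_iff]
    have : g * g * x = g * (g * x * g⁻¹) * g⁻¹ * (g * g) := by group
    rw [this, hg]
    have : g * x⁻¹ * g⁻¹ = (g * x * g⁻¹)⁻¹ := by group
    rw [this, hg, inv_inv]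
  have h4 : g ∈ normalizer ((P : Subgroup G) : Set G) := by
    rw [← h2]
    apply mem_normalizer_fintype
    rintro _ ⟨k, rfl⟩
    change g * x ^ k * g⁻¹ ∈ zpowers x
    rw [← conj_zpow, hg]
    exact zpow_mem (inv_mem (mem_zpowers x)) k
  have h5 := orderOf_dvd_card_of_mem h4
  rw [card_normalizer7 h] at h5
  have h6 : g ∈ centralizer ({x} : Set G) := by
    have h7 : g = (g * g) ^ 11 := by
      rw [← pow_two, ← pow_mul, show 2 * 11 = 21 + 1 by norm_num, pow_succ,
        orderOf_dvd_iff_pow_eq_one.mp h5, one_mul]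
    rw [h7]
    exact pow_mem h3 11
  rw [mem_centralizer_singleton_iff] at h6
  rw [h6, mul_inv_cancel_right] at hg
  have h7 : x ^ 2 = 1 := by rw [pow_two]; nth_rewrite 2 [hg]; exact mul_inv_cancel x
  have := orderOf_dvd_of_pow_eq_one h7
  rw [hx] at this
  omega

end CL.O168
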