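import Cfsg.Agent.Base
import Cfsg.Agent.Small.O168b
import Cfsg.Agent.Small.Klein

/-!
Simple groups of order 168: Klein four-subgroups and maximal subgroups.
-/

set_option autoImplicit false
set_option linter.unusedSectionVars false
set_option linter.style.haveILetI false

namespace CL.O168

open Subgroup CL.SG

attribute [local instance] fact7

variable {G : Type*} [Group G] [Finite G] [IsSimpleGroup G] (h : Nat.card G = 168)
include h

theorem card_le_of_ne_top {H : Subgroup G} (hH : H ≠ ⊤) : Nat.card H ≤ 24 := by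
  have h1 := card_dvd_factorial_index hH
  have h2 := card_mul_index H
  rw [h] at h1 h2
  by_contra h3
  have h4 : H.index < 7 := by
    by_contra h4
    have : 25 * 7 ≤ Nat.card H * H.index := Nat.mul_le_mul (by omega) (by omega)
    omega
  generalize H.index = n at *
  interval_cases n <;> (revert h1; decide)

theorem isCoatom_of_card {H : Subgroup G} (hH : Nat.card H = 24) : IsCoatom H := by
  refine ⟨ne_top_of_card (by rw [hH, h]; norm_num), fun K hK => ?_⟩
  by_contra hne
  have h1 := card_le_of_ne_top h hne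
  exact hK.ne (eq_of_le_of_card_le hK.le (by omega))

theorem exists_sylow_ge_klein {U : Subgroup G} (hU : IsKleinFour U) :
    ∃ T : Sylow 2 G, U ≤ T :=
  (IsPGroup.of_card (n := 2) hU.card_four).exists_le_sylow

theorem le_normalizer_klein {U K : Subgroup G} (hU : IsKleinFour U) (hle : U ≤ K)
    (hK : Nat.card K = 8) : K ≤ normalizer (U : Set G) :=
  le_normalizer_of_card_two hle (by rw [hK, hU.card_four])

theorem not_le_centralizer_klein {U K : Subgroup G} (hU : IsKleinFour U) (hle : U ≤ K)
    (hK : Nat.card K = 8) : ¬ K ≤ centralizer (U : Set G) := by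
  intro hc
  obtain ⟨T⟩ : Nonempty (Sylow 2 G) := inferInstance
  obtain ⟨S, hS⟩ := exists_sylow_eq T (hK.trans (card2 h T).symm)
  apply not_comm2 h S
  rw [hS]
  exact comm_of_card_two hle (by rw [hK, hU.card_four]) (fun u hu a ha => hc ha u hu)

theorem klein_le_centralizer {U : Subgroup G} (hU : IsKleinFour U) {u : G} (hu : u ∈ U) :
    U ≤ centralizer ({u} : Set G) :=
  fun a ha => mem_centralizer_singleton_iff.mpr (klein_comm hU a ha u hu)

theorem centralizer_klein {U : Subgroup G} (hU : IsKleinFour U) :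
    centralizer (U : Set G) = U := by
  obtain ⟨u, hu, hu2⟩ := exists_orderOf_eq_mem U 2 (by rw [hU.card_four]; norm_num)
  have h1 : U ≤ centralizer (U : Set G) := fun a ha b hb => klein_comm hU b hb a ha
  have h2 : centralizer (U : Set G) ≤ centralizer ({u} : Set G) :=
    centralizer_le (Set.singleton_subset_iff.mpr hu)
  have h3 := card_dvd_of_le h1
  have h4 := card_dvd_of_le h2
  rw [hU.card_four] at h3
  rw [card_centralizer2 h hu2] at h4
  have h5 : Nat.card (centralizer (U : Set G)) ≠ 8 := fun h5 =>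
    not_le_centralizer_klein h hU h1 h5 le_rfl
  symm
  apply eq_of_le_of_card_le h1
  rw [hU.card_four]
  generalize Nat.card (centralizer (U : Set G)) = c at *
  have := Nat.le_of_dvd (by norm_num) h4
  interval_cases c <;> omega

theorem card_normalizer_klein {U : Subgroup G} (hU : IsKleinFour U) :
    Nat.card (normalizer (U : Set G)) = 24 := by
  have h0 : ∀ u ∈ U, u ≠ 1 → centralizer ({u} : Set G) ≤ normalizer (U : Set G) :=
    fun u hu h1 => le_normalizer_klein h hU (klein_le_centralizer h hU hu)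
      (card_centralizer2 h (klein_orderOf hU hu h1))
  obtain ⟨u, hu, hu2⟩ := exists_orderOf_eq_mem U 2 (by rw [hU.card_four]; norm_num)
  have h1 := card_dvd_of_le (h0 u hu (by rintro rfl; simp at hu2))
  rw [card_centralizer2 h hu2] at h1
  have h2 := card_le_of_ne_top h (normalizer_ne_top (H := U)
    (ne_bot_of_card (by rw [hU.card_four]; norm_num))
    (ne_top_of_card (by rw [hU.card_four, h]; norm_num)))
  have h3 := card_subgroup_dvd_card (normalizer (U : Set G))
  rw [h] at h3
  have h4 : Nat.card (normalizer (U : Set G)) ≠ 8 := by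
    intro h4
    apply not_le_centralizer_klein h hU le_normalizer h4
    intro n hn v hv
    by_cases hv1 : v = 1
    · simp [hv1]
    have h5 := eq_of_le_of_card_le (h0 v hv hv1) (by
      rw [h4, card_centralizer2 h (klein_orderOf hU hv hv1)])
    rw [← h5] at hn
    exact (mem_centralizer_singleton_iff.mp hn).symm
  generalize Nat.card (normalizer (U : Set G)) = c at *
  interval_cases c <;> omega

theorem nonempty_perm_four_of_card {H : Subgroup G} (hH : Nat.card H = 24) :
    Nonempty (H ≃* Equiv.Perm (Fin 4)) :=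
  nonempty_mulEquiv_perm_four hH (fun g => by
    rw [← Subgroup.orderOf_coe]; exact orderOf_ne_six h _)

theorem exists_two_kleins (T : Sylow 2 G) : ∃ U W : Subgroup G, U ≠ W ∧
    ∀ V : Subgroup G, (V ≤ T ∧ IsKleinFour V) ↔ (V = U ∨ V = W) := by
  obtain ⟨φ, hi, hr⟩ := exists_dihedral h T
  refine ⟨d8V1.map φ, d8V2.map φ, fun he => d8V1_ne_d8V2 (map_injective hi he), fun V => ?_⟩
  constructor
  · rintro ⟨h1, h2⟩
    rw [← hr] at h1
    rcases d8_klein_cases (isKleinFour_comap h2 φ hi h1) with h3 | h3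
    · left; rw [← h3, map_comap_eq_self h1]
    · right; rw [← h3, map_comap_eq_self h1]
  · rintro (rfl | rfl)
    · exact ⟨hr ▸ map_le_range _ _, isKleinFour_map d8V1_klein φ hi⟩
    · exact ⟨hr ▸ map_le_range _ _, isKleinFour_map d8V2_klein φ hi⟩

theorem klein_not_conj (T : Sylow 2 G) {U W : Subgroup G} (hUT : U ≤ T) (hWT : W ≤ T)
    (hU : IsKleinFour U) (hW : IsKleinFour W) (hne : U ≠ W) (g : G) :
    U.map (MulAut.conj g).toMonoidHom ≠ W := by
  intro he
  have h1 : (T : Subgroup G) ≤ normalizer (U : Set G) := le_normalizer_klein h hU hUT (card2 h T)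
  have h2 : (T : Subgroup G) ≤ normalizer (W : Set G) := le_normalizer_klein h hW hWT (card2 h T)
  have h3 : ((g • T : Sylow 2 G) : Subgroup G) ≤ normalizer (W : Set G) := by
    rw [← he, normalizer_map_conj, coe_sylow_smul]
    exact map_mono h1
  obtain ⟨n, hn, h4⟩ := exists_sylow_conj_mem (g • T) T h3 h2
  rw [← mul_smul, Sylow.smul_eq_iff_mem_normalizer] at h4
  have h5 : n * g ∈ (T : Subgroup G) := by rw [← normalizer2 h T]; exact h4
  apply hne
  rw [← map_conj_eq_of_mem_normalizer (h1 h5), ← map_conj_map_conj, he,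
    map_conj_eq_of_mem_normalizer hn]

theorem klein_eq_of_normalizer_eq {U W : Subgroup G} (hU : IsKleinFour U) (hW : IsKleinFour W)
    (hN : normalizer (U : Set G) = normalizer (W : Set G)) : U = W := by
  have hUN : U ≤ normalizer (W : Set G) := hN ▸ le_normalizer
  have hWN : W ≤ normalizer (U : Set G) := hN ▸ le_normalizer
  have h1 := card_dvd_of_le (inf_le_left : U ⊓ W ≤ U)
  rw [hU.card_four] at h1
  have h2 : Nat.card (U ⊓ W : Subgroup G) ≠ 2 := by
    intro h2
    obtain ⟨t, ht, ht2⟩ := exists_orderOf_eq_mem (U ⊓ W) 2 (by rw [h2])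
    have ht1 : t ≠ 1 := by rintro rfl; simp at ht2
    have h3 := zpowers_eq_of_card_prime Nat.prime_two h2 ht ht1
    have h4 : normalizer (U : Set G) ≤ centralizer ({t} : Set G) := by
      intro n hn
      have h5 : n * t * n⁻¹ ∈ zpowers t := by
        rw [h3]
        exact ⟨(mem_normalizer_iff.mp hn t).mp ht.1, (mem_normalizer_iff.mp (hN ▸ hn) t).mp ht.2⟩
      obtain ⟨k, hk, h6⟩ := exists_pow_eq_of_mem_zpowers h5
      rw [ht2] at hk
      rw [mem_centralizer_singleton_iff]
      interval_cases k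
      · exact absurd (by simpa using h6) ht1
      · exact mul_inv_eq_iff_eq_mul.mp (by simpa using h6)
    have := card_le_of_le h4
    rw [card_normalizer_klein h hU, card_centralizer2 h ht2] at this
    omega
  have h3 : Nat.card (U ⊓ W : Subgroup G) = 1 → U = W := by
    intro h3
    rw [card_eq_one] at h3
    apply eq_of_le_of_card_le _ (by rw [hU.card_four, hW.card_four])
    rw [← centralizer_klein h hW]
    intro u hu w hw
    have h4 : w * u * w⁻¹ * u⁻¹ ∈ U ⊓ W := by
      refine mem_inf.mpr ⟨mul_mem ((mem_normalizer_iff.mp (hWN hw) u).mp hu) (inv_mem hu), ?_⟩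
      have : w * u * w⁻¹ * u⁻¹ = w * (u * w⁻¹ * u⁻¹) := by group
      rw [this]
      exact mul_mem hw ((mem_normalizer_iff.mp (hUN hu) _).mp (W.inv_mem hw))
    rw [h3, mem_bot] at h4
    have : w * u = (w * u * w⁻¹ * u⁻¹) * (u * w) := by group
    rw [this, h4, one_mul]
  have h4 : Nat.card (U ⊓ W : Subgroup G) = 4 → U = W := by
    intro h4
    rw [← eq_of_le_of_card_le (inf_le_left : U ⊓ W ≤ U) (by rw [h4, hU.card_four])]
    exact eq_of_le_of_card_le inf_le_right (by rw [h4, hW.card_four])
  generalize Nat.card (U ⊓ W : Subgroup G) = c at *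
  have := Nat.le_of_dvd (by norm_num) h1
  interval_cases c <;> first | omega | exact h3 rfl | exact h4 rfl

theorem exists_le_normalizer7 {H : Subgroup G} (hH : H ≠ ⊤) (h7 : 7 ∣ Nat.card H) :
    ∃ P : Sylow 7 G, H ≤ normalizer ((P : Subgroup G) : Set G) := by
  obtain ⟨x, hx, hx7⟩ := exists_orderOf_eq_mem H 7 h7
  obtain ⟨P, hP⟩ := exists_sylow_mem (p := 7) (k := 1) (x := x) (by rw [hx7]; norm_num)
  have h1 : x ≠ 1 := by rintro rfl; simp at hx7
  have h2 := zpowers_eq_of_card_prime (by norm_num) (card7 h P) hP h1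
  have h3 : (P : Subgroup G) ≤ H := h2 ▸ zpowers_le.mpr hx
  refine ⟨P, ?_⟩
  have h4 := (P.subtype h3).card_dvd_index
  have h5 := card_sylow_modEq_one 7 H
  have h6 := card_mul_index ((P.subtype h3 : Sylow 7 H) : Subgroup H)
  rw [Sylow.coe_subtype, card_subgroupOf h3, card7 h] at h6
  rw [Sylow.coe_subtype] at h4
  have h8 := card_le_of_ne_top h hH
  have h9 : Nat.card (Sylow 7 H) = 1 := by
    have h10 : 0 < Nat.card H := Nat.card_pos
    have := Nat.le_of_dvd (by omega) h4
    unfold Nat.ModEq at h5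
    omega
  haveI : Subsingleton (Sylow 7 H) := (Nat.card_eq_one_iff_unique.mp h9).1
  have h10 := (P.subtype h3).normal_of_subsingleton
  rw [Sylow.coe_subtype] at h10
  exact (normal_subgroupOf_iff_le_normalizer h3).mp h10

theorem exists_klein : ∃ U : Subgroup G, IsKleinFour U := by
  obtain ⟨T⟩ : Nonempty (Sylow 2 G) := inferInstance
  obtain ⟨U, W, -, h1⟩ := exists_two_kleins h T
  exact ⟨U, ((h1 U).mpr (Or.inl rfl)).2⟩

omit h in
theorem normalizer_subgroupOf_card {Q H : Subgroup G} (hQ : Q ≤ H) :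
    Nat.card (normalizer ((Q.subgroupOf H : Subgroup H) : Set H)) =
      Nat.card (normalizer (Q : Set G) ⊓ H : Subgroup G) := by
  rw [← subgroupOf_normalizer_eq hQ, ← inf_subgroupOf_right, card_subgroupOf inf_le_right]

/-- The number of Sylow 3-subgroups of a subgroup of order 12 or 24 is 4. -/
theorem card_sylow3_sub {H : Subgroup G} (hH : Nat.card H = 12 ∨ Nat.card H = 24)
    (Q : Sylow 3 G) (hQ : (Q : Subgroup G) ≤ H) :
    Nat.card (Sylow 3 H) = 4 ∧
      4 * Nat.card (normalizer ((Q : Subgroup G) : Set G) ⊓ H : Subgroup G) = Nat.card H := by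
  have h1 := card_sylow_mul_card_normalizer (Q.subtype hQ)
  rw [Sylow.coe_subtype, normalizer_subgroupOf_card hQ] at h1
  have h2 := card_dvd_of_le (inf_le_left : normalizer ((Q : Subgroup G) : Set G) ⊓ H ≤ _)
  rw [card_normalizer3 h] at h2
  have h3 := card_dvd_of_le (le_inf le_normalizer hQ :
    (Q : Subgroup G) ≤ normalizer ((Q : Subgroup G) : Set G) ⊓ H)
  rw [card3 h] at h3
  have h5 := card_sylow_modEq_one 3 H
  unfold Nat.ModEq at h5
  generalize Nat.card (Sylow 3 H) = n at *
  generalize Nat.card (normalizer ((Q : Subgroup G) : Set G) ⊓ H : Subgroup G) = c at *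
  have := Nat.le_of_dvd (by norm_num) h2
  interval_cases c <;> omega

theorem exists_sylow3_le {H : Subgroup G} (h3 : 3 ∣ Nat.card H) :
    ∃ Q : Sylow 3 G, (Q : Subgroup G) ≤ H := by
  obtain ⟨x, hx, hx3⟩ := exists_orderOf_eq_mem H 3 h3
  obtain ⟨P, hP⟩ := exists_sylow_mem (p := 3) (k := 1) (x := x) (by rw [hx3]; norm_num)
  have h1 : x ≠ 1 := by rintro rfl; simp at hx3
  have h2 := zpowers_eq_of_card_prime (by norm_num) (card3 h P) hP h1
  exact ⟨P, h2 ▸ zpowers_le.mpr hx⟩

theorem exists_normalizer3_le (Q : Sylow 3 G) : ∃ U : Subgroup G, IsKleinFour U ∧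
    normalizer ((Q : Subgroup G) : Set G) ≤ normalizer (U : Set G) := by
  obtain ⟨U, hU⟩ := exists_klein h
  have h1 := card_normalizer_klein h hU
  obtain ⟨Q₀, hQ₀⟩ := exists_sylow3_le h (H := normalizer (U : Set G)) (by rw [h1]; norm_num)
  have h2 := (card_sylow3_sub h (Or.inr h1) Q₀ hQ₀).2
  have h3 : normalizer ((Q₀ : Subgroup G) : Set G) ≤ normalizer (U : Set G) := by
    rw [← inf_eq_left]
    apply eq_of_le_of_card_le inf_le_left
    rw [card_normalizer3 h]
    omega
  obtain ⟨g, hg⟩ := exists_sylow_conj Q₀ Q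
  refine ⟨U.map (MulAut.conj g).toMonoidHom, isKleinFour_map hU _ (MulAut.conj g).injective, ?_⟩
  rw [hg, normalizer_map_conj, normalizer_map_conj]
  exact map_mono h3

theorem exists_klein_of_card12 {H : Subgroup G} (hH : Nat.card H = 12) :
    ∃ U : Subgroup G, IsKleinFour U ∧ H ≤ normalizer (U : Set G) := by
  obtain ⟨Q, hQ⟩ := exists_sylow3_le h (H := H) (by rw [hH]; norm_num)
  have h1 := (card_sylow3_sub h (Or.inl hH) Q hQ).1
  have h2 := ncard_orderOf_eq_prime (Q.subtype hQ) (by
    rw [Sylow.coe_subtype, card_subgroupOf hQ, card3 h])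
  rw [h1] at h2
  have h3 : ({g : H | orderOf g = 3}ᶜ).ncard = 4 := by
    have := Set.ncard_add_ncard_compl {g : H | orderOf g = 3}
    omega
  have hc : ∀ S : Sylow 2 H, Nat.card (S : Subgroup H) = 4 := fun S =>
    card_sylow_of_eq S (k := 2) (m := 3) (hH.trans (by norm_num)) (by norm_num)
  have h4 : ∀ S : Sylow 2 H, ((S : Subgroup H) : Set H) = {g : H | orderOf g = 3}ᶜ := by
    intro S
    apply Set.eq_of_subset_of_ncard_le
    · intro g hg h5
      have h6 := orderOf_dvd_card_of_mem hg
      have h5 : orderOf g = 3 := h5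
      rw [hc, h5] at h6
      omega
    · rw [h3]; exact (hc S).ge
    · exact Set.toFinite _
  haveI : Subsingleton (Sylow 2 H) :=
    ⟨fun S S' => Sylow.ext (SetLike.coe_injective ((h4 S).trans (h4 S').symm))⟩
  obtain ⟨S⟩ : Nonempty (Sylow 2 H) := inferInstance
  have h5 := S.normal_of_subsingleton
  set U := (S : Subgroup H).map H.subtype with hU
  have hUc : Nat.card U = 4 := (card_map_of_injective H.subtype_injective).trans (hc S)
  have hUN : H ≤ normalizer (U : Set G) := by
    intro g hg
    apply mem_normalizer_fintype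
    rintro _ ⟨a, ha, rfl⟩
    exact ⟨_, h5.conj_mem a ha ⟨g, hg⟩, rfl⟩
  refine ⟨U, (isKleinFour_iff U).mpr ⟨hUc, fun a ha => ?_⟩, hUN⟩
  have h6 := orderOf_dvd_card_of_mem ha
  rw [hUc] at h6
  have h7 : orderOf a ≠ 4 := by
    intro h7
    have h8 : zpowers a = U :=
      eq_of_le_of_card_le (zpowers_le.mpr ha) (by rw [hUc, Nat.card_zpowers, h7])
    obtain ⟨m, hm, h9⟩ := exists_card_normalizer_eq_of_isCyclic (zpowers a) inferInstance
    rw [centralizer_zpowers, card_centralizer4 h h7, h8] at h9
    rw [Nat.card_zpowers, h7] at hm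
    have h10 := card_le_of_le hUN
    have := Nat.le_of_dvd (by decide) hm
    have h11 : Nat.totient 4 = 2 := by decide
    omega
  rw [← pow_two, ← orderOf_dvd_iff_pow_eq_one]
  generalize orderOf a = o at *
  have := Nat.le_of_dvd (by norm_num) h6
  interval_cases o <;> omega

theorem exists_klein_of_not_dvd7 {H : Subgroup G} (h7 : ¬ 7 ∣ Nat.card H) :
    Nat.card H = 24 ∨ ∃ U : Subgroup G, IsKleinFour U ∧ H ≤ normalizer (U : Set G) := by
  have h1 := card_subgroup_dvd_card H
  rw [h, show (168 : ℕ) = 24 * 7 by norm_num] at h1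
  have h2 := Nat.Coprime.dvd_of_dvd_mul_right
    (((Nat.Prime.coprime_iff_not_dvd (by norm_num)).mpr h7).symm) h1
  have h8 : Nat.card H ∣ 8 → ∃ U : Subgroup G, IsKleinFour U ∧ H ≤ normalizer (U : Set G) := by
    intro h8
    obtain ⟨T, hT⟩ := (IsPGroup.of_card_dvd_pow (p := 2) (n := 3) h8).exists_le_sylow
    obtain ⟨U, W, -, h3⟩ := exists_two_kleins h T
    obtain ⟨h4, h5⟩ := (h3 U).mpr (Or.inl rfl)
    exact ⟨U, h5, hT.trans (le_normalizer_klein h h5 h4 (card2 h T))⟩
  have h6 : Nat.card H = 3 ∨ Nat.card H = 6 →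
      ∃ U : Subgroup G, IsKleinFour U ∧ H ≤ normalizer (U : Set G) := by
    intro h6
    obtain ⟨Q, hQ⟩ := exists_sylow3_le h (H := H) (by omega)
    obtain ⟨U, hU, h3⟩ := exists_normalizer3_le h Q
    refine ⟨U, hU, le_trans ?_ h3⟩
    rcases h6 with h6 | h6
    · rw [← eq_of_le_of_card_le hQ (by rw [h6, card3 h])]
      exact le_normalizer
    · exact le_normalizer_of_card_two hQ (by rw [h6, card3 h])
  have h12 := exists_klein_of_card12 h (H := H)
  generalize Nat.card H = c at *
  have := Nat.le_of_dvd (by norm_num) h2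
  interval_cases c <;>
    first | omega | exact Or.inr (h8 (by decide)) | exact Or.inr (h6 (by decide)) |
      exact Or.inr (h12 rfl)

theorem coatom_cases {M : Subgroup G} (hM : IsCoatom M) :
    Nat.card M = 24 ∨ ∃ P : Sylow 7 G, M = normalizer ((P : Subgroup G) : Set G) := by
  by_cases h7 : 7 ∣ Nat.card M
  · obtain ⟨P, hP⟩ := exists_le_normalizer7 h hM.1 h7
    exact Or.inr ⟨P, ((hM.le_iff.mp hP).resolve_left
      (ne_top_of_card (by rw [card_normalizer7 h, h]; norm_num))).symm⟩
  · rcases exists_klein_of_not_dvd7 h h7 with h1 | ⟨U, hU, h1⟩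
    · exact Or.inl h1
    · left
      rw [← (hM.le_iff.mp h1).resolve_left
        (ne_top_of_card (by rw [card_normalizer_klein h hU, h]; norm_num)),
        card_normalizer_klein h hU]

theorem normalizer7_not_comm (P : Sylow 7 G) :
    ¬ IsMulCommutative (normalizer ((P : Subgroup G) : Set G)) := by
  intro hc
  apply not_normalizer_le_centralizer P (ne_bot_of_card (by rw [card7 h]; norm_num))
    (ne_top_of_card (by rw [card7 h, h]; norm_num))
  exact (le_centralizer _).trans (centralizer_le (le_normalizer (H := (P : Subgroup G))))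

end CL.O168
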