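import Cfsg.Agent.Base
import Cfsg.Agent.Small.Count2

/-!
Thompson's transfer lemma (sign version), simple groups with Sylow 2-subgroups of order 8 have one
class of involutions, Burnside's theorem inside a subgroup, centralisers of Sylow subgroups of
prime order, and Carmichael's generators of the alternating groups (upper bound for the order).
-/

set_option autoImplicit false
set_option linter.unusedSectionVars false
set_option linter.style.haveILetI false

namespace CL.SG

open Subgroup

variable {G : Type*} [Group G] [Finite G]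

/-- Thompson's transfer lemma for simple groups. -/
theorem exists_conj_mem_of_index [IsSimpleGroup G] (h2 : Nat.card G ≠ 2) (M : Subgroup G)
    (hM : M.index % 4 = 2) {t : G} (ht : t ^ 2 = 1) : ∃ g : G, g⁻¹ * t * g ∈ M := by
  classical
  haveI := Fintype.ofFinite (G ⧸ M)
  have h1 := sign_eq_one_of_simple h2 (MulAction.toPermHom G (G ⧸ M)) t
  rw [Equiv.Perm.sign_of_pow_two_eq_one (by rw [← map_pow, ht, map_one])] at h1
  by_contra hne
  push Not at hne
  have h3 : Fintype.card (Function.fixedPoints (MulAction.toPermHom G (G ⧸ M) t)) = 0 := by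
    rw [Fintype.card_eq_zero_iff]
    refine ⟨fun ⟨q, hq⟩ => ?_⟩
    induction q using QuotientGroup.induction_on with
    | H g =>
      have h4 : ((t * g : G) : G ⧸ M) = g := hq
      rw [eq_comm, QuotientGroup.eq, ← mul_assoc] at h4
      exact hne g h4
  rw [h3, ← Nat.card_eq_fintype_card, ← index, Odd.neg_one_pow (by
    rw [Nat.odd_iff]; omega)] at h1
  exact absurd h1 (by decide)

theorem exists_central_involution (T : Sylow 2 G) (hT : (T : Subgroup G) ≠ ⊥) :
    ∃ z : G, orderOf z = 2 ∧ z ∈ (T : Subgroup G) ∧ (T : Subgroup G) ≤ centralizer {z} := by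
  haveI : Nontrivial (T : Subgroup G) := (nontrivial_iff_ne_bot _).mpr hT
  have h3 := T.2.bot_lt_center
  obtain ⟨z, hz, hz2⟩ := exists_orderOf_eq_mem (center (T : Subgroup G)) 2
    ((T.2.to_subgroup _).card_eq_or_dvd.resolve_left (fun h => h3.ne' (card_eq_one.mp h)))
  exact ⟨z, (Subgroup.orderOf_coe z).trans hz2, z.2, fun a ha =>
    mem_centralizer_singleton_iff.mpr (congrArg Subtype.val (mem_center_iff.mp hz ⟨a, ha⟩))⟩

theorem ncard_conj_orbit (N : Subgroup G) {t : G} (ht : t ∈ N) :
    {g : G | ∃ n ∈ N, n * t * n⁻¹ = g}.ncard * Nat.card (N ⊓ centralizer {t} : Subgroup G) =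
      Nat.card N := by
  have h1 := ncard_isConj_mul_card_centralizer (⟨t, ht⟩ : N)
  rw [← h1]
  congr 1
  · rw [← Set.ncard_image_of_injective _ Subtype.val_injective]
    congr 1
    ext g
    constructor
    · rintro ⟨n, hn, rfl⟩
      exact ⟨_, isConj_iff.mpr ⟨⟨n, hn⟩, rfl⟩, rfl⟩
    · rintro ⟨c, hc, rfl⟩
      obtain ⟨n, rfl⟩ := isConj_iff.mp hc
      exact ⟨n, n.2, rfl⟩
  · rw [← card_subgroupOf (inf_le_left : N ⊓ centralizer {t} ≤ N), inf_subgroupOf_left]
    congr 2
    ext g
    rw [mem_subgroupOf, mem_centralizer_singleton_iff, mem_centralizer_singleton_iff,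
      Subtype.ext_iff]
    rfl

theorem isConj_involutions_of_order_four [IsSimpleGroup G] (T : Sylow 2 G)
    (hT : Nat.card (T : Subgroup G) = 8) {c : G} (hc : orderOf c = 4) {t : G}
    (ht : orderOf t = 2) : IsConj t (c ^ 2) := by
  have h1 := card_mul_index (T : Subgroup G)
  have h2 := card_mul_index (zpowers c)
  have h3 := T.not_dvd_index
  rw [hT] at h1
  rw [Nat.card_zpowers, hc] at h2
  obtain ⟨g, hg⟩ := exists_conj_mem_of_index (by omega) (zpowers c) (by omega)
    (ht ▸ pow_orderOf_eq_one t)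
  have h4 : IsConj t (g⁻¹ * t * g) := isConj_iff.mpr ⟨g⁻¹, by rw [inv_inv]⟩
  rwa [eq_sq_of_mem_zpowers hc hg ((orderOf_eq_of_isConj h4).trans ht)] at h4

/-- A simple group with Sylow 2-subgroups of order 8 has one class of involutions. -/
theorem isConj_involutions_of_card_eight [IsSimpleGroup G] (T : Sylow 2 G)
    (hT : Nat.card (T : Subgroup G) = 8) {s t : G} (hs : orderOf s = 2)
    (ht : orderOf t = 2) : IsConj s t := by
  by_cases hc : ∃ c : G, orderOf c = 4
  · obtain ⟨c, hc⟩ := hc
    exact (isConj_involutions_of_order_four T hT hc hs).trans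
      (isConj_involutions_of_order_four T hT hc ht).symm
  push Not at hc
  have hsq : ∀ a ∈ (T : Subgroup G), a * a = 1 := by
    intro a ha
    have h1 := orderOf_dvd_card_of_mem ha
    rw [hT] at h1
    have h2 := hc a
    have h3 : orderOf a ≠ 8 := fun h3 => hc (a ^ 2) (by rw [orderOf_pow, h3]; rfl)
    rw [← pow_two, ← orderOf_dvd_iff_pow_eq_one]
    generalize orderOf a = o at *
    have := Nat.le_of_dvd (by norm_num) h1
    interval_cases o <;> omega
  have hcomm := comm_of_mul_self hsq
  have hcomm' : IsMulCommutative (T : Subgroup G) :=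
    ⟨⟨fun a b => Subtype.ext (hcomm a a.2 b b.2)⟩⟩
  have htop : (T : Subgroup G) ≠ ⊤ := by
    intro h
    have := card_prime_of_simple_of_comm (G := G)
      (fun a b => hcomm a (h ▸ mem_top a) b (h ▸ mem_top b))
    rw [← card_top, ← h, hT] at this
    exact absurd this (by decide)
  set N := normalizer ((T : Subgroup G) : Set G) with hN
  let O : G → Set G := fun a => {g : G | ∃ n ∈ N, n * a * n⁻¹ = g}
  have hsub : ∀ a ∈ (T : Subgroup G), a ≠ 1 → O a ⊆ ((T : Subgroup G) : Set G) \ {1} := by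
    rintro a ha h1 _ ⟨n, hn, rfl⟩
    exact ⟨(mem_normalizer_iff.mp hn a).mp ha, by simpa using h1⟩
  have hodd : ∀ a ∈ (T : Subgroup G), a ≠ 1 → (O a).ncard % 2 = 1 ∧ (O a).ncard ≠ 1 := by
    intro a ha h1
    have h2 := ncard_conj_orbit N (le_normalizer ha)
    obtain ⟨k, hk⟩ := card_dvd_of_le (le_inf le_normalizer (fun b hb =>
      mem_centralizer_singleton_iff.mpr (hcomm b hb a ha)) :
        (T : Subgroup G) ≤ N ⊓ centralizer {a})
    constructor
    · by_contra h3
      apply T.not_dvd_index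
      have h4 := card_mul_index (T : Subgroup G)
      obtain ⟨j, hj⟩ := card_subgroup_dvd_card N
      rw [hj, ← h2, hk, mul_comm _ k, ← mul_assoc, mul_right_comm, mul_comm] at h4
      rw [Nat.eq_of_mul_eq_mul_right Nat.card_pos h4]
      exact Dvd.dvd.mul_right (Dvd.dvd.mul_right (by change 2 ∣ (O a).ncard; omega) _) _
    · intro h3
      change (O a).ncard * _ = _ at h2
      rw [h3, one_mul] at h2
      have h4 := eq_of_le_of_card_le (inf_le_left : N ⊓ centralizer {a} ≤ N) h2.ge
      apply h1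
      apply eq_one_of_mem_center_normalizer T htop hcomm' ha
      intro n hn
      rw [← hN, ← h4] at hn
      exact mem_centralizer_singleton_iff.mp hn.2
  have hdisj : ∀ a b, b ∉ O a → Disjoint (O a) (O b) := by
    intro a b hb
    rw [Set.disjoint_left]
    rintro _ ⟨n, hn, rfl⟩ ⟨m, hm, h1⟩
    refine hb ⟨m⁻¹ * n, mul_mem (inv_mem hm) hn, ?_⟩
    calc m⁻¹ * n * a * (m⁻¹ * n)⁻¹ = m⁻¹ * (n * a * n⁻¹) * m := by group
      _ = b := by rw [← h1]; group
  have h7 : (((T : Subgroup G) : Set G) \ {1}).ncard = 7 := by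
    rw [Set.ncard_sdiff_singleton_of_mem (T : Subgroup G).one_mem]
    change Nat.card (T : Subgroup G) - 1 = 7
    rw [hT]
  have key : ∀ a ∈ (T : Subgroup G), a ≠ 1 → ∀ b ∈ (T : Subgroup G), b ≠ 1 → b ∈ O a := by
    intro a ha ha1 b hb hb1
    by_contra hne
    have h1 := hodd a ha ha1
    have h2 := hodd b hb hb1
    have h3 := Set.ncard_union_eq (hdisj a b hne)
    have h4 : O a ∪ O b ⊆ ((T : Subgroup G) : Set G) \ {1} :=
      Set.union_subset (hsub a ha ha1) (hsub b hb hb1)
    obtain ⟨r, hr, hr'⟩ : ∃ r ∈ ((T : Subgroup G) : Set G) \ {1}, r ∉ O a ∪ O b := by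
      by_contra h5
      push Not at h5
      have := Set.Subset.antisymm h4 h5
      rw [this, h7] at h3
      omega
    have h5 := hodd r hr.1 hr.2
    have h6 := Set.ncard_union_eq (s := O a ∪ O b) (t := O r) (Set.disjoint_union_left.mpr
      ⟨hdisj a r (fun h => hr' (Or.inl h)), hdisj b r (fun h => hr' (Or.inr h))⟩)
    have h8 := Set.ncard_le_ncard (Set.union_subset h4 (hsub r hr.1 hr.2))
    omega
  have hin : ∀ a : G, orderOf a = 2 → ∃ b ∈ (T : Subgroup G), b ≠ 1 ∧ IsConj a b := by
    intro a ha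
    obtain ⟨S, hS⟩ := exists_sylow_mem (p := 2) (k := 1) (x := a) (by rw [ha]; norm_num)
    obtain ⟨g, hg⟩ := exists_sylow_conj S T
    refine ⟨g * a * g⁻¹, hg ▸ ⟨a, hS, rfl⟩, ?_, isConj_iff.mpr ⟨g, rfl⟩⟩
    intro h
    rw [show a = 1 by simpa using h, orderOf_one] at ha
    omega
  obtain ⟨a, ha, ha1, hsa⟩ := hin s hs
  obtain ⟨b, hb, hb1, htb⟩ := hin t ht
  obtain ⟨n, -, hn⟩ := key a ha ha1 b hb hb1
  exact hsa.trans ((isConj_iff.mpr ⟨n, hn⟩).trans htb.symm)

theorem eight_dvd_card_centralizer [IsSimpleGroup G] (T : Sylow 2 G)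
    (hT : Nat.card (T : Subgroup G) = 8) {t : G} (ht : orderOf t = 2) :
    8 ∣ Nat.card (centralizer ({t} : Set G)) := by
  obtain ⟨z, hz, -, h1⟩ := exists_central_involution T (ne_bot_of_card (by omega))
  rw [card_centralizer_eq_of_isConj (isConj_involutions_of_card_eight T hT hz ht), ← hT]
  exact card_dvd_of_le h1

theorem card_normalizer_subgroupOf {Q H : Subgroup G} (hQ : Q ≤ H) :
    Nat.card (normalizer ((Q.subgroupOf H : Subgroup H) : Set H)) =
      Nat.card (normalizer (Q : Set G) ⊓ H : Subgroup G) := by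
  rw [← subgroupOf_normalizer_eq hQ, ← inf_subgroupOf_right, card_subgroupOf inf_le_right]

/-- Sylow's theorem inside a subgroup containing a Sylow subgroup of `G`. -/
theorem exists_card_eq_mul_card_inf {p : ℕ} [Fact p.Prime] (P : Sylow p G) {H : Subgroup G}
    (hle : (P : Subgroup G) ≤ H) : ∃ n : ℕ, n % p = 1 % p ∧
      n * Nat.card (normalizer ((P : Subgroup G) : Set G) ⊓ H : Subgroup G) = Nat.card H := by
  have h1 := card_sylow_mul_card_normalizer (P.subtype hle)
  rw [Sylow.coe_subtype, card_normalizer_subgroupOf hle] at h1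
  exact ⟨_, card_sylow_modEq_one p H, h1⟩

/-- Burnside's transfer theorem inside a subgroup. -/
theorem exists_normal_complement {p : ℕ} [hp : Fact p.Prime] (P : Sylow p G) {H : Subgroup G}
    (hle : (P : Subgroup G) ≤ H) (hN : normalizer ((P : Subgroup G) : Set G) ⊓ H ≤
      centralizer ((P : Subgroup G) : Set G)) :
    ∃ L : Subgroup G, Nat.card L * Nat.card (P : Subgroup G) = Nat.card H ∧
      ∀ g, g ∈ L ↔ g ∈ H ∧ ¬ p ∣ orderOf g := by
  have h0 : normalizer (((P.subtype hle : Sylow p H) : Subgroup H) : Set H) ≤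
      centralizer (((P.subtype hle : Sylow p H) : Subgroup H) : Set H) := by
    intro n hn u hu
    rw [Sylow.coe_subtype, ← subgroupOf_normalizer_eq hle] at hn
    exact Subtype.ext (hN ⟨hn, n.2⟩ u hu)
  have h1 := (MonoidHom.ker_transferSylow_isComplement' _ h0).card_mul_card
  have h2 := MonoidHom.not_dvd_card_ker_transferSylow _ h0
  set f := MonoidHom.transferSylow _ h0
  refine ⟨f.ker.map H.subtype, ?_, fun g => ⟨?_, ?_⟩⟩
  · rw [card_map_of_injective H.subtype_injective, ← h1, ← card_subgroupOf hle]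
    rfl
  · rintro ⟨c, hc, rfl⟩
    refine ⟨c.2, fun h => h2 (h.trans ?_)⟩
    simpa using orderOf_dvd_card_of_mem hc
  · rintro ⟨h3, h4⟩
    refine ⟨⟨g, h3⟩, ?_, rfl⟩
    by_contra h5
    apply h4
    have h6 := (P.subtype hle).2.dvd_orderOf (g := f ⟨g, h3⟩) h5
    simpa using h6.trans (orderOf_map_dvd f _)

/-- If a simple group has `1 + k p` Sylow `p`-subgroups of order `p`, then their centralisers have
order dividing `p ^ k * k!`. -/
theorem card_centralizer_dvd_of_card_sylow [IsSimpleGroup G] {p : ℕ} [hp : Fact p.Prime]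
    (P : Sylow p G) (hP : Nat.card (P : Subgroup G) = p) {k : ℕ} (hk : 0 < k)
    (hn : Nat.card (Sylow p G) = 1 + k * p) :
    Nat.card (centralizer ((P : Subgroup G) : Set G)) ∣ p ^ k * k.factorial := by
  classical
  haveI := Fintype.ofFinite (Sylow p G)
  set f := MulAction.toPermHom G (Sylow p G)
  obtain ⟨x, hxP, hx⟩ := exists_orderOf_eq_mem (P : Subgroup G) p hP.symm.dvd
  have hx1 : x ≠ 1 := by rintro rfl; rw [orderOf_one] at hx; exact hp.out.one_lt.ne hx
  have hfix : ∀ Q : Sylow p G, f x Q = Q ↔ Q = P := by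
    intro Q
    change x • Q = Q ↔ _
    rw [Sylow.smul_eq_iff_mem_normalizer]
    constructor
    · intro h
      apply Sylow.ext
      rw [← zpowers_eq_of_card_prime hp.out hP hxP hx1,
        ← zpowers_eq_of_card_prime hp.out ((card_sylow_eq Q P).trans hP)
          (mem_sylow_of_mem_normalizer Q (k := 1) (by rw [hx, pow_one]) h) hx1]
    · rintro rfl
      exact le_normalizer hxP
  have hf : Function.Injective f := by
    rw [← MonoidHom.ker_eq_bot_iff]
    refine (MonoidHom.normal_ker f).eq_bot_or_eq_top.resolve_right (fun h => ?_)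
    have h1 : f x = 1 := by rw [← MonoidHom.mem_ker, h]; exact mem_top x
    have h2 : ∀ Q : Sylow p G, Q = P := fun Q => (hfix Q).mp (by rw [h1]; rfl)
    haveI : Subsingleton (Sylow p G) := ⟨fun Q R => (h2 Q).trans (h2 R).symm⟩
    rw [Nat.card_of_subsingleton P] at hn
    have := Nat.mul_pos hk hp.out.pos
    omega
  have ho : orderOf (f x) = p := (orderOf_injective f hf x).trans hx
  obtain ⟨j, hj⟩ := Equiv.Perm.cycleType_prime_order (σ := f x) (ho.symm ▸ hp.out)
  rw [ho] at hj
  have h1 : Fintype.card (Function.fixedPoints (f x)) = 1 := by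
    rw [Fintype.card_eq_one_iff]
    exact ⟨⟨P, (hfix P).mpr rfl⟩, fun Q => Subtype.ext ((hfix Q).mp Q.2)⟩
  have h2 := (f x).sum_cycleType_le
  rw [Equiv.Perm.card_fixedPoints] at h1
  have h3 := Equiv.Perm.nat_card_centralizer (f x)
  rw [h1] at h3
  rw [← Nat.card_eq_fintype_card, hn, hj, Multiset.sum_replicate, smul_eq_mul] at h1 h2
  have h4 : j + 1 = k := Nat.eq_of_mul_eq_mul_right hp.out.pos (by omega)
  rw [hj, h4, Multiset.toFinset_replicate, if_neg hk.ne'] at h3
  simp only [Nat.factorial_one, Multiset.prod_replicate, one_mul, Finset.prod_singleton,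
    Multiset.count_replicate_self] at h3
  have h5 : (centralizer ({x} : Set G)).map f ≤ centralizer {f x} := by
    have := map_centralizer_le_centralizer_image ({x} : Set G) f
    rwa [Set.image_singleton] at this
  have h6 := card_dvd_of_le h5
  rwa [card_map_of_injective hf, h3, card_centralizer_of_orderOf P hP hx] at h6

/-- Carmichael's generators: one step of the coset enumeration. -/
theorem card_closure_insert_le [DecidableEq G] (s : Finset G) (y : G) (hs : ∀ x ∈ s, x ^ 3 = 1)
    (hy : y ^ 3 = 1) (hxy : ∀ x ∈ s, (x * y) ^ 2 = 1)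
    (hxx : ∀ x ∈ s, ∀ x' ∈ s, x ≠ x' → (x * x') ^ 2 = 1) :
    Nat.card (closure (insert y (s : Set G))) ≤ (s.card + 3) * Nat.card (closure (s : Set G)) := by
  set H := closure (s : Set G) with hH
  let T : Finset G := insert 1 (insert y (insert y⁻¹ (s.image (fun x => y⁻¹ * x))))
  have hT : T.card ≤ s.card + 3 := by
    refine (Finset.card_insert_le _ _).trans (Nat.succ_le_succ ?_)
    refine (Finset.card_insert_le _ _).trans (Nat.succ_le_succ ?_)
    exact (Finset.card_insert_le _ _).trans (Nat.succ_le_succ Finset.card_image_le)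
  let C : Set G := {g | ∃ h ∈ H, ∃ t ∈ T, g = h * t}
  have hmem : ∀ x ∈ s, x ∈ H := fun x hx => subset_closure hx
  have cube : ∀ a : G, a ^ 3 = 1 → a * a = a⁻¹ := fun a ha => by
    rw [eq_inv_iff_mul_eq_one, ← ha, pow_three']
  have sq : ∀ a b : G, (a * b) ^ 2 = 1 → a * b = b⁻¹ * a⁻¹ := fun a b h => by
    rw [← mul_inv_rev, eq_inv_iff_mul_eq_one, ← h, pow_two]
  have sq' : ∀ a b : G, (a * b) ^ 2 = 1 → b * a = a⁻¹ * b⁻¹ := fun a b h => by
    have := sq a b h
    calc b * a = a⁻¹ * (a * b) * a := by group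
      _ = a⁻¹ * b⁻¹ := by rw [this]; group
  have t1 : (1 : G) ∈ T := by simp [T]
  have t2 : y ∈ T := by simp [T]
  have t3 : y⁻¹ ∈ T := by simp [T]
  have t4 : ∀ x ∈ s, y⁻¹ * x ∈ T := fun x hx => by
    simp only [T, Finset.mem_insert, Finset.mem_image]
    exact Or.inr (Or.inr (Or.inr ⟨x, hx, rfl⟩))
  have hC : ∀ g ∈ C, ∀ a ∈ insert y (s : Set G), g * a ∈ C := by
    rintro _ ⟨h, hh, t, ht, rfl⟩ a ha
    simp only [T, Finset.mem_insert, Finset.mem_image] at ht
    rcases ha with rfl | ha
    · rcases ht with rfl | rfl | rfl | ⟨x, hx, rfl⟩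
      · exact ⟨h, hh, a, t2, by group⟩
      · exact ⟨h, hh, _, t3, by rw [mul_assoc, cube _ hy]⟩
      · exact ⟨h, hh, 1, t1, by group⟩
      · refine ⟨h * x⁻¹, mul_mem hh (inv_mem (hmem x hx)), _, t4 x hx, ?_⟩
        have e1 := sq _ _ (hxy x hx)
        have e2 := sq' _ _ (hxy x hx)
        have e3 := cube _ hy
        have e4 := cube _ (hs x hx)
        calc h * (a⁻¹ * x) * a = h * a⁻¹ * (x * a) := by group
          _ = h * (a * a)⁻¹ * x⁻¹ := by rw [e1]; group
          _ = h * (a * x) * x := by rw [e3, ← e4]; group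
          _ = h * x⁻¹ * (a⁻¹ * x) := by rw [e2]; group
    · rcases ht with rfl | rfl | rfl | ⟨x, hx, rfl⟩
      · exact ⟨h * a, mul_mem hh (hmem a ha), 1, t1, by group⟩
      · refine ⟨h * a⁻¹, mul_mem hh (inv_mem (hmem a ha)), _, t3, ?_⟩
        rw [mul_assoc, sq' _ _ (hxy a ha), mul_assoc]
      · exact ⟨h, hh, _, t4 a ha, by group⟩
      · by_cases hxa : x = a
        · subst hxa
          refine ⟨h * x, mul_mem hh (hmem x hx), y, t2, ?_⟩
          calc h * (y⁻¹ * x) * x = h * (y⁻¹ * (x * x)) := by group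
            _ = h * x * y := by rw [cube _ (hs x hx), ← sq _ _ (hxy x hx), mul_assoc]
        · refine ⟨h * (a * x⁻¹), mul_mem hh (mul_mem (hmem a ha) (inv_mem (hmem x hx))), _,
            t4 x hx, ?_⟩
          have e1 := sq _ _ (hxx x hx a ha hxa)
          have e2 := sq _ _ (hxy a ha)
          have e3 := sq' _ _ (hxy x hx)
          have e4 := cube _ (hs x hx)
          calc h * (y⁻¹ * x) * a = h * y⁻¹ * (x * a) := by group
            _ = h * (y⁻¹ * a⁻¹) * x⁻¹ := by rw [e1]; group
            _ = h * a * (y * x) * x := by rw [← e2, ← e4]; group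
            _ = h * (a * x⁻¹) * (y⁻¹ * x) := by rw [e3]; group
  have hsub : (closure (insert y (s : Set G)) : Set G) ⊆ C := by
    intro g hg
    induction hg using closure_induction_right with
    | one => exact ⟨1, one_mem _, 1, t1, by simp⟩
    | mul_right g _ a ha ih => exact hC g ih a ha
    | mul_inv_cancel g _ a ha ih =>
      have h3 : a ^ 3 = 1 := by
        rcases ha with rfl | ha
        · exact hy
        · exact hs a ha
      rw [← cube a h3, ← mul_assoc]
      exact hC _ (hC g ih a ha) a ha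
  have hsurj : Function.Surjective (fun q : T × H => (⟨q.2 * q.1, q.2, q.2.2, q.1, q.1.2, rfl⟩ : C)) := by
    rintro ⟨_, h, hh, t, ht, rfl⟩
    exact ⟨(⟨t, ht⟩, ⟨h, hh⟩), rfl⟩
  have h1 := Nat.card_le_card_of_surjective _ hsurj
  rw [Nat.card_prod, Nat.card_eq_fintype_card (α := T), Fintype.card_coe] at h1
  exact (Set.ncard_le_ncard hsub).trans (h1.trans (Nat.mul_le_mul_right _ hT))

end CL.SG
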