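import Cfsg.Agent.Base
import Cfsg.Agent.Small.Eight

/-!
Local structure of a simple group of order 2520 without subgroups of index 7.
-/

set_option autoImplicit false
set_option linter.unusedSectionVars false
set_option linter.style.haveILetI false

namespace CL.SG

open Subgroup

theorem sylow_prime_data {G : Type*} [Group G] [Finite G] [IsSimpleGroup G] {p : ℕ}
    [hp : Fact p.Prime] (P : Sylow p G)
    (hP : Nat.card (P : Subgroup G) = p) (hp' : p ≠ Nat.card G) : ∃ m c : ℕ, m ≠ 1 ∧ m ∣ p - 1 ∧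
      Nat.card (centralizer ((P : Subgroup G) : Set G)) = p * c ∧
      Nat.card (normalizer ((P : Subgroup G) : Set G)) = p * c * m ∧
      Nat.card (Sylow p G) * (p * c * m) = Nat.card G ∧ Nat.card (Sylow p G) % p = 1 ∧
      Nat.card (Sylow p G) ≠ 1 := by
  have : IsCyclic (P : Subgroup G) := isCyclic_of_prime_card hP
  have hb : (P : Subgroup G) ≠ ⊥ := ne_bot_of_card (by rw [hP]; exact hp.out.one_lt.ne')
  have ht : (P : Subgroup G) ≠ ⊤ := ne_top_of_card (by rw [hP]; exact hp')
  obtain ⟨m, h1, h2, -, -, h3⟩ := exists_card_normalizer_sylow P hb ht inferInstance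
  rw [IsCyclic.card_mulAut, hP, Nat.totient_prime hp.out] at h2
  have h4 := card_sylow_mul_card_normalizer P
  have h5 := card_sylow_modEq_one p G
  obtain ⟨c, hc⟩ := card_dvd_of_le (le_centralizer (P : Subgroup G))
  rw [hP] at hc
  rw [hc] at h3
  rw [h3] at h4
  exact ⟨m, c, h1, h2, hc, h3, h4, (Nat.mod_eq_of_modEq h5 hp.out.one_lt),
    card_sylow_ne_one P hb ht⟩

theorem mem_normalizer_zpowers {G : Type*} [Group G] [Finite G] {x g : G}
    (h : g * x * g⁻¹ ∈ zpowers x) : g ∈ normalizer ((zpowers x : Subgroup G) : Set G) := by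
  apply mem_normalizer_fintype
  rintro _ ⟨k, rfl⟩
  change g * x ^ k * g⁻¹ ∈ zpowers x
  rw [← conj_zpow]
  exact zpow_mem h k

theorem eq_one_of_sq_of_odd {G : Type*} [Group G] {x : G} {n : ℕ} (hn : n % 2 = 1)
    (h1 : orderOf x ∣ n) (h2 : x * x = 1) : x = 1 := by
  rw [← orderOf_eq_one_iff]
  refine Nat.eq_one_of_dvd_coprimes ?_ h1 (orderOf_dvd_of_pow_eq_one (by rw [pow_two, h2]))
  rw [Nat.coprime_two_right, Nat.odd_iff, hn]

end CL.SG

namespace CL.O2520

open Subgroup CL.SG

theorem fact7 : Fact (Nat.Prime 7) := ⟨by norm_num⟩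
theorem fact5 : Fact (Nat.Prime 5) := ⟨by norm_num⟩

attribute [local instance] fact7 fact5

variable {G : Type*} [Group G] [Finite G] [IsSimpleGroup G] (h : Nat.card G = 2520)
include h

theorem card7 (P : Sylow 7 G) : Nat.card (P : Subgroup G) = 7 :=
  card_sylow_of_eq P (k := 1) (m := 360) (h.trans (by norm_num)) (by norm_num)

theorem card5 (P : Sylow 5 G) : Nat.card (P : Subgroup G) = 5 :=
  card_sylow_of_eq P (k := 1) (m := 504) (h.trans (by norm_num)) (by norm_num)

theorem card3 (P : Sylow 3 G) : Nat.card (P : Subgroup G) = 9 :=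
  card_sylow_of_eq P (k := 2) (m := 280) (h.trans (by norm_num)) (by norm_num)

theorem card2 (P : Sylow 2 G) : Nat.card (P : Subgroup G) = 8 :=
  card_sylow_of_eq P (k := 3) (m := 315) (h.trans (by norm_num)) (by norm_num)

theorem comm3 (Q : Sylow 3 G) : IsMulCommutative (Q : Subgroup G) :=
  IsPGroup.isMulCommutative_of_card_eq_prime_sq (p := 3) (card3 h Q)

theorem comm3' (Q : Sylow 3 G) {a b : G} (ha : a ∈ (Q : Subgroup G)) (hb : b ∈ (Q : Subgroup G)) :
    a * b = b * a :=
  congrArg Subtype.val ((comm3 h Q).1.1 (⟨a, ha⟩ : (Q : Subgroup G)) ⟨b, hb⟩)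

theorem le_centralizer3 (Q : Sylow 3 G) {r : G} (hr : r ∈ (Q : Subgroup G)) :
    (Q : Subgroup G) ≤ centralizer ({r} : Set G) :=
  fun _ ha => mem_centralizer_singleton_iff.mpr (comm3' h Q ha hr)

theorem eq_one_of_mul_self3 (Q : Sylow 3 G) {r : G} (hr : r ∈ (Q : Subgroup G))
    (h2 : r * r = 1) : r = 1 :=
  eq_one_of_sq_of_odd (n := 9) rfl (card3 h Q ▸ orderOf_dvd_card_of_mem hr) h2

theorem eight_dvd {t : G} (ht : orderOf t = 2) : 8 ∣ Nat.card (centralizer ({t} : Set G)) :=
  eight_dvd_card_centralizer (Classical.arbitrary (Sylow 2 G)) (card2 h _) ht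

theorem isConj2 {s t : G} (hs : orderOf s = 2) (ht : orderOf t = 2) : IsConj s t :=
  isConj_involutions_of_card_eight (Classical.arbitrary (Sylow 2 G)) (card2 h _) hs ht

theorem seven (P : Sylow 7 G) :
    (Nat.card (Sylow 7 G) = 120 ∧ Nat.card (centralizer ((P : Subgroup G) : Set G)) = 7) ∨
    (Nat.card (Sylow 7 G) = 36 ∧ Nat.card (centralizer ((P : Subgroup G) : Set G)) = 35) := by
  obtain ⟨m, c, h1, h2, h3, -, h4, h5, h6⟩ := sylow_prime_data P (card7 h P) (by omega)
  have h7 := card_centralizer_of_card_sylow P (card7 h P)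
  have h8 := card_centralizer_dvd_of_card_sylow P (card7 h P) (k := 2) (by norm_num)
  rw [h3] at h7 h8 ⊢
  rw [h] at h4
  generalize Nat.card (Sylow 7 G) = n at *
  have h9 : n * (c * m) = 360 := by nlinarith
  have h10 : n ∣ 360 := ⟨_, h9.symm⟩
  have := Nat.le_of_dvd (by norm_num) h10
  have h11 : n = 8 ∨ n = 15 ∨ n = 36 ∨ n = 120 := by interval_cases n <;> omega
  have := Nat.le_of_dvd (by norm_num) h2
  have h12 : 7 ^ 2 * Nat.factorial 2 = 98 := rfl
  rw [h12] at h8
  rcases h11 with rfl | rfl | rfl | rfl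
  · have := h7 rfl
    interval_cases m <;> omega
  · have h13 : c ∣ 14 := Nat.dvd_of_mul_dvd_mul_left (by norm_num : 0 < 7) (h8 rfl)
    have := Nat.le_of_dvd (by norm_num) h13
    clear h8
    interval_cases c <;> omega
  · interval_cases m <;> omega
  · interval_cases m <;> omega

theorem not7 {g : G} (hg : ¬ orderOf g ∣ 35) : ¬ 7 ∣ Nat.card (centralizer ({g} : Set G)) := by
  intro h7
  obtain ⟨P⟩ : Nonempty (Sylow 7 G) := inferInstance
  obtain ⟨x, hx, hx7⟩ := exists_orderOf_eq_mem _ 7 h7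
  have := orderOf_dvd_card_of_mem (mem_centralizer_comm.mp hx)
  rw [card_centralizer_of_orderOf P (card7 h P) hx7] at this
  rcases seven h P with h1 | h1 <;> rw [h1.2] at this
  · exact hg (this.trans (by norm_num))
  · exact hg this

variable (hi : ∀ H : Subgroup G, H ≠ ⊤ → 8 ≤ H.index)
include hi

theorem card_le {H : Subgroup G} (hH : H ≠ ⊤) : Nat.card H ≤ 315 := by
  have h1 := hi H hH
  have h2 := card_mul_index H
  nlinarith

theorem card_centralizer_le {g : G} (hg : g ≠ 1) : Nat.card (centralizer ({g} : Set G)) ≤ 315 := by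
  apply card_le h hi
  intro ht
  apply hg
  apply eq_one_of_forall_conj_mem (H := zpowers g)
  · intro h1
    have := card_prime_of_simple_of_comm (G := G)
      (fun a b => comm_of_mem_zpowers (h1 ▸ mem_top a) (h1 ▸ mem_top b))
    rw [h] at this
    exact absurd this (by norm_num)
  · intro k
    have hk : k ∈ centralizer ({g} : Set G) := ht ▸ mem_top k
    rw [mem_centralizer_singleton_iff.mp hk, mul_inv_cancel_right]
    exact mem_zpowers g

theorem five (P : Sylow 5 G) : ∃ m c : ℕ, (m = 2 ∨ m = 4) ∧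
    Nat.card (centralizer ((P : Subgroup G) : Set G)) = 5 * c ∧
    Nat.card (normalizer ((P : Subgroup G) : Set G)) = 5 * c * m ∧
    Nat.card (Sylow 5 G) * (c * m) = 504 ∧ (c * m = 24 ∨ c * m = 14 ∨ c * m = 4) := by
  obtain ⟨m, c, h1, h2, h3, h7, h4, h5, h6⟩ := sylow_prime_data P (card5 h P) (by omega)
  have h8 := card_le h hi (normalizer_ne_top (H := (P : Subgroup G))
    (ne_bot_of_card (by rw [card5 h]; norm_num)) (ne_top_of_card (by rw [card5 h, h]; norm_num)))
  rw [h7] at h8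
  rw [h] at h4
  refine ⟨m, c, ?_, h3, h7, by nlinarith, ?_⟩
  · have := Nat.le_of_dvd (by norm_num) h2
    interval_cases m <;> omega
  · generalize Nat.card (Sylow 5 G) = n at *
    have h9 : n * (c * m) = 504 := by nlinarith
    have h10 : c * m ∣ 504 := ⟨n, by rw [← h9, mul_comm]⟩
    have h11 : c * m ≤ 63 := by nlinarith
    have h12 : 2 ∣ c * m := by
      have := Nat.le_of_dvd (by norm_num) h2
      interval_cases m <;> omega
    generalize c * m = k at *
    interval_cases k <;> omega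

theorem not9 {x : G} (hx : orderOf x = 5) :
    ¬ 9 ∣ Nat.card (normalizer ((zpowers x : Subgroup G) : Set G)) := by
  obtain ⟨P, hP⟩ := exists_sylow_eq_zpowers (Classical.arbitrary (Sylow 5 G)) (card5 h _) hx
  obtain ⟨m, c, -, -, h1, -, h2⟩ := five h hi P
  rw [← hP, h1, mul_assoc]
  omega

theorem three (Q : Sylow 3 G) : Nat.card (normalizer ((Q : Subgroup G) : Set G)) = 36 ∧
    centralizer ((Q : Subgroup G) : Set G) = Q := by
  have hP := card3 h Q
  have hb : (Q : Subgroup G) ≠ ⊥ := ne_bot_of_card (by rw [hP]; norm_num)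
  have ht : (Q : Subgroup G) ≠ ⊤ := ne_top_of_card (by rw [hP, h]; norm_num)
  have hcomm := comm3 h Q
  obtain ⟨m, h1, h2, -, -, h3⟩ := exists_card_normalizer_sylow Q hb ht hcomm
  have h4 := card_sylow_mul_card_normalizer Q
  have h5 := card_sylow_modEq_one 3 G
  have h6 := card_le h hi (normalizer_ne_top hb ht)
  obtain ⟨c, hc⟩ := card_dvd_of_le (le_centralizer (Q : Subgroup G))
  obtain ⟨r, hr, hr3⟩ := exists_orderOf_eq_mem (Q : Subgroup G) 3 (by rw [hP]; norm_num)
  have hCr : centralizer ((Q : Subgroup G) : Set G) ≤ centralizer {r} :=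
    centralizer_le (Set.singleton_subset_iff.mpr hr)
  have h7 : ¬ 7 ∣ Nat.card (centralizer ((Q : Subgroup G) : Set G)) := fun h7 =>
    not7 h (g := r) (by rw [hr3]; norm_num) (h7.trans (card_dvd_of_le hCr))
  have h8 : ¬ 5 ∣ Nat.card (centralizer ((Q : Subgroup G) : Set G)) := by
    intro h8
    obtain ⟨x, hx, hx5⟩ := exists_orderOf_eq_mem _ 5 h8
    apply not9 h hi hx5
    rw [← hP]
    apply card_dvd_of_le
    refine le_trans ?_ (centralizer_le_normalizer _)
    rw [centralizer_zpowers]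
    exact fun a ha => mem_centralizer_singleton_iff.mpr (hx a ha)
  have h9 : ¬ 7 ∣ m := fun h9 => by
    have := prime_dvd_of_dvd_card_mulAut_sq Nat.prime_three fact7.out hP (h9.trans h2)
    omega
  have h10 : ¬ 5 ∣ m := fun h9 => by
    have := prime_dvd_of_dvd_card_mulAut_sq Nat.prime_three fact5.out hP (h9.trans h2)
    omega
  have hc' := hc
  rw [hP] at hc
  have key : c * m = 4 := by
    rw [h3, hc, h] at h4
    rw [hc] at h7 h8
    unfold Nat.ModEq at h5
    generalize Nat.card (Sylow 3 G) = n at *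
    have h11 : n * (c * m) = 280 := by nlinarith
    have h12 : ¬ 7 ∣ c * m := fun h12 =>
      ((Nat.Prime.dvd_mul fact7.out).mp h12).elim (fun h => h7 (h.mul_left 9)) h9
    have h13 : ¬ 5 ∣ c * m := fun h12 =>
      ((Nat.Prime.dvd_mul fact5.out).mp h12).elim (fun h => h8 (h.mul_left 9)) h10
    have h14 : c * m ≠ 1 := fun h14 => h1 (Nat.eq_one_of_mul_eq_one_left h14)
    have h15 : c * m ∣ 280 := ⟨n, by rw [← h11, mul_comm]⟩
    generalize c * m = k at *
    have := Nat.le_of_dvd (by norm_num) h15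
    interval_cases k <;> omega
  have hN : Nat.card (normalizer ((Q : Subgroup G) : Set G)) = 36 := by
    rw [h3, hc, mul_assoc, key]; rfl
  refine ⟨hN, ?_⟩
  have hc2 : c ≠ 2 := by
    rintro rfl
    obtain ⟨t, ht', ht2⟩ := exists_orderOf_eq_mem (centralizer ((Q : Subgroup G) : Set G)) 2
      (by rw [hc]; norm_num)
    have htt : t * t = 1 := by rw [← pow_two, ← ht2, pow_orderOf_eq_one]
    have ht1 : t ≠ 1 := by rintro rfl; simp at ht2
    have hQt : (Q : Subgroup G) ≤ centralizer {t} :=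
      fun a ha => mem_centralizer_singleton_iff.mpr (ht' a ha)
    have hNt : normalizer ((Q : Subgroup G) : Set G) ≤ centralizer {t} := by
      intro n hn
      have h11 : n * t * n⁻¹ ∈ centralizer ((Q : Subgroup G) : Set G) := by
        intro a ha
        have := ht' _ ((mem_normalizer_iff.mp (inv_mem hn) a).mp ha)
        calc a * (n * t * n⁻¹) = n * (n⁻¹ * a * n⁻¹⁻¹ * t) * n⁻¹ := by group
          _ = n * t * n⁻¹ * a := by rw [this]; group
      have h12 : t * (n * t * n⁻¹) ∈ (Q : Subgroup G) := by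
        rw [mul_mem_iff_of_card_two (le_centralizer _) (by rw [hc, hP]) ht' h11]
        refine iff_of_false (fun h => ht1 (eq_one_of_mul_self3 ‹_› Q h htt)) (fun h => ht1 ?_)
        have := eq_one_of_mul_self3 ‹_› Q h (by
          calc n * t * n⁻¹ * (n * t * n⁻¹) = n * (t * t) * n⁻¹ := by group
            _ = 1 := by rw [htt]; group)
        simpa using this
      have h13 := ht' _ h12
      have h14 := eq_one_of_mul_self3 h Q h12 (by
        calc t * (n * t * n⁻¹) * (t * (n * t * n⁻¹)) = (t * (n * t * n⁻¹) * t) * (n * t * n⁻¹) := by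
              group
          _ = (t * t) * n * (t * t) * n⁻¹ := by rw [h13]; group
          _ = 1 := by rw [htt]; group)
      rw [mem_centralizer_singleton_iff]
      calc n * t = (t * t) * n * t := by rw [htt, one_mul]
        _ = t * (t * (n * t * n⁻¹)) * n := by group
        _ = t * n := by rw [h14, mul_one]
    obtain ⟨k, hk1, hk2⟩ := exists_card_eq_mul_card_inf Q hQt
    rw [inf_eq_left.mpr hNt, hN] at hk2
    have h11 := eight_dvd h ht2
    have h12 := card_centralizer_le h hi ht1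
    have h13 := not7 h (g := t) (by rw [ht2]; norm_num)
    have h14 := card_subgroup_dvd_card (centralizer ({t} : Set G))
    rw [h, ← hk2] at h14
    rw [← hk2] at h11 h12 h13
    have : k ≤ 8 := by omega
    interval_cases k <;> omega
  have hc1 : c = 1 := by
    have h11 : c ∣ 4 := ⟨m, key.symm⟩
    have := Nat.le_of_dvd (by norm_num) h11
    interval_cases c <;> omega
  exact (eq_of_le_of_card_le (le_centralizer _) (by rw [hc', hc1, mul_one])).symm

theorem not9_invol {t : G} (ht : orderOf t = 2) : ¬ 9 ∣ Nat.card (centralizer ({t} : Set G)) := by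
  intro h9
  obtain ⟨K, hK⟩ := Sylow.exists_subgroup_card_pow_prime (G := centralizer ({t} : Set G)) 3
    (n := 2) h9
  obtain ⟨Q, hQ⟩ := exists_sylow_eq (Classical.arbitrary (Sylow 3 G))
    (H := K.map (Subgroup.subtype _))
    (by rw [card_map_of_injective (subtype_injective _), hK, card3 h]; rfl)
  have h1 : t ∈ centralizer ((Q : Subgroup G) : Set G) := by
    rw [hQ]
    rintro _ ⟨a, -, rfl⟩
    exact mem_centralizer_singleton_iff.mp a.2
  rw [(three h hi Q).2] at h1
  have := orderOf_dvd_card_of_mem h1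
  rw [ht, card3 h] at this
  omega

theorem inverts (Q : Sylow 3 G) {t : G} (ht : orderOf t = 2)
    (htN : t ∈ normalizer ((Q : Subgroup G) : Set G)) {q : G} (hq : q ∈ (Q : Subgroup G)) :
    t * q * t⁻¹ = q⁻¹ := by
  obtain ⟨hN, hC⟩ := three h hi Q
  have htt : t * t = 1 := by rw [← pow_two, ← ht, pow_orderOf_eq_one]
  have hti : t⁻¹ = t := inv_eq_of_mul_eq_one_right htt
  have hconj : ∀ n ∈ normalizer ((Q : Subgroup G) : Set G), ∀ q ∈ (Q : Subgroup G),
      n * q * n⁻¹ ∈ (Q : Subgroup G) := fun n hn q hq => (mem_normalizer_iff.mp hn q).mp hq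
  by_contra hne
  -- `y` is centralised by `t`
  set y := q * (t * q * t⁻¹) with hy
  have hyQ : y ∈ (Q : Subgroup G) := mul_mem hq (hconj t htN q hq)
  have hy1 : y ≠ 1 := fun h1 => hne (eq_inv_of_mul_eq_one_right h1)
  have hty : t * y * t⁻¹ = y := by
    calc t * y * t⁻¹ = (t * q * t⁻¹) * ((t * t) * q * (t * t)⁻¹) := by rw [hy]; group
      _ = y := by rw [htt, one_mul, inv_one, mul_one, comm3' h Q (hconj t htN q hq) hq]
  -- `z` is inverted by `t`
  obtain ⟨q', hq', hq''⟩ : ∃ q' ∈ (Q : Subgroup G), q' * t ≠ t * q' := by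
    by_contra h1
    push Not at h1
    have h2 : t ∈ centralizer ((Q : Subgroup G) : Set G) := h1
    rw [hC] at h2
    have := orderOf_dvd_card_of_mem h2
    rw [ht, card3 h] at this
    omega
  set z := q' * (t * q' * t⁻¹)⁻¹ with hz
  have hzQ : z ∈ (Q : Subgroup G) := mul_mem hq' (inv_mem (hconj t htN q' hq'))
  have hz1 : z ≠ 1 := fun h1 => hq'' (by
    have := mul_inv_eq_one.mp h1
    exact (eq_mul_inv_iff_mul_eq.mp this))
  have htz : t * z * t⁻¹ = z⁻¹ := by
    calc t * z * t⁻¹ = (t * q' * t⁻¹) * ((t * t) * q'⁻¹ * (t * t)⁻¹) := by rw [hz]; group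
      _ = z⁻¹ := by rw [htt, hz]; group
  -- the subgroup of elements inverted by `t`
  let I : Subgroup G :=
    { carrier := {a | a ∈ (Q : Subgroup G) ∧ t * a * t⁻¹ = a⁻¹}
      one_mem' := ⟨one_mem _, by group⟩
      mul_mem' := fun {a b} ha hb => ⟨mul_mem ha.1 hb.1, by
        calc t * (a * b) * t⁻¹ = (t * a * t⁻¹) * (t * b * t⁻¹) := by group
          _ = (a * b)⁻¹ := by rw [ha.2, hb.2, comm3' h Q ha.1 hb.1, mul_inv_rev]⟩
      inv_mem' := fun {a} ha => ⟨inv_mem ha.1, by
        calc t * a⁻¹ * t⁻¹ = (t * a * t⁻¹)⁻¹ := by group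
          _ = a⁻¹⁻¹ := by rw [ha.2]⟩ }
  have hIQ : I ≤ Q := fun a ha => ha.1
  have hfix : ∀ a ∈ I, t * a * t⁻¹ = a → a = 1 := fun a ha h1 =>
    eq_one_of_mul_self3 h Q ha.1 (by
      have := ha.2
      rw [h1] at this
      nth_rewrite 2 [this]
      exact mul_inv_cancel a)
  have hI3 : Nat.card I = 3 := by
    have h1 := card_dvd_of_le hIQ
    rw [card3 h] at h1
    have h2 : Nat.card I ≠ 1 := fun h2 => hz1 (by
      have : z ∈ I := ⟨hzQ, htz⟩
      rwa [card_eq_one.mp h2, mem_bot] at this)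
    have h3 : Nat.card I ≠ 9 := fun h3 => hy1 (hfix y (by
      rw [eq_of_le_of_card_le hIQ (by rw [h3, card3 h])]; exact hyQ) hty)
    generalize Nat.card I = k at *
    have := Nat.le_of_dvd (by norm_num) h1
    interval_cases k <;> omega
  have hzI : zpowers z = I := zpowers_eq_of_card_prime Nat.prime_three hI3 ⟨hzQ, htz⟩ hz1
  have hz3 : orderOf z = 3 := orderOf_eq_of_card_prime Nat.prime_three hI3 ⟨hzQ, htz⟩ hz1
  -- a Sylow 2-subgroup of the normaliser
  obtain ⟨T, hT⟩ := exists_sylow_mem (G := normalizer ((Q : Subgroup G) : Set G)) (p := 2) (k := 1)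
    (x := ⟨t, htN⟩) (by rw [Subgroup.orderOf_mk, ht]; norm_num)
  have hT4 : Nat.card (T : Subgroup (normalizer ((Q : Subgroup G) : Set G))) = 4 :=
    card_sylow_of_eq T (k := 2) (m := 9) (hN.trans (by norm_num)) (by norm_num)
  have hTc := IsPGroup.isMulCommutative_of_card_eq_prime_sq (p := 2) hT4
  set T' := (T : Subgroup (normalizer ((Q : Subgroup G) : Set G))).map (Subgroup.subtype _)
  have hT'4 : Nat.card T' = 4 := (card_map_of_injective (subtype_injective _)).trans hT4
  have hT'N : T' ≤ normalizer ((Q : Subgroup G) : Set G) := map_subtype_le _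
  have hT't : ∀ u ∈ T', u * t = t * u := by
    rintro _ ⟨u, hu, rfl⟩
    exact congrArg (fun a => (a.1.1 : G))
      (hTc.1.1 (⟨u, hu⟩ : (T : Subgroup (normalizer ((Q : Subgroup G) : Set G)))) ⟨_, hT⟩)
  have hT'I : T' ≤ normalizer (I : Set G) := by
    intro u hu
    apply mem_normalizer_fintype
    intro a ha
    refine ⟨hconj u (hT'N hu) a ha.1, ?_⟩
    calc t * (u * a * u⁻¹) * t⁻¹ = (t * u) * a * (t * u)⁻¹ := by group
      _ = u * (t * a * t⁻¹) * u⁻¹ := by rw [← hT't u hu]; group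
      _ = (u * a * u⁻¹)⁻¹ := by rw [ha.2]; group
  have hQI : (Q : Subgroup G) ≤ centralizer (I : Set G) :=
    fun a ha b hb => comm3' h Q hb.1 ha
  have hNI : normalizer ((Q : Subgroup G) : Set G) ≤ normalizer (I : Set G) := by
    have h1 : (Q : Subgroup G) ⊔ T' = normalizer ((Q : Subgroup G) : Set G) := by
      apply eq_of_le_of_card_le (sup_le le_normalizer hT'N)
      have h2 := card_dvd_of_le (le_sup_left : (Q : Subgroup G) ≤ (Q : Subgroup G) ⊔ T')
      have h3 := card_dvd_of_le (le_sup_right : T' ≤ (Q : Subgroup G) ⊔ T')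
      rw [card3 h] at h2
      rw [hT'4] at h3
      rw [hN]
      exact Nat.le_of_dvd Nat.card_pos (Nat.Coprime.mul_dvd_of_dvd_of_dvd (by norm_num) h2 h3)
    rw [← h1]
    exact sup_le (hQI.trans (centralizer_le_normalizer _)) hT'I
  -- an involution centralising `z`
  have h2C : 2 ∣ Nat.card (centralizer (I : Set G)) := by
    obtain ⟨m, hm, h1⟩ := exists_card_normalizer_eq_of_prime I Nat.prime_three hI3
    have h2 := card_dvd_of_le hNI
    rw [hN, h1] at h2
    have := Nat.le_of_dvd (by norm_num) hm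
    interval_cases m <;> omega
  obtain ⟨t₂, ht₂, ht₂2⟩ := exists_orderOf_eq_mem _ 2 h2C
  obtain ⟨g, hg⟩ := isConj_iff.mp (isConj2 h ht₂2 ht)
  have hzt : g * z * g⁻¹ ∈ centralizer ({t} : Set G) := by
    rw [mem_centralizer_singleton_iff, ← hg]
    calc g * z * g⁻¹ * (g * t₂ * g⁻¹) = g * (z * t₂) * g⁻¹ := by group
      _ = g * t₂ * g⁻¹ * (g * z * g⁻¹) := by rw [ht₂ z ⟨hzQ, htz⟩]; group
  have hyt : y ∈ centralizer ({t} : Set G) :=
    mem_centralizer_singleton_iff.mpr (mul_inv_eq_iff_eq_mul.mp hty).symm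
  obtain ⟨k, hk⟩ : ∃ k, orderOf (y ^ k) = 3 := by
    apply exists_pow_orderOf_eq
    exact (Subgroup.orderOf_mk y hyQ) ▸ Q.2.dvd_orderOf (g := ⟨y, hyQ⟩)
      (fun h1 => hy1 (congrArg Subtype.val h1))
  obtain ⟨R⟩ : Nonempty (Sylow 3 (centralizer ({t} : Set G))) := inferInstance
  have hR : Nat.card (R : Subgroup (centralizer ({t} : Set G))) = 3 := by
    obtain ⟨m, hm⟩ := hk ▸ orderOf_dvd_card_of_mem (pow_mem hyt k)
    exact card_sylow_of_eq R (k := 1) (m := m) hm (fun h1 => not9_invol h hi ht (by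
      rw [hm]; exact Nat.mul_dvd_mul_left 3 h1))
  obtain ⟨R₁, hR₁⟩ := exists_sylow_eq_zpowers R hR (x := ⟨_, hzt⟩) (by
    rw [Subgroup.orderOf_mk, orderOf_eq_of_isConj (isConj_iff.mpr ⟨g, rfl⟩), hz3])
  obtain ⟨R₂, hR₂⟩ := exists_sylow_eq_zpowers R hR (x := ⟨_, pow_mem hyt k⟩) (by
    rw [Subgroup.orderOf_mk, hk])
  obtain ⟨c, hc⟩ := exists_sylow_conj R₁ R₂
  have h1 : c * ⟨_, hzt⟩ * c⁻¹ ∈ zpowers (⟨_, pow_mem hyt k⟩ : centralizer ({t} : Set G)) := by
    rw [← hR₂, hc, hR₁]
    exact ⟨_, mem_zpowers _, rfl⟩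
  obtain ⟨j, hj⟩ := h1
  have hj' : (y ^ k) ^ j = (c * g) * z * (c * g)⁻¹ := by
    have := congrArg Subtype.val hj
    simp only [SubgroupClass.coe_zpow, coe_mul, InvMemClass.coe_inv] at this
    rw [this]; group
  haveI := comm3 h Q
  obtain ⟨n, hn, h2⟩ := Q.conj_eq_normalizer_conj_of_mem z (c * g)⁻¹ hzQ (by
    rw [inv_inv, ← hj']; exact zpow_mem (pow_mem hyQ k) j)
  rw [inv_inv, ← hj'] at h2
  have h3 : n⁻¹ * z * n ∈ I := by
    have := (mem_normalizer_iff.mp (hNI (inv_mem hn)) z).mp ⟨hzQ, htz⟩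
    rwa [inv_inv] at this
  have h4 := hfix _ h3 (by rw [← h2, ← conj_zpow, ← conj_pow, hty])
  apply hz1
  calc z = n * (n⁻¹ * z * n) * n⁻¹ := by group
    _ = 1 := by rw [h4]; group

end CL.O2520
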