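import Cfsg.Agent.Base
import Cfsg.Agent.Small.O2520

/-!
A simple group of order 2520 has a subgroup of index 7.
-/

set_option autoImplicit false
set_option linter.unusedSectionVars false
set_option linter.style.haveILetI false

namespace CL.SG

open Subgroup

variable {G : Type*} [Group G] [Finite G]

theorem exists_sylow_le_of_dvd {p : ℕ} [Fact p.Prime] (P : Sylow p G) {H : Subgroup G} {x : G}
    (hx : x ∈ H) {k : ℕ} (hk : orderOf x ∣ p ^ k) (hd : Nat.card (P : Subgroup G) ∣ Nat.card H) :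
    ∃ S : Sylow p G, (S : Subgroup G) ≤ H ∧ x ∈ (S : Subgroup G) := by
  obtain ⟨T, hT⟩ := exists_sylow_mem (G := H) (p := p) (k := k) (x := ⟨x, hx⟩)
    (by rwa [Subgroup.orderOf_mk])
  obtain ⟨j, hj⟩ := IsPGroup.iff_card.mp P.2
  obtain ⟨S, hS⟩ := (T.2.map H.subtype).exists_le_sylow
  have h1 := T.pow_dvd_card_of_pow_dvd_card (hj ▸ hd)
  have h2 : (T : Subgroup H).map H.subtype = S := eq_of_le_of_card_le hS (by
    rw [card_map_of_injective H.subtype_injective, card_sylow_eq S P, hj]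
    exact Nat.le_of_dvd Nat.card_pos h1)
  exact ⟨S, h2 ▸ map_subtype_le _, hS ⟨_, hT, rfl⟩⟩

theorem exists_orderOf_dvd_centralizer {g : G} {p q : ℕ} (hp : p ∣ orderOf g)
    (hq : q ∣ orderOf g) : ∃ x : G, orderOf x = p ∧ q ∣ Nat.card (centralizer ({x} : Set G)) := by
  obtain ⟨k, hk⟩ := exists_pow_orderOf_eq hp
  exact ⟨_, hk, hq.trans (orderOf_dvd_card_of_mem (mem_centralizer_pow g k))⟩

theorem centralizer_le_centralizer_pow (g : G) (k : ℕ) :
    centralizer ({g} : Set G) ≤ centralizer ({g ^ k} : Set G) := fun _ ha =>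
  mem_centralizer_singleton_iff.mpr
    (Commute.pow_right (mem_centralizer_singleton_iff.mp ha) k).eq

/-- In a simple group with Sylow 2-subgroups of order 8, elements of order 4 are not
2-central. -/
theorem not_eight_dvd_of_order_four [IsSimpleGroup G] (T : Sylow 2 G)
    (hT : Nat.card (T : Subgroup G) = 8) {c : G} (hc : orderOf c = 4) :
    ¬ 8 ∣ Nat.card (centralizer ({c} : Set G)) := by
  intro h8
  obtain ⟨S, hS, hcS⟩ := exists_sylow_le_of_dvd T (zpowers_le_centralizer c (mem_zpowers c))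
    (k := 2) (by rw [hc]; norm_num) (hT ▸ h8)
  have hle : zpowers c ≤ S := zpowers_le.mpr hcS
  have h2 : Nat.card (S : Subgroup G) = 2 * Nat.card (zpowers c) := by
    rw [card_sylow_eq S T, hT, Nat.card_zpowers, hc]
  have hcomm := comm_of_card_two hle h2 (fun u hu a ha => by
    have := hS ha
    rw [← centralizer_zpowers] at this
    exact this u hu)
  have htop : (S : Subgroup G) ≠ ⊤ := by
    intro h
    have := card_prime_of_simple_of_comm (G := G)
      (fun a b => hcomm a (h ▸ mem_top a) b (h ▸ mem_top b))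
    rw [← card_top, ← h, card_sylow_eq S T, hT] at this
    exact absurd this (by decide)
  have hc2 : orderOf (c ^ 2) = 2 := by rw [orderOf_pow, hc]; rfl
  have := eq_one_of_mem_center_normalizer S htop ⟨⟨fun a b => Subtype.ext (hcomm a a.2 b b.2)⟩⟩
    (pow_mem hcS 2) (fun n hn => by
      have h3 := mul_self_mem_of_card_two hle h2 ((mem_normalizer_iff.mp hn c).mp hcS)
      rw [← pow_two, conj_pow] at h3
      exact mul_inv_eq_iff_eq_mul.mp (eq_sq_of_mem_zpowers hc h3
        ((orderOf_eq_of_isConj (isConj_iff.mpr ⟨n, rfl⟩)).trans hc2)))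
  rw [this, orderOf_one] at hc2
  omega

end CL.SG

namespace CL.O2520

open Subgroup CL.SG

attribute [local instance] fact7 fact5

variable {G : Type*} [Group G] [Finite G] [IsSimpleGroup G] (h : Nat.card G = 2520)
  (hi : ∀ H : Subgroup G, H ≠ ⊤ → 8 ≤ H.index)
include h hi

theorem exists_w (Q : Sylow 3 G) :
    ∃ w ∈ normalizer ((Q : Subgroup G) : Set G), orderOf w = 4 := by
  obtain ⟨hN, hC⟩ := three h hi Q
  obtain ⟨K₀, hK₀⟩ := Sylow.exists_subgroup_card_pow_prime
    (G := normalizer ((Q : Subgroup G) : Set G)) 2 (n := 2) (by rw [hN]; norm_num)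
  set K := K₀.map (Subgroup.subtype _)
  have hK : Nat.card K = 4 := (card_map_of_injective (subtype_injective _)).trans hK₀
  have hKN : K ≤ normalizer ((Q : Subgroup G) : Set G) := map_subtype_le _
  by_contra hne
  push Not at hne
  have h2 : ∀ a ∈ K, a ≠ 1 → orderOf a = 2 := by
    intro a ha h1
    have h3 := orderOf_dvd_card_of_mem ha
    have h4 := hne a (hKN ha)
    have h5 : orderOf a ≠ 1 := fun h5 => h1 (orderOf_eq_one_iff.mp h5)
    rw [hK] at h3
    generalize orderOf a = o at *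
    have := Nat.le_of_dvd (by norm_num) h3
    interval_cases o <;> omega
  obtain ⟨a, ha, ha2⟩ := exists_orderOf_eq_mem K 2 (by rw [hK]; norm_num)
  obtain ⟨b, hb, hb'⟩ : ∃ b ∈ K, b ∉ zpowers a := by
    by_contra h3
    push Not at h3
    have := card_le_of_le (show K ≤ zpowers a from h3)
    rw [hK, Nat.card_zpowers, ha2] at this
    omega
  have hb2 := h2 b hb (by rintro rfl; exact hb' (one_mem _))
  have h3 : a * b ∈ centralizer ((Q : Subgroup G) : Set G) := by
    intro q hq
    have h4 := inverts h hi Q hb2 (hKN hb) hq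
    have h5 := inverts h hi Q ha2 (hKN ha) (inv_mem hq)
    calc q * (a * b) = (a * q⁻¹ * a⁻¹) * (a * b) := by rw [h5, inv_inv]
      _ = a * b * q := by rw [← h4]; group
  rw [hC] at h3
  have h4 := orderOf_dvd_card_of_mem h3
  rw [card3 h, h2 _ (mul_mem ha hb) (fun h5 => hb' (by
    rw [eq_inv_of_mul_eq_one_right h5]; exact inv_mem (mem_zpowers a)))] at h4
  omega

theorem inf_eq (Q : Sylow 3 G) {r : G} (hr : r ∈ (Q : Subgroup G)) (h1 : r ≠ 1) :
    normalizer ((Q : Subgroup G) : Set G) ⊓ centralizer ({r} : Set G) = Q := by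
  have hle := le_inf le_normalizer (le_centralizer3 h Q hr)
  have h2 := card_dvd_of_le hle
  have h3 := card_dvd_of_le (inf_le_left :
    normalizer ((Q : Subgroup G) : Set G) ⊓ centralizer ({r} : Set G) ≤ _)
  have h4 : ¬ 2 ∣ Nat.card (normalizer ((Q : Subgroup G) : Set G) ⊓ centralizer ({r} : Set G) :
      Subgroup G) := by
    intro h4
    obtain ⟨t, ht, ht2⟩ := exists_orderOf_eq_mem _ 2 h4
    have h5 := inverts h hi Q ht2 ht.1 hr
    rw [mem_centralizer_singleton_iff.mp ht.2, mul_inv_cancel_right] at h5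
    exact h1 (eq_one_of_mul_self3 h Q hr (by nth_rewrite 2 [h5]; exact mul_inv_cancel r))
  symm
  apply eq_of_le_of_card_le hle
  rw [(three h hi Q).1] at h3
  rw [card3 h] at h2 ⊢
  generalize Nat.card (normalizer ((Q : Subgroup G) : Set G) ⊓ centralizer ({r} : Set G) :
      Subgroup G) = c at *
  have := Nat.le_of_dvd (by norm_num) h3
  interval_cases c <;> omega

theorem exists_compl (Q : Sylow 3 G) {r : G} (hr : r ∈ (Q : Subgroup G)) (h1 : r ≠ 1) :
    ∃ L : Subgroup G, Nat.card L * 9 = Nat.card (centralizer ({r} : Set G)) ∧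
      (∀ g, g ∈ L ↔ g ∈ centralizer ({r} : Set G) ∧ ¬ 3 ∣ orderOf g) ∧
      ∀ g : G, (g * r * g⁻¹ = r ∨ g * r * g⁻¹ = r⁻¹) → ∀ v ∈ L, g * v * g⁻¹ ∈ L := by
  obtain ⟨L, h2, h3⟩ := exists_normal_complement Q (le_centralizer3 h Q hr) (by
    rw [inf_eq h hi Q hr h1, (three h hi Q).2])
  refine ⟨L, by rw [← h2, card3 h], h3, fun g hg v hv => ?_⟩
  rw [h3] at hv ⊢
  refine ⟨?_, by rw [orderOf_eq_of_isConj (isConj_iff.mpr ⟨g, rfl⟩)]; exact hv.2⟩
  have h4 : Commute (g * v * g⁻¹) (g * r * g⁻¹) := by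
    have := mem_centralizer_singleton_iff.mp hv.1
    change _ * _ = _ * _
    calc g * v * g⁻¹ * (g * r * g⁻¹) = g * (v * r) * g⁻¹ := by group
      _ = g * r * g⁻¹ * (g * v * g⁻¹) := by rw [this]; group
  rw [mem_centralizer_singleton_iff]
  rcases hg with hg | hg <;> rw [hg] at h4
  · exact h4
  · exact Commute.inv_right_iff.mp h4

theorem cent3' (Q : Sylow 3 G) {r : G} (hr : r ∈ (Q : Subgroup G)) (h1 : r ≠ 1) :
    Nat.card (centralizer ({r} : Set G)) = 9 ∨ Nat.card (centralizer ({r} : Set G)) = 36 := by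
  obtain ⟨n, h2, h3⟩ := exists_card_eq_mul_card_inf Q (le_centralizer3 h Q hr)
  rw [inf_eq h hi Q hr h1, card3 h] at h3
  have h4 := card_centralizer_le h hi h1
  have h5 := not7 h (g := r) (fun h5 => h1 (orderOf_eq_one_iff.mp
    (Nat.eq_one_of_dvd_coprimes (by norm_num : Nat.Coprime 9 35)
      (card3 h Q ▸ orderOf_dvd_card_of_mem hr) h5)))
  have h6 := card_subgroup_dvd_card (centralizer ({r} : Set G))
  have h7 : Nat.card (centralizer ({r} : Set G)) ≠ 90 := by
    intro h7
    obtain ⟨L, h8, -, h9⟩ := exists_compl h hi Q hr h1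
    obtain ⟨x, hx, hx5⟩ := exists_orderOf_eq_mem L 5 (by omega)
    apply not9 h hi hx5
    rw [← card3 h Q]
    apply card_dvd_of_le
    intro q hq
    apply mem_normalizer_zpowers
    have h10 := mul_self_mem_of_card_two (zpowers_le.mpr hx) (by
      rw [Nat.card_zpowers, hx5]; omega)
      (h9 q (Or.inl (mul_inv_eq_iff_eq_mul.mpr (comm3' h Q hq hr))) x hx)
    have h11 : q * x * q⁻¹ = (q * x * q⁻¹ * (q * x * q⁻¹)) ^ 3 := by
      rw [← pow_two, ← pow_mul, conj_pow, show 2 * 3 = 5 + 1 by norm_num, pow_succ, ← hx5,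
        pow_orderOf_eq_one, one_mul]
    rw [h11]
    exact pow_mem h10 3
  rw [h, ← h3] at h6
  rw [← h3] at h4 h5 h7 ⊢
  have : n ≤ 35 := by omega
  interval_cases n <;> omega

theorem cent3 {r : G} (hr : orderOf r = 3) :
    Nat.card (centralizer ({r} : Set G)) = 9 ∨ Nat.card (centralizer ({r} : Set G)) = 36 := by
  obtain ⟨Q, hQ⟩ := exists_sylow_mem (p := 3) (k := 1) (x := r) (by rw [hr]; norm_num)
  exact cent3' h hi Q hQ (by rintro rfl; simp at hr)

theorem not15 {x : G} (hx : orderOf x = 5) : ¬ 3 ∣ Nat.card (centralizer ({x} : Set G)) := by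
  intro h3
  obtain ⟨r, hr, hr3⟩ := exists_orderOf_eq_mem _ 3 h3
  have := orderOf_dvd_card_of_mem (mem_centralizer_comm.mp hr)
  rcases cent3 h hi hr3 with h1 | h1 <;> rw [h1, hx] at this <;> omega

theorem five' (P : Sylow 5 G) : ∃ c : ℕ,
    (∀ x : G, orderOf x = 5 → Nat.card (centralizer ({x} : Set G)) = 5 * c) ∧
    ((c = 7) ∨ (c = 2 ∧ {g : G | 5 ∣ orderOf g}.ncard = 1008) ∨
      (c = 1 ∧ {g : G | 5 ∣ orderOf g}.ncard = 504)) := by
  obtain ⟨m, c, h1, h2, -, h3, h4⟩ := five h hi P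
  have h5 := ncard_dvd_orderOf P (card5 h P)
  obtain ⟨x, -, hx⟩ := exists_orderOf_eq_mem (P : Subgroup G) 5 (by rw [card5 h])
  have h6 := not15 h hi hx
  rw [card_centralizer_of_orderOf P (card5 h P) hx, h2] at h6
  rw [h2] at h5
  refine ⟨c, fun x hx => by rw [card_centralizer_of_orderOf P (card5 h P) hx, h2], ?_⟩
  have : c ≤ 12 := by rcases h1 with rfl | rfl <;> omega
  rcases h1 with rfl | rfl <;> interval_cases c <;> omega

theorem klein (Q : Sylow 3 G) {r : G} (hr : r ∈ (Q : Subgroup G)) {L : Subgroup G}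
    (h4 : Nat.card L = 4)
    (hL : ∀ g : G, (g * r * g⁻¹ = r ∨ g * r * g⁻¹ = r⁻¹) → ∀ v ∈ L, g * v * g⁻¹ ∈ L) :
    ∀ v ∈ L, v * v = 1 := by
  intro c hc
  have h1 := orderOf_dvd_card_of_mem hc
  have h2 : orderOf c ≠ 4 := by
    intro h2
    have h3 : zpowers c = L :=
      eq_of_le_of_card_le (zpowers_le.mpr hc) (by rw [h4, Nat.card_zpowers, h2])
    obtain ⟨m, hm, h5⟩ := exists_card_normalizer_eq_of_isCyclic (zpowers c) inferInstance
    have h6 : (Q : Subgroup G) ≤ normalizer ((zpowers c : Subgroup G) : Set G) := fun q hq =>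
      mem_normalizer_zpowers (h3 ▸ hL q (Or.inl (mul_inv_eq_iff_eq_mul.mpr (comm3' h Q hq hr))) c hc)
    have h7 := card_dvd_of_le h6
    rw [card3 h, h5, centralizer_zpowers] at h7
    rw [Nat.card_zpowers, h2, show Nat.totient 4 = 2 by decide] at hm
    apply not9_invol h hi (t := c ^ 2) (by rw [orderOf_pow, h2]; rfl)
    refine Dvd.dvd.trans ?_ (card_dvd_of_le (centralizer_le_centralizer_pow c 2))
    have := Nat.le_of_dvd (by norm_num) hm
    interval_cases m <;> omega
  rw [h4] at h1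
  rw [← pow_two, ← orderOf_dvd_iff_pow_eq_one]
  generalize orderOf c = o at *
  have := Nat.le_of_dvd (by norm_num) h1
  interval_cases o <;> omega

theorem cent4 {c : G} (hc : orderOf c = 4) : Nat.card (centralizer ({c} : Set G)) = 4 := by
  have h1 := card_dvd_of_le (zpowers_le_centralizer c)
  rw [Nat.card_zpowers, hc] at h1
  have h2 := card_subgroup_dvd_card (centralizer ({c} : Set G))
  have h7 := not7 h (g := c) (by rw [hc]; norm_num)
  have h8 := not_eight_dvd_of_order_four (Classical.arbitrary (Sylow 2 G)) (card2 h _) hc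
  have h5 : ¬ 5 ∣ Nat.card (centralizer ({c} : Set G)) := by
    intro h5
    obtain ⟨x, hx, hx5⟩ := exists_orderOf_eq_mem _ 5 h5
    obtain ⟨k, h3, h4⟩ := five' h hi (Classical.arbitrary (Sylow 5 G))
    have := orderOf_dvd_card_of_mem (mem_centralizer_comm.mp hx)
    rw [h3 x hx5, hc] at this
    omega
  have h3 : ¬ 3 ∣ Nat.card (centralizer ({c} : Set G)) := by
    intro h3
    obtain ⟨r, hr, hr3⟩ := exists_orderOf_eq_mem _ 3 h3
    obtain ⟨Q, hQ⟩ := exists_sylow_mem (p := 3) (k := 1) (x := r) (by rw [hr3]; norm_num)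
    obtain ⟨L, h4, h6, h9⟩ := exists_compl h hi Q hQ (by rintro rfl; simp at hr3)
    have h10 := orderOf_dvd_card_of_mem (mem_centralizer_comm.mp hr)
    rw [hc] at h10
    have h11 := cent3 h hi hr3
    have h12 := klein h hi Q hQ (by omega) h9 c ((h6 c).mpr ⟨mem_centralizer_comm.mp hr, by
      rw [hc]; norm_num⟩)
    have := orderOf_dvd_of_pow_eq_one ((pow_two c).trans h12)
    rw [hc] at this
    omega
  rw [h, show 2520 = 8 * 3 ^ 2 * 5 * 7 by norm_num] at h2
  have h9 := Nat.Coprime.dvd_of_dvd_mul_right ((fact7.out.coprime_iff_not_dvd.mpr h7).symm) h2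
  have h10 := Nat.Coprime.dvd_of_dvd_mul_right ((fact5.out.coprime_iff_not_dvd.mpr h5).symm) h9
  have h11 := Nat.Coprime.dvd_of_dvd_mul_right
    (((Nat.prime_three.coprime_iff_not_dvd.mpr h3).symm).pow_right 2) h10
  generalize Nat.card (centralizer ({c} : Set G)) = k at *
  have := Nat.le_of_dvd (by norm_num) h11
  interval_cases k <;> omega

theorem ncard_order4 : 630 ≤ {g : G | orderOf g = 4}.ncard := by
  obtain ⟨w, -, hw⟩ := exists_w h hi (Classical.arbitrary (Sylow 3 G))
  have h1 := ncard_isConj_mul_card_centralizer w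
  rw [cent4 h hi hw, h] at h1
  have := Set.ncard_le_ncard (s := {g : G | IsConj w g}) (t := {g : G | orderOf g = 4})
    (fun g hg => (orderOf_eq_of_isConj hg).trans hw)
  omega

theorem ncard3 : 210 ≤ {g : G | 3 ∣ orderOf g}.ncard := by
  have key : ∀ g : G, 3 ∣ orderOf g → Nat.card (centralizer ({g} : Set G)) ≤ 12 →
      210 ≤ {g : G | 3 ∣ orderOf g}.ncard := by
    intro g hg h1
    have h2 := ncard_isConj_mul_card_centralizer g
    have := Set.ncard_le_ncard (s := {a : G | IsConj g a}) (t := {g : G | 3 ∣ orderOf g})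
      (fun a ha => by change 3 ∣ orderOf a; rwa [orderOf_eq_of_isConj ha])
    nlinarith
  obtain ⟨r, hr⟩ := exists_prime_orderOf_dvd_card' (G := G) 3 (by rw [h]; norm_num)
  rcases cent3 h hi hr with h1 | h1
  · exact key r hr.symm.dvd (by omega)
  · obtain ⟨v, hv, hv2⟩ := exists_orderOf_eq_mem (centralizer ({r} : Set G)) 2 (by omega)
    have hc : Commute v r := mem_centralizer_singleton_iff.mp hv
    have h2 := orderOf_mul_of_commute_coprime hc.eq (by rw [hv2, hr]; norm_num)
    rw [hv2, hr] at h2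
    have hv' : v ^ 2 = 1 := hv2 ▸ pow_orderOf_eq_one v
    have hr' : r ^ 3 = 1 := hr ▸ pow_orderOf_eq_one r
    have h3 := card_dvd_of_le (centralizer_le_centralizer_pow (v * r) 4)
    have h4 := card_dvd_of_le (centralizer_le_centralizer_pow (v * r) 3)
    rw [hc.mul_pow, show 4 = 2 * 2 from rfl, pow_mul, hv', one_pow, one_mul,
      show 2 * 2 = 3 + 1 from rfl, pow_succ, hr', one_mul, h1] at h3
    rw [hc.mul_pow, hr', mul_one, show 3 = 2 + 1 from rfl, pow_succ, hv', one_mul] at h4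
    have h5 : ¬ 9 ∣ Nat.card (centralizer ({v * r} : Set G)) :=
      fun h5 => not9_invol h hi hv2 (h5.trans h4)
    refine key (v * r) (by rw [h2]; norm_num) ?_
    generalize Nat.card (centralizer ({v * r} : Set G)) = k at *
    have := Nat.le_of_dvd (by norm_num) h3
    interval_cases k <;> omega

theorem seven' : ({g : G | 7 ∣ orderOf g}.ncard = 720 ∧
    ∀ x : G, orderOf x = 7 → Nat.card (centralizer ({x} : Set G)) = 7) ∨
    {g : G | 7 ∣ orderOf g}.ncard = 1080 := by
  obtain ⟨P⟩ : Nonempty (Sylow 7 G) := inferInstance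
  have h1 := ncard_dvd_orderOf P (card7 h P)
  rcases seven h P with ⟨h2, h3⟩ | ⟨h2, h3⟩ <;> rw [h2, h3] at h1
  · exact Or.inl ⟨by omega, fun x hx => by rw [card_centralizer_of_orderOf P (card7 h P) hx, h3]⟩
  · exact Or.inr (by omega)

theorem disj37 : Disjoint {g : G | 3 ∣ orderOf g} {g : G | 7 ∣ orderOf g} := by
  rw [Set.disjoint_left]
  intro g h1 h2
  obtain ⟨x, hx, h3⟩ := exists_orderOf_dvd_centralizer h1 h2
  exact not7 h (by rw [hx]; norm_num) h3

theorem disj35 : Disjoint {g : G | 3 ∣ orderOf g} {g : G | 5 ∣ orderOf g} := by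
  rw [Set.disjoint_left]
  intro g h1 h2
  obtain ⟨x, hx, h3⟩ := exists_orderOf_dvd_centralizer h2 h1
  exact not15 h hi hx h3

theorem count_le : {g : G | orderOf g = 2}.ncard + {g : G | orderOf g = 4}.ncard +
    {g : G | 3 ∣ orderOf g}.ncard +
    ({g : G | 7 ∣ orderOf g} ∪ {g : G | 5 ∣ orderOf g}).ncard ≤ 2520 := by
  rw [← h, ← Set.ncard_union_eq, ← Set.ncard_union_eq, ← Set.ncard_union_eq]
  · exact Set.ncard_le_card _
  · refine Set.disjoint_union_left.mpr ⟨?_, Set.disjoint_union_right.mpr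
      ⟨disj37 h hi, disj35 h hi⟩⟩
    rw [Set.disjoint_left]
    rintro g (h1 | h1) (h2 | h2) <;> simp only [Set.mem_ofPred_eq] at h1 h2 <;> omega
  · rw [Set.disjoint_left]
    rintro g (h1 | h1) h2 <;> simp only [Set.mem_ofPred_eq] at h1 h2 <;> omega
  · rw [Set.disjoint_left]
    rintro g h1 h2
    simp only [Set.mem_ofPred_eq] at h1 h2
    omega

theorem not10 {x : G} (hx : orderOf x = 5) : ¬ 2 ∣ Nat.card (centralizer ({x} : Set G)) := by
  obtain ⟨c, h1, h2⟩ := five' h hi (Classical.arbitrary (Sylow 5 G))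
  rw [h1 x hx]
  rcases h2 with rfl | ⟨rfl, h2⟩ | ⟨rfl, -⟩
  · omega
  · have h3 := count_le h hi
    have h4 := ncard_order4 h hi
    have h5 := ncard3 h hi
    have h6 := seven' h hi
    rw [Set.ncard_union_eq (by
      rw [Set.disjoint_left]
      intro g h7 h8
      obtain ⟨y, hy, h9⟩ := exists_orderOf_dvd_centralizer h8 h7
      rw [h1 y hy] at h9
      omega)] at h3
    omega
  · omega

theorem ncard75 : 1080 ≤ ({g : G | 7 ∣ orderOf g} ∪ {g : G | 5 ∣ orderOf g}).ncard := by
  rcases seven' h hi with ⟨h1, h2⟩ | h1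
  · obtain ⟨c, h3, h4⟩ := five' h hi (Classical.arbitrary (Sylow 5 G))
    have h5 : c ≠ 7 := by
      rintro rfl
      obtain ⟨x, hx⟩ := exists_prime_orderOf_dvd_card' (G := G) 5 (by rw [h]; norm_num)
      obtain ⟨y, hy, hy7⟩ := exists_orderOf_eq_mem (centralizer ({x} : Set G)) 7
        (by rw [h3 x hx]; norm_num)
      have := orderOf_dvd_card_of_mem (mem_centralizer_comm.mp hy)
      rw [h2 y hy7, hx] at this
      omega
    rw [Set.ncard_union_eq (by
      rw [Set.disjoint_left]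
      intro g h7 h8
      obtain ⟨y, hy, h9⟩ := exists_orderOf_dvd_centralizer h7 h8
      rw [h2 y hy] at h9
      omega)]
    omega
  · exact h1 ▸ Set.ncard_le_ncard Set.subset_union_left

theorem cent2' {t : G} (ht : orderOf t = 2) :
    Nat.card (centralizer ({t} : Set G)) = 8 ∨ Nat.card (centralizer ({t} : Set G)) = 24 := by
  have h1 := eight_dvd h ht
  have h2 := card_subgroup_dvd_card (centralizer ({t} : Set G))
  have h7 := not7 h (g := t) (by rw [ht]; norm_num)
  have h9 := not9_invol h hi ht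
  have h5 : ¬ 5 ∣ Nat.card (centralizer ({t} : Set G)) := by
    intro h5
    obtain ⟨x, hx, hx5⟩ := exists_orderOf_eq_mem _ 5 h5
    exact not10 h hi hx5 (ht ▸ orderOf_dvd_card_of_mem (mem_centralizer_comm.mp hx))
  rw [h, show 2520 = 72 * 5 * 7 by norm_num] at h2
  have h10 := Nat.Coprime.dvd_of_dvd_mul_right ((fact7.out.coprime_iff_not_dvd.mpr h7).symm) h2
  have h11 := Nat.Coprime.dvd_of_dvd_mul_right ((fact5.out.coprime_iff_not_dvd.mpr h5).symm) h10
  generalize Nat.card (centralizer ({t} : Set G)) = k at *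
  have := Nat.le_of_dvd (by norm_num) h11
  interval_cases k <;> omega

theorem cent2 {t : G} (ht : orderOf t = 2) : Nat.card (centralizer ({t} : Set G)) = 24 := by
  refine (cent2' h hi ht).resolve_left (fun h8 => ?_)
  have h1 := ncard_isConj_mul_card_centralizer t
  rw [h8, h] at h1
  have h2 := Set.ncard_le_ncard (s := {g : G | IsConj t g}) (t := {g : G | orderOf g = 2})
    (fun g hg => (orderOf_eq_of_isConj hg).trans ht)
  have h3 : ∀ (Q : Sylow 3 G), ∀ r ∈ (Q : Subgroup G), r ≠ 1 → (Q : Subgroup G) = centralizer {r} := by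
    intro Q r hr hr1
    apply eq_of_le_of_card_le (le_centralizer3 h Q hr)
    rcases cent3' h hi Q hr hr1 with h4 | h4
    · rw [h4, card3 h]
    · obtain ⟨v, hv, hv2⟩ := exists_orderOf_eq_mem (centralizer ({r} : Set G)) 2 (by omega)
      have h5 := orderOf_dvd_card_of_mem (mem_centralizer_comm.mp hv)
      rw [card_centralizer_eq_of_isConj (isConj2 h ht hv2), h8] at h5
      exact absurd (orderOf_eq_one_iff.mp (Nat.eq_one_of_dvd_coprimes
        (by norm_num : Nat.Coprime 9 8) (card3 h Q ▸ orderOf_dvd_card_of_mem hr) h5)) hr1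
  obtain ⟨Q⟩ : Nonempty (Sylow 3 G) := inferInstance
  have h4 := ncard_pElements_of_TI Q (fun R S x hR hS hx =>
    Sylow.ext ((h3 R x hR hx).trans (h3 S x hS hx).symm))
  have h5 := card_sylow_mul_card_normalizer Q
  rw [(three h hi Q).1, h] at h5
  rw [card3 h] at h4
  have h6 := Set.ncard_le_ncard (s := {g : G | g ≠ 1 ∧ ∃ k, orderOf g = 3 ^ k})
    (t := {g : G | 3 ∣ orderOf g}) (by
      rintro g ⟨hg, k, hk⟩
      change 3 ∣ orderOf g
      rw [hk]
      apply dvd_pow_self
      rintro rfl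
      exact hg (orderOf_eq_one_iff.mp hk))
  have h7 := count_le h hi
  have h9 := ncard_order4 h hi
  have h10 := ncard75 h hi
  omega

end CL.O2520
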