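import Cfsg.Agent.Base
import Cfsg.Agent.Small.O2520b

/-!
A simple group of order 2520 has a subgroup of index 7: Carmichael's generators.
-/

set_option autoImplicit false

namespace CL.SG

open Subgroup

variable {G : Type*} [Group G] [Finite G]

theorem two_mul_card_closure_le [DecidableEq G] (s : Finset G) (hs : ∀ x ∈ s, x ^ 3 = 1)
    (hxx : ∀ x ∈ s, ∀ x' ∈ s, x ≠ x' → (x * x') ^ 2 = 1) :
    2 * Nat.card (closure (s : Set G)) ≤ (s.card + 2).factorial := by
  induction s using Finset.induction_on with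
  | empty => simp
  | insert y s hy ih =>
    have h1 := ih (fun x hx => hs x (Finset.mem_insert_of_mem hx))
      (fun x hx x' hx' => hxx x (Finset.mem_insert_of_mem hx) x' (Finset.mem_insert_of_mem hx'))
    have h2 := card_closure_insert_le s y (fun x hx => hs x (Finset.mem_insert_of_mem hx))
      (hs y (Finset.mem_insert_self _ _))
      (fun x hx => hxx x (Finset.mem_insert_of_mem hx) y (Finset.mem_insert_self _ _)
        (by rintro rfl; exact hy hx))
      (fun x hx x' hx' => hxx x (Finset.mem_insert_of_mem hx) x' (Finset.mem_insert_of_mem hx'))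
    rw [Finset.coe_insert, Finset.card_insert_of_notMem hy,
      show s.card + 1 + 2 = (s.card + 2) + 1 by ring, Nat.factorial_succ]
    calc 2 * Nat.card (closure (insert y (s : Set G)))
        ≤ 2 * ((s.card + 3) * Nat.card (closure (s : Set G))) := Nat.mul_le_mul_left _ h2
      _ = (s.card + 2 + 1) * (2 * Nat.card (closure (s : Set G))) := by ring
      _ ≤ _ := Nat.mul_le_mul_left _ h1

theorem mem_normalizer_closure {S : Set G} {g : G} (hS : ∀ x ∈ S, g * x * g⁻¹ ∈ closure S) :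
    g ∈ normalizer ((closure S : Subgroup G) : Set G) := by
  apply mem_normalizer_fintype
  intro x hx
  change g * x * g⁻¹ ∈ closure S
  induction hx using closure_induction with
  | mem x hx => exact hS x hx
  | one => simp
  | mul a b _ _ ha hb =>
    rw [show g * (a * b) * g⁻¹ = (g * a * g⁻¹) * (g * b * g⁻¹) by group]
    exact mul_mem ha hb
  | inv a _ ha =>
    rw [show g * a⁻¹ * g⁻¹ = (g * a * g⁻¹)⁻¹ by group]
    exact inv_mem ha

theorem mem_zpowers_three {y g : G} (hy : orderOf y = 3) (hg : g ∈ zpowers y) :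
    g = 1 ∨ g = y ∨ g = y⁻¹ := by
  obtain ⟨k, hk, rfl⟩ := exists_pow_eq_of_mem_zpowers hg
  rw [hy] at hk
  interval_cases k
  · simp
  · simp
  · right; right
    rw [eq_inv_iff_mul_eq_one, ← pow_succ, ← orderOf_dvd_iff_pow_eq_one, hy]

theorem mem_of_card_four {L : Subgroup G} (h4 : Nat.card L = 4) {a b c v : G} (ha : a ∈ L)
    (hb : b ∈ L) (hc : c ∈ L) (ha1 : a ≠ 1) (hb1 : b ≠ 1) (hc1 : c ≠ 1) (hab : a ≠ b)
    (hac : a ≠ c) (hbc : b ≠ c) (hv : v ∈ L) : v = 1 ∨ v = a ∨ v = b ∨ v = c := by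
  classical
  have h1 : ({1, a, b, c} : Set G) = L := by
    refine Set.eq_of_subset_of_ncard_le ?_ ?_
    · rintro x (rfl | rfl | rfl | rfl)
      exacts [L.one_mem, ha, hb, hc]
    · rw [Set.ncard_insert_of_notMem (by simp [ha1.symm, hb1.symm, hc1.symm]),
        Set.ncard_insert_of_notMem (by simp [hab, hac]), Set.ncard_pair hbc]
      exact h4.le
  have h2 : v ∈ ({1, a, b, c} : Set G) := h1 ▸ hv
  simpa using h2

end CL.SG

namespace CL.O2520

open Subgroup CL.SG

variable {G : Type*} [Group G] [Finite G] [IsSimpleGroup G] (h : Nat.card G = 2520)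
include h

theorem le_of_mem (Q : Sylow 3 G) {y a : G} (hy : y ∈ (Q : Subgroup G)) (hy3 : orderOf y = 3)
    (ha : a ∈ (Q : Subgroup G)) (hay : a ∉ zpowers y) {H : Subgroup G} (hyH : y ∈ H)
    (haH : a ∈ H) : (Q : Subgroup G) ≤ H := by
  have h1 := card_dvd_of_le (inf_le_left : (Q : Subgroup G) ⊓ H ≤ Q)
  have h2 : zpowers y ≤ (Q : Subgroup G) ⊓ H := zpowers_le.mpr ⟨hy, hyH⟩
  have h3 := card_dvd_of_le h2
  have h4 : Nat.card ((Q : Subgroup G) ⊓ H : Subgroup G) ≠ 3 := by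
    intro h5
    rw [eq_of_le_of_card_le h2 (by rw [h5, Nat.card_zpowers, hy3])] at hay
    exact hay ⟨ha, haH⟩
  rw [card3 h] at h1
  rw [Nat.card_zpowers, hy3] at h3
  have h5 : Nat.card ((Q : Subgroup G) ⊓ H : Subgroup G) = 9 := by
    have := Nat.le_of_dvd (by norm_num) h1
    generalize Nat.card ((Q : Subgroup G) ⊓ H : Subgroup G) = n at *
    interval_cases n <;> omega
  rw [← eq_of_le_of_card_le (inf_le_left : (Q : Subgroup G) ⊓ H ≤ Q) (by rw [h5, card3 h])]
  exact inf_le_right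

variable (hi : ∀ H : Subgroup G, H ≠ ⊤ → 8 ≤ H.index)
include hi

theorem mem_zpowers_of_comm (Q : Sylow 3 G) {y a t : G} (hy : y ∈ (Q : Subgroup G))
    (hy3 : orderOf y = 3) (ha : a ∈ (Q : Subgroup G)) (ht : orderOf t = 2)
    (hyt : y * t = t * y) (hat : a * t = t * a) : a ∈ zpowers y := by
  by_contra hay
  have h1 := card_dvd_of_le (le_of_mem h Q hy hy3 ha hay (mem_centralizer_singleton_iff.mpr hyt)
    (mem_centralizer_singleton_iff.mpr hat))
  rw [card3 h, cent2 h hi ht] at h1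
  omega

/-- The Klein four-group in the centraliser of an element of order 3. -/
theorem exists_klein {r : G} (hr : orderOf r = 3)
    (h36 : Nat.card (centralizer ({r} : Set G)) = 36) :
    ∃ L : Subgroup G, Nat.card L = 4 ∧ (∀ v ∈ L, v * v = 1) ∧
      (∀ g, g ∈ L ↔ g ∈ centralizer ({r} : Set G) ∧ ¬ 3 ∣ orderOf g) ∧
      ∀ g : G, (g * r * g⁻¹ = r ∨ g * r * g⁻¹ = r⁻¹) → ∀ v ∈ L, g * v * g⁻¹ ∈ L := by
  obtain ⟨Q, hQ⟩ := exists_sylow_mem (p := 3) (k := 1) (x := r) (by rw [hr]; norm_num)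
  obtain ⟨L, h1, h2, h3⟩ := exists_compl h hi Q hQ (by rintro rfl; simp at hr)
  have h4 : Nat.card L = 4 := by omega
  exact ⟨L, h4, klein h hi Q hQ h4 h3, h2, h3⟩

theorem cent36 {r t : G} (hr : orderOf r = 3) (ht : orderOf t = 2) (hrt : r * t = t * r) :
    Nat.card (centralizer ({r} : Set G)) = 36 := by
  refine (cent3 h hi hr).resolve_left (fun h9 => ?_)
  have := orderOf_dvd_card_of_mem (mem_centralizer_singleton_iff.mpr hrt.symm)
  rw [ht, h9] at this
  omega

theorem card_inf {r t : G} (hr : orderOf r = 3) (ht : orderOf t = 2) (hrt : r * t = t * r) :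
    Nat.card (centralizer ({t} : Set G) ⊓ centralizer ({r} : Set G) : Subgroup G) = 12 ∧
      ∀ b ∈ centralizer ({t} : Set G) ⊓ centralizer ({r} : Set G), b ^ 6 = 1 := by
  have h36 := cent36 h hi hr ht hrt
  obtain ⟨L, h4, h5, h6, -⟩ := exists_klein h hi hr h36
  have htL : t ∈ L := (h6 t).mpr ⟨mem_centralizer_singleton_iff.mpr hrt.symm, by omega⟩
  set B := centralizer ({t} : Set G) ⊓ centralizer ({r} : Set G)
  have h1 : L ≤ B := fun v hv =>
    ⟨mem_centralizer_singleton_iff.mpr (comm_of_mul_self h5 v hv t htL), ((h6 v).mp hv).1⟩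
  have h2 : r ∈ B := ⟨mem_centralizer_singleton_iff.mpr hrt, mem_centralizer_singleton_iff.mpr rfl⟩
  have h7 := card_dvd_of_le h1
  have h8 := orderOf_dvd_card_of_mem h2
  have h9 := card_dvd_of_le (inf_le_left : B ≤ _)
  have h10 := card_dvd_of_le (inf_le_right : B ≤ _)
  rw [cent2 h hi ht] at h9
  rw [h36] at h10
  have h11 : Nat.card B = 12 := by
    have := Nat.le_of_dvd (by norm_num) h9
    rw [h4] at h7
    rw [hr] at h8
    generalize Nat.card B = n at *
    interval_cases n <;> omega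
  refine ⟨h11, fun b hb => ?_⟩
  have h12 : b ^ 3 ∈ L := by
    refine (h6 _).mpr ⟨(pow_mem hb 3).2, fun h13 => ?_⟩
    have h14 : orderOf (b ^ 3) ∣ 4 := by
      apply orderOf_dvd_of_pow_eq_one
      rw [← pow_mul, ← orderOf_dvd_iff_pow_eq_one]
      have := orderOf_dvd_card_of_mem hb
      rwa [h11] at this
    have := h13.trans h14
    omega
  rw [show b ^ 6 = b ^ 3 * b ^ 3 by group, h5 _ h12]

/-- The braid relation. -/
theorem braid {s w v y : G} (hw : orderOf w = 4) (hs : s = w * w) (hv : orderOf v = 2)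
    (hy : orderOf y = 3) (hsv : s * v = v * s) (hyv : y * v = v * y)
    (hsy : s * y * s⁻¹ = y⁻¹) : (v * (w * v * w⁻¹) * s) ^ 3 = 1 := by
  have hs2 : orderOf s = 2 := by
    rw [hs, ← pow_two, orderOf_pow' _ (by norm_num), hw]; norm_num
  obtain ⟨r, hr, hr3⟩ := exists_orderOf_eq_mem (centralizer ({s} : Set G)) 3
    (by rw [cent2 h hi hs2]; norm_num)
  have hrs := mem_centralizer_singleton_iff.mp hr
  obtain ⟨hB, hB6⟩ := card_inf h hi hr3 hs2 hrs
  set B := centralizer ({s} : Set G) ⊓ centralizer ({r} : Set G)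
  have hw' : w ∈ centralizer ({s} : Set G) := by
    rw [mem_centralizer_singleton_iff, hs, mul_assoc]
  have hv' : v ∈ centralizer ({s} : Set G) := mem_centralizer_singleton_iff.mpr hsv.symm
  have hwB : w ∉ B := fun h1 => by
    have := orderOf_dvd_of_pow_eq_one (hB6 w h1)
    rw [hw] at this
    omega
  have hvB : v ∉ B := fun h1 => by
    have h2 := mem_centralizer_singleton_iff.mp h1.2
    obtain ⟨hB', -⟩ := card_inf h hi hy hv hyv
    have h3 : r⁻¹ * r⁻¹ ∈ centralizer ({v} : Set G) ⊓ centralizer ({y} : Set G) :=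
      mul_self_mem_of_card_two inf_le_left (by rw [hB', cent2 h hi hv])
        (inv_mem (mem_centralizer_singleton_iff.mpr h2.symm))
    have h4 : r⁻¹ * r⁻¹ = r := by
      have : r ^ 3 = 1 := by rw [← hr3, pow_orderOf_eq_one]
      rw [← mul_inv_rev, inv_eq_iff_mul_eq_one, ← this, pow_three']
    rw [h4] at h3
    obtain ⟨S, hS, hrS⟩ := exists_sylow_le_of_dvd (Classical.arbitrary (Sylow 3 G)) h3.2
      (k := 1) (by rw [hr3]; norm_num) (by rw [card3 h, cent36 h hi hy hv hyv]; norm_num)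
    have hyS : y ∈ (S : Subgroup G) := by
      rw [← (three h hi S).2]
      intro q hq
      exact mem_centralizer_singleton_iff.mp (hS hq)
    have h5 := mem_zpowers_of_comm h hi S hyS hy hrS hv hyv h2.symm
    have h6 : s * r * s⁻¹ = r⁻¹ := by
      rcases mem_zpowers_three hy h5 with rfl | rfl | rfl
      · simp
      · exact hsy
      · rw [show s * y⁻¹ * s⁻¹ = (s * y * s⁻¹)⁻¹ by group, hsy]
    rw [← hrs, mul_inv_cancel_right, eq_inv_iff_mul_eq_one, ← pow_two] at h6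
    have := orderOf_dvd_of_pow_eq_one h6
    rw [hr3] at this
    omega
  have h1 : w⁻¹ * v ∈ B := by
    rw [mul_mem_iff_of_card_two inf_le_left (by rw [hB, cent2 h hi hs2]) (inv_mem hw') hv',
      inv_mem_iff]
    exact iff_of_false hwB hvB
  obtain ⟨b, hb⟩ : ∃ b, b = w⁻¹ * v := ⟨_, rfl⟩
  rw [← hb] at h1
  have h2 : v = w * b := by rw [hb]; group
  have h3 := mem_centralizer_singleton_iff.mp h1.1
  have h4 := mem_centralizer_singleton_iff.mp hw'
  have h5 : s * s = 1 := by rw [← pow_two, ← hs2, pow_orderOf_eq_one]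
  have h6 : v * (w * v * w⁻¹) * s = w * (b * b) * w⁻¹ := by
    calc v * (w * v * w⁻¹) * s = w * (b * s) * b * (w⁻¹ * s) := by rw [h2, hs]; group
      _ = w * b * (s * b) * (s * w⁻¹) := by
        rw [show w⁻¹ * s = s * w⁻¹ by rw [inv_mul_eq_iff_eq_mul, ← mul_assoc, h4]; group]; group
      _ = w * b * b * (s * s) * w⁻¹ := by rw [← h3]; group
      _ = _ := by rw [h5]; group
  rw [h6, conj_pow, ← pow_two, ← pow_mul, hB6 b h1]
  group

theorem normalizer_eq_top {M : Subgroup G} {y s x : G} (hy : orderOf y = 3)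
    (h36 : 36 ∣ Nat.card (M ⊓ centralizer ({y} : Set G) : Subgroup G)) (hsM : s ∈ M)
    (hsy : s * y * s⁻¹ = y⁻¹) (hxM : x ∈ M) (hxy : x * y * x⁻¹ ∉ zpowers y) : M = ⊤ := by
  by_contra hM
  have h1 := card_le h hi hM
  have h2 := card_subgroup_dvd_card M
  set K := M ⊓ normalizer ((zpowers y : Subgroup G) : Set G)
  have h3 : M ⊓ centralizer ({y} : Set G) ≤ K := inf_le_inf_left _ (fun g hg =>
    mem_normalizer_zpowers (by
      rw [mem_centralizer_singleton_iff.mp hg, mul_inv_cancel_right]; exact mem_zpowers y))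
  obtain ⟨k, hk⟩ := card_dvd_of_le h3
  obtain ⟨m, hm⟩ := card_dvd_of_le (inf_le_left : K ≤ M)
  obtain ⟨j, hj⟩ := h36
  have hk1 : k ≠ 1 := by
    rintro rfl
    have h4 : s ∈ K := ⟨hsM, mem_normalizer_zpowers (hsy ▸ inv_mem (mem_zpowers y))⟩
    rw [← eq_of_le_of_card_le h3 (by omega)] at h4
    rw [mem_centralizer_singleton_iff.mp h4.2, mul_inv_cancel_right, eq_inv_iff_mul_eq_one,
      ← pow_two] at hsy
    have := orderOf_dvd_of_pow_eq_one hsy
    rw [hy] at this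
    omega
  have hm1 : m ≠ 1 := by
    rintro rfl
    rw [← eq_of_le_of_card_le (inf_le_left : K ≤ M) (by omega)] at hxM
    exact hxy ((mem_normalizer_iff.mp hxM.2 y).mp (mem_zpowers y))
  have hpos : 0 < Nat.card M := Nat.card_pos
  rw [h] at h2
  rw [hm, hk, hj] at h1 h2 hpos
  have hj0 : j ≠ 0 := by rintro rfl; simp at hpos
  have hk0 : k ≠ 0 := by rintro rfl; simp at hpos
  have hm0 : m ≠ 0 := by rintro rfl; simp at hpos
  have h5 : 2 ≤ k := by omega
  have h6 : 2 ≤ m := by omega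
  have h7 : 1 ≤ j := by omega
  have h8 : 1 * 2 ≤ j * k := Nat.mul_le_mul h7 h5
  have h9 : 1 * 2 ≤ j * m := Nat.mul_le_mul h7 h6
  have h10 : 2 * 2 ≤ k * m := Nat.mul_le_mul h5 h6
  have h11 : j ≤ 2 := by nlinarith
  have h12 : k ≤ 4 := by nlinarith
  have h13 : m ≤ 4 := by nlinarith
  interval_cases j <;> interval_cases k <;> interval_cases m <;> omega

theorem main : False := by
  classical
  obtain ⟨t, -, ht⟩ := exists_orderOf_eq_mem (⊤ : Subgroup G) 2 (by rw [card_top, h]; norm_num)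
  obtain ⟨y, hyt, hy⟩ := exists_orderOf_eq_mem (centralizer ({t} : Set G)) 3
    (by rw [cent2 h hi ht]; norm_num)
  have h36 := cent36 h hi hy ht (mem_centralizer_singleton_iff.mp hyt)
  obtain ⟨V, hV4, hV2, hV, hVn⟩ := exists_klein h hi hy h36
  obtain ⟨Q, hyQ⟩ := exists_sylow_mem (p := 3) (k := 1) (x := y) (by rw [hy]; norm_num)
  obtain ⟨w, hwN, hw⟩ := exists_w h hi Q
  obtain ⟨s, hs⟩ : ∃ s, s = w * w := ⟨_, rfl⟩
  have hs2 : orderOf s = 2 := by
    rw [hs, ← pow_two, orderOf_pow' _ (by norm_num), hw]; norm_num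
  have hss : s * s = 1 := by rw [← pow_two, ← hs2, pow_orderOf_eq_one]
  have hs' : s⁻¹ = s := inv_eq_of_mul_eq_one_right hss
  have hsy : s * y * s⁻¹ = y⁻¹ := inverts h hi Q hs2 (hs ▸ mul_mem hwN hwN) hyQ
  have hy3 : y ^ 3 = 1 := by rw [← hy, pow_orderOf_eq_one]
  have hyy : y ≠ y⁻¹ := by
    intro h1
    rw [eq_inv_iff_mul_eq_one, ← pow_two] at h1
    have := orderOf_dvd_of_pow_eq_one h1
    rw [hy] at this
    omega
  have hy1 : y ≠ 1 := by rintro rfl; simp at hy
  obtain ⟨a, ha⟩ : ∃ a, a = w * y * w⁻¹ := ⟨_, rfl⟩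
  have haQ : a ∈ (Q : Subgroup G) := ha ▸ (mem_normalizer_iff.mp hwN y).mp hyQ
  have ha3 : orderOf a = 3 := by rw [ha, ← hy]; exact (MulAut.conj w).orderOf_eq y
  have hay : a ∉ zpowers y := by
    intro h1
    have h2 : w * a * w⁻¹ = y⁻¹ := by rw [← hsy, ha, hs]; group
    rcases mem_zpowers_three hy h1 with h3 | h3 | h3
    · rw [h3] at ha3; simp at ha3
    · rw [h3, ← ha, h3] at h2; exact hyy h2
    · rw [h3, show w * y⁻¹ * w⁻¹ = (w * y * w⁻¹)⁻¹ by group, ← ha, h3, inv_inv] at h2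
      exact hyy h2
  have hya : y * a = a * y := comm3' h Q hyQ haQ
  have hVc := comm_of_mul_self hV2
  have hVy : ∀ v ∈ V, v * y = y * v := fun v hv =>
    mem_centralizer_singleton_iff.mp ((hV v).mp hv).1
  have hVo : ∀ v ∈ V, v ≠ 1 → orderOf v = 2 := fun v hv h1 =>
    orderOf_eq_prime (by rw [pow_two, hV2 v hv]) h1
  have hsV := hVn s (Or.inr hsy)
  have haV := hVn a (Or.inl (by rw [← hya, mul_inv_cancel_right]))
  have haV' := hVn a⁻¹ (Or.inl (by rw [inv_inv, mul_assoc, hya, inv_mul_cancel_left]))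
  obtain ⟨v0, hv0, hv01, hsv⟩ : ∃ v0 ∈ V, v0 ≠ 1 ∧ s * v0 = v0 * s := by
    obtain ⟨v, hv, hv2⟩ := exists_orderOf_eq_mem V 2 (by rw [hV4]; norm_num)
    by_cases h1 : s * v * s⁻¹ = v
    · exact ⟨v, hv, by rintro rfl; simp at hv2, mul_inv_eq_iff_eq_mul.mp h1⟩
    · refine ⟨v * (s * v * s⁻¹), mul_mem hv (hsV v hv), fun h2 => h1 ?_, ?_⟩
      · rw [eq_inv_of_mul_eq_one_right h2, inv_eq_of_mul_eq_one_right (hV2 v hv)]
      · conv_lhs => rw [hVc v hv _ (hsV v hv)]
        rw [hs']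
        calc s * (s * v * s * v) = (s * s) * v * s * v := by group
          _ = v * s * v * (s * s) := by rw [hss]; group
          _ = _ := by group
  have hv02 := hVo v0 hv0 hv01
  have hvv := hV2 v0 hv0
  have hbr := braid h hi hw hs hv02 hy hsv (hVy v0 hv0).symm hsy
  obtain ⟨u, hu⟩ : ∃ u, u = w * v0 * w⁻¹ := ⟨_, rfl⟩
  rw [← hu] at hbr
  have hu2 : orderOf u = 2 := by rw [hu, ← hv02]; exact (MulAut.conj w).orderOf_eq v0
  have huu : u * u = 1 := by rw [← pow_two, ← hu2, pow_orderOf_eq_one]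
  have hu' : u⁻¹ = u := inv_eq_of_mul_eq_one_right huu
  have hua : a * u = u * a := by
    rw [hu, ha]
    calc w * y * w⁻¹ * (w * v0 * w⁻¹) = w * (y * v0) * w⁻¹ := by group
      _ = _ := by rw [← hVy v0 hv0]; group
  have hsu : s * u = u * s := by
    rw [hu]
    calc s * (w * v0 * w⁻¹) = w * (s * v0) * w⁻¹ := by rw [hs]; group
      _ = _ := by rw [hsv, hs]; group
  obtain ⟨U, -, hU2, hU, hUn⟩ := exists_klein h hi ha3 (cent36 h hi ha3 hu2 hua)
  have huU : u ∈ U := (hU u).mpr ⟨mem_centralizer_singleton_iff.mpr hua.symm, by omega⟩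
  obtain ⟨x, hx⟩ : ∃ x, x = u * y⁻¹ * u⁻¹ := ⟨_, rfl⟩
  have hx3 : x ^ 3 = 1 := by rw [hx, conj_pow, inv_pow, hy3]; group
  have hxy : (x * y) ^ 2 = 1 := by
    have h1 := hUn y⁻¹ (Or.inl (by rw [inv_inv, mul_assoc, ← hya, inv_mul_cancel_left])) u huU
    rw [pow_two, ← hU2 _ (mul_mem huU h1), hx, hu']
    group
  have hxa : a * x * a⁻¹ = x := by
    rw [hx, hu']
    calc a * (u * y⁻¹ * u) * a⁻¹ = (a * u * a⁻¹) * (a * y * a⁻¹)⁻¹ * (a * u * a⁻¹) := by group
      _ = _ := by rw [hua, ← hya, mul_inv_cancel_right, mul_inv_cancel_right]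
  have h0 : (x * (v0 * x * v0⁻¹)) ^ 2 = 1 := by
    obtain ⟨z, hz⟩ : ∃ z, z = u * s := ⟨_, rfl⟩
    have hv' : v0⁻¹ = v0 := inv_eq_of_mul_eq_one_right hvv
    have hzz : z * z = 1 := by
      rw [hz]
      calc u * s * (u * s) = u * (s * u) * s := by group
        _ = (u * u) * (s * s) := by rw [hsu]; group
        _ = 1 := by rw [huu, hss, mul_one]
    have hz' : z⁻¹ = z := inv_eq_of_mul_eq_one_right hzz
    have h1 : z * y * z⁻¹ = x := by rw [hz, hx, ← hsy]; group
    have h2 : z * v0 * z = v0 * z * v0 := by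
      rw [mul_assoc v0, ← hz, pow_three'] at hbr
      calc z * v0 * z = (v0 * z * v0)⁻¹ * (v0 * z * (v0 * z) * (v0 * z)) := by group
        _ = v0 * z * v0 := by rw [hbr, mul_one, mul_inv_rev, mul_inv_rev, hv', hz', mul_assoc]
    have h3 : v0 * y * v0⁻¹ = y := by rw [hVy v0 hv0, mul_inv_cancel_right]
    have h4 : (z * v0) * y * (z * v0)⁻¹ = x := by
      rw [← h1]
      conv_rhs => rw [← h3]
      group
    have h5 : (z * v0) * x * (z * v0)⁻¹ = v0 * x * v0⁻¹ := by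
      calc (z * v0) * x * (z * v0)⁻¹ = (z * v0 * z) * y * (z * v0 * z)⁻¹ := by rw [← h1]; group
        _ = v0 * ((z * v0) * y * (z * v0)⁻¹) * v0⁻¹ := by rw [h2]; group
        _ = _ := by rw [h4]
    have h6 : x * (v0 * x * v0⁻¹) = (z * v0 * y) * (x * y) * (z * v0 * y)⁻¹ := by
      rw [← h5]
      nth_rewrite 1 [← h4]
      group
    rw [h6, conj_pow, hxy]
    group
  have hav : ∀ b : G, b * y = y * b → b ∈ (Q : Subgroup G) → b ∉ zpowers y →
      b * v0 * b⁻¹ ≠ v0 := fun b _ hb hb' h1 =>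
    hb' (mem_zpowers_of_comm h hi Q hyQ hy hb hv02 (hVy v0 hv0).symm
      (mul_inv_eq_iff_eq_mul.mp h1))
  have hconj1 : ∀ b : G, b * v0 * b⁻¹ ≠ 1 := fun b h1 => hv01 (by
    rw [show v0 = b⁻¹ * (b * v0 * b⁻¹) * b by group, h1]; group)
  have hxv : ∀ v ∈ V, v ≠ 1 → (x * (v * x * v⁻¹)) ^ 2 = 1 := by
    intro v hv hv1
    have ha' : a⁻¹ * y = y * a⁻¹ := by
      rw [inv_mul_eq_iff_eq_mul, ← mul_assoc, ← hya, mul_inv_cancel_right]
    have hxa' : a⁻¹ * x * a⁻¹⁻¹ = x := by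
      conv_lhs => rw [← hxa]
      group
    have key : ∀ b : G, b * x * b⁻¹ = x → (x * (b * v0 * b⁻¹ * x * (b * v0 * b⁻¹)⁻¹)) ^ 2 = 1 := by
      intro b hb
      have h1 : x * (b * v0 * b⁻¹ * x * (b * v0 * b⁻¹)⁻¹) = b * (x * (v0 * x * v0⁻¹)) * b⁻¹ := by
        conv_lhs => rw [← hb]
        group
      rw [h1, conj_pow, h0]
      group
    rcases mem_of_card_four hV4 hv0 (haV v0 hv0) (haV' v0 hv0) hv01 (hconj1 _) (hconj1 _)
      (hav a hya.symm haQ hay).symm
      (hav a⁻¹ ha' (inv_mem haQ) (by rwa [inv_mem_iff])).symm (fun h1 => by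
        have ha33 : a ^ 3 = 1 := by rw [← ha3, pow_orderOf_eq_one]
        refine hav a⁻¹ ha' (inv_mem haQ) (by rwa [inv_mem_iff]) ?_
        calc a⁻¹ * v0 * a⁻¹⁻¹ = (a ^ 3)⁻¹ * (a * (a * v0 * a⁻¹) * a⁻¹) * a ^ 3 := by group
          _ = v0 := by rw [h1, ha33]; group) hv with rfl | rfl | rfl | rfl
    · exact absurd rfl hv1
    · exact h0
    · exact key a hxa
    · exact key a⁻¹ hxa'
  let S : Finset G := (V : Set G).toFinite.toFinset.image (fun v => v * x * v⁻¹)
  have hS : ∀ g, g ∈ S ↔ ∃ v ∈ V, v * x * v⁻¹ = g := by simp [S]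
  have hS4 : S.card ≤ 4 := Finset.card_image_le.trans (by
    rw [← Set.ncard_eq_toFinset_card]; exact hV4.le)
  have hS3 : ∀ g ∈ S, g ^ 3 = 1 := by
    intro g hg
    obtain ⟨v, -, rfl⟩ := (hS g).mp hg
    rw [conj_pow, hx3]; group
  have hSy : ∀ g ∈ S, (g * y) ^ 2 = 1 := by
    intro g hg
    obtain ⟨v, hv, rfl⟩ := (hS g).mp hg
    have h1 : v * x * v⁻¹ * y = v * (x * y) * v⁻¹ := by
      rw [mul_assoc (v * x), hVy _ (inv_mem hv)]; group
    rw [h1, conj_pow, hxy]; group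
  have hSS : ∀ g ∈ S, ∀ g' ∈ S, g ≠ g' → (g * g') ^ 2 = 1 := by
    intro g hg g' hg' hne
    obtain ⟨v, hv, rfl⟩ := (hS g).mp hg
    obtain ⟨v', hv', rfl⟩ := (hS g').mp hg'
    have h1 := hxv (v⁻¹ * v') (mul_mem (inv_mem hv) hv') (fun h2 => hne (by
      rw [inv_mul_eq_one.mp h2]))
    rw [show v * x * v⁻¹ * (v' * x * v'⁻¹) = v * (x * (v⁻¹ * v' * x * (v⁻¹ * v')⁻¹)) * v⁻¹ by
      group, conj_pow, h1]
    group
  have h4 := two_mul_card_closure_le S hS3 hSS
  have h5 := card_closure_insert_le S y hS3 hy3 hSy hSS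
  have h6 : closure (S : Set G) ≠ ⊤ := ne_top_of_card (by
    have := Nat.factorial_le (show S.card + 2 ≤ 6 by omega)
    rw [show Nat.factorial 6 = 720 from rfl] at this
    omega)
  have h7 := card_le h hi h6
  set H := closure (insert y (S : Set G)) with hH
  have hyH : y ∈ H := subset_closure (Set.mem_insert _ _)
  have hSH : ∀ v ∈ V, v * x * v⁻¹ ∈ H := fun v hv =>
    subset_closure (Set.mem_insert_of_mem _ ((hS _).mpr ⟨v, hv, rfl⟩))
  have hxH : x ∈ H := by simpa using hSH 1 V.one_mem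
  have hN : ∀ g : G, (g * y * g⁻¹ = y ∨ g * y * g⁻¹ = y⁻¹) →
      (∀ v ∈ V, g * (v * x * v⁻¹) * g⁻¹ ∈ H) → g ∈ normalizer (H : Set G) := by
    intro g h1 h2
    apply mem_normalizer_closure
    rintro q (rfl | hq)
    · rcases h1 with h1 | h1 <;> rw [h1]
      exacts [hyH, inv_mem hyH]
    · obtain ⟨v, hv, rfl⟩ := (hS q).mp hq
      exact h2 v hv
  refine normalizer_ne_top (H := H) (fun h8 => hy1 (by rwa [h8, mem_bot] at hyH))
    (ne_top_of_card (by nlinarith)) ?_
  refine normalizer_eq_top h hi (s := s) (x := x) hy ?_ (hN s (Or.inr hsy) (fun v hv => ?_)) hsy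
    (le_normalizer hxH) (fun h8 => ?_)
  · have h8 : V ≤ normalizer (H : Set G) ⊓ centralizer ({y} : Set G) := fun v hv =>
      ⟨hN v (Or.inl (by rw [hVy v hv, mul_inv_cancel_right])) (fun v' hv' => by
        rw [show v * (v' * x * v'⁻¹) * v⁻¹ = (v * v') * x * (v * v')⁻¹ by group]
        exact hSH _ (mul_mem hv hv')), ((hV v).mp hv).1⟩
    have h9 : (Q : Subgroup G) ≤ normalizer (H : Set G) ⊓ centralizer ({y} : Set G) :=
      le_inf (le_of_mem h Q hyQ hy haQ hay (le_normalizer hyH)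
        (hN a (Or.inl (by rw [← hya, mul_inv_cancel_right])) (fun v hv => by
          rw [show a * (v * x * v⁻¹) * a⁻¹ = (a * v * a⁻¹) * (a * x * a⁻¹) * (a * v * a⁻¹)⁻¹ by
            group, hxa]
          exact hSH _ (haV v hv)))) (le_centralizer3 h Q hyQ)
    have h10 := card_dvd_of_le h8
    have h11 := card_dvd_of_le h9
    rw [hV4] at h10
    rw [card3 h] at h11
    omega
  · have h8 : s * x * s⁻¹ = x⁻¹ := by
      rw [hx, hu']
      calc s * (u * y⁻¹ * u) * s⁻¹ = (s * u * s⁻¹) * (s * y * s⁻¹)⁻¹ * (s * u * s⁻¹) := by group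
        _ = _ := by rw [hsu, hsy, mul_inv_cancel_right, mul_inv_rev, mul_inv_rev, hu', mul_assoc]
    rw [show s * (v * x * v⁻¹) * s⁻¹ = (s * v * s⁻¹) * (s * x * s⁻¹) * (s * v * s⁻¹)⁻¹ by group,
      h8, show s * v * s⁻¹ * x⁻¹ * (s * v * s⁻¹)⁻¹ = (s * v * s⁻¹ * x * (s * v * s⁻¹)⁻¹)⁻¹ by group]
    exact inv_mem (hSH _ (hsV v hv))
  · rcases mem_zpowers_three hy h8 with h9 | h9 | h9
    · exact hy1 (by rw [show y = x⁻¹ * (x * y * x⁻¹) * x by group, h9]; group)
    · have h10 : Commute x y := mul_inv_eq_iff_eq_mul.mp h9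
      have h11 : x * y = 1 := by
        have h12 : (x * y) ^ 3 = 1 := by rw [h10.mul_pow, hx3, hy3, mul_one]
        rwa [pow_succ, hxy, one_mul] at h12
      refine hay (mem_zpowers_of_comm h hi Q hyQ hy haQ hu2 ?_ hua)
      rw [hx] at h11
      calc y * u = u * y * u⁻¹ * (u * y⁻¹ * u⁻¹ * y) * u := by group
        _ = u * y := by rw [h11]; group
    · apply hyy
      have h10 : x * y⁻¹ * x⁻¹ = y := by
        rw [show x * y⁻¹ * x⁻¹ = (x * y * x⁻¹)⁻¹ by group, h9, inv_inv]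
      calc y = x ^ 3 * y * (x ^ 3)⁻¹ := by rw [hx3]; group
        _ = x * (x * (x * y * x⁻¹) * x⁻¹) * x⁻¹ := by rw [pow_three]; group
        _ = y⁻¹ := by rw [h9, h10, h9]

end CL.O2520
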