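import Cfsg.Agent.Base
import Cfsg.Agent.Char.Burnside
import Cfsg.Agent.Char.ProjRep
import Cfsg.Agent.Char.Linear
import Cfsg.Agent.Char.Galois
import Cfsg.Agent.Char.InduceMore
import Cfsg.Agent.D1.Setup
import Cfsg.Agent.D1.Fourier

/-! General character-theoretic lemmas: multiplicities of linear characters in restrictions,
determinants for perfect groups, sums of degrees of constituents. -/

set_option autoImplicit false

open Cfsg CL.Char CL.D1 Subgroup
open scoped ComplexConjugate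

namespace CL.BT

variable {G : Type*} [Group G]

/-- The multiplicity of a linear character in a pulled-back character. -/
theorem char_sum_hom_nat {H : Type*} [Group H] [Fintype H] (f : H →* G) (lam : H →* ℂ)
    {ψ : G → ℂ} (hψ : IsCharacter G ψ) :
    ∃ m : ℕ, ∑ h, lam h * ψ (f h) = Nat.card H * m := by
  obtain ⟨m, hm⟩ := char_inner_nat (char_mul (irr_isCharacter (irr_monoidHom lam))
    (char_comp hψ f)) char_one
  refine ⟨m, ?_⟩
  rw [← hm, classInner_one_right, ← mul_assoc, mul_inv_cancel₀ card_ne_zero, one_mul]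
  rfl

/-- If a linear character does not occur in the restriction, the corresponding projection
vanishes. -/
theorem char_sum_hom_mul_eq_zero {H : Type*} [Group H] [Fintype H] (f : H →* G) (lam : H →* ℂ)
    {ψ : G → ℂ} (hψ : IsCharacter G ψ) (h0 : ∑ h, lam h * ψ (f h) = 0) (y : G) :
    ∑ h, lam h * ψ (f h * y) = 0 := by
  obtain ⟨n, ρ, rfl⟩ := hψ
  set S : Module.End ℂ (Fin n → ℂ) := ∑ h, lam h • ρ (f h) with hS
  have h1 : ∀ k : H, (lam k • ρ (f k)) * S = S := by
    intro k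
    rw [hS, Finset.mul_sum]
    refine Fintype.sum_equiv (Equiv.mulLeft k) _ _ fun h => ?_
    simp only [Equiv.coe_mulLeft, map_mul, smul_mul_smul_comm]
  have h2 : S * S = (Nat.card H : ℂ) • S := by
    nth_rewrite 1 [hS]
    rw [Finset.sum_mul, Finset.sum_congr rfl fun k _ => h1 k, Finset.sum_const, Finset.card_univ,
      Nat.card_eq_fintype_card, Nat.cast_smul_eq_nsmul]
  have hc : (Nat.card H : ℂ) ≠ 0 := card_ne_zero
  have h3 : IsIdempotentElem ((Nat.card H : ℂ)⁻¹ • S) := by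
    rw [IsIdempotentElem, smul_mul_smul_comm, h2, smul_smul, mul_assoc, inv_mul_cancel₀ hc,
      mul_one]
  have h4 : ∀ T : Module.End ℂ (Fin n → ℂ), LinearMap.trace ℂ _ (S * T) =
      ∑ h, lam h * LinearMap.trace ℂ _ (ρ (f h) * T) := by
    intro T
    rw [hS, Finset.sum_mul, map_sum]
    simp only [smul_mul_assoc, map_smul, smul_eq_mul]
  have h5 := LinearMap.IsIdempotentElem.eq_zero_of_trace_eq_zero h3 (by
    have := h4 1
    simp only [mul_one] at this
    rw [map_smul, this]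
    exact smul_eq_zero_of_right _ h0)
  have h6 : S = 0 := (smul_eq_zero.mp h5).resolve_left (inv_ne_zero hc)
  have h7 := h4 (ρ y)
  rw [h6, zero_mul, map_zero] at h7
  simp only [Representation.character, map_mul]
  exact h7.symm

theorem char_sum_subgroup_nat (S : Subgroup G) [Fintype S] {ψ : G → ℂ} (hψ : IsCharacter G ψ) :
    ∃ m : ℕ, ∑ s : S, ψ s = Nat.card S * m := by
  simpa using char_sum_hom_nat S.subtype 1 hψ

/-- No fixed vectors for a subgroup means no fixed vectors for an overgroup. -/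
theorem char_sum_eq_zero_of_hom {H : Type*} [Group H] [Fintype H] (f : H →* G) {ψ : G → ℂ}
    (hψ : IsCharacter G ψ) (h0 : ∑ h, ψ (f h) = 0) (N : Subgroup G) [Fintype N]
    (hN : ∀ h, f h ∈ N) : ∑ g : N, ψ g = 0 := by
  have h1 : ∀ y, ∑ h, ψ (f h * y) = 0 := fun y => by
    simpa using char_sum_hom_mul_eq_zero f 1 hψ (by simpa using h0) y
  have h2 : ∑ h : H, ∑ g : N, ψ (f h * g) = 0 := by
    rw [Finset.sum_comm]
    exact Finset.sum_eq_zero fun g _ => h1 g
  have h3 : ∀ h : H, ∑ g : N, ψ (f h * g) = ∑ g : N, ψ g := fun h =>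
    Fintype.sum_equiv (Equiv.mulLeft (⟨f h, hN h⟩ : N)) _ _ fun g => rfl
  rw [Finset.sum_congr rfl fun h _ => h3 h, Finset.sum_const, Finset.card_univ,
    nsmul_eq_mul, ← Nat.card_eq_fintype_card] at h2
  exact (mul_eq_zero.mp h2).resolve_left card_ne_zero

/-- The distinct constituents of a character have total degree at most its degree. -/
theorem sum_deg_le_of_inner_ne_zero [Fintype G] {ψ : G → ℂ} (hψ : IsCharacter G ψ)
    (S : Finset (IrrCharacter G)) (h : ∀ χ ∈ S, classInner ψ χ ≠ 0) :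
    ∑ χ ∈ S, deg (χ : G → ℂ) ≤ deg ψ := by
  obtain ⟨c, hc, hsum⟩ := char_exists_eq_sum hψ
  have h1 : deg ψ = ∑ χ, c χ * deg (χ : G → ℂ) := by
    refine deg_eq_of_apply_one ?_
    rw [hsum]
    simp only [Finset.sum_apply, Pi.smul_apply, smul_eq_mul, Nat.cast_sum, Nat.cast_mul,
      fun χ : IrrCharacter G => irr_cast_deg χ.2]
  rw [h1]
  refine le_trans (Finset.sum_le_sum fun χ hχ => ?_)
    (Finset.sum_le_sum_of_subset (Finset.subset_univ S))
  refine Nat.le_mul_of_pos_left _ (Nat.pos_of_ne_zero fun h0 => h χ hχ ?_)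
  rw [hc, h0, Nat.cast_zero]

theorem irr_eq_irrOne_of_deg (hperf : _root_.commutator G = ⊤) {χ : IrrCharacter G}
    (h : deg (χ : G → ℂ) = 1) : χ = irrOne G := by
  obtain ⟨lam, hlam⟩ := exists_linear_of_isIrrCharacter χ.2 (by
    rw [← irr_cast_deg χ.2, h, Nat.cast_one])
  refine Subtype.ext (funext fun g => ?_)
  have : lam g = 1 := commutator_le_ker_linear lam (hperf ▸ mem_top g)
  rw [hlam, irrOne_apply]
  simp [this]

theorem deg_irrOne : deg (irrOne G : G → ℂ) = 1 :=
  deg_eq_of_apply_one (by rw [irrOne_apply, Nat.cast_one])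

/-- In a perfect group the eigenvalues of an element have product one. -/
theorem char_exists_eigen_of_perfect [Finite G] (hperf : _root_.commutator G = ⊤) {ψ : G → ℂ}
    (hψ : IsCharacter G ψ) (g : G) : ∃ l : Fin (deg ψ) → ℂ, (∀ i, l i ^ orderOf g = 1) ∧
      (∀ k : ℕ, ψ (g ^ k) = ∑ i, l i ^ k) ∧ ∏ i, l i = 1 := by
  obtain ⟨n, ρ, rfl⟩ := hψ
  rw [deg_character]
  obtain ⟨b, l, hl, hb⟩ := exists_eigenbasis_complex ρ g
  refine ⟨l, hl, fun k => ?_, ?_⟩
  · exact trace_eq_sum_of_eigenbasis _ b _ fun i => rep_pow_apply_of_eigen ρ (hb i) k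
  · rw [← det_eq_prod_of_eigenbasis _ b l hb, ← coe_repDet]
    have : repDet ρ g = 1 := commutator_le_ker_linear _ (hperf ▸ mem_top g)
    rw [this, Units.val_one]

/-- In a perfect group, `ψ c ≡ ψ 1 (mod 4)` for an involution `c`. -/
theorem char_invol_of_perfect [Finite G] (hperf : _root_.commutator G = ⊤) {ψ : G → ℂ}
    (hψ : IsCharacter G ψ) {c : G} (hc : c * c = 1) :
    ∃ k : ℕ, ψ c + 4 * k = deg ψ := by
  classical
  obtain ⟨l, h1, h2, h3⟩ := char_exists_eigen_of_perfect hperf hψ c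
  have h4 : ∀ i, l i = 1 ∨ l i = -1 := fun i => by
    obtain ⟨m, hm⟩ : orderOf c ∣ 2 := orderOf_dvd_of_pow_eq_one (by rw [pow_two, hc])
    exact sq_eq_one_iff.mp (by rw [hm, pow_mul, h1, one_pow])
  let s := Finset.univ.filter fun i => l i = -1
  have h5 : ∏ i, l i = (-1) ^ s.card := by
    rw [← Finset.prod_const, Finset.prod_filter]
    refine Finset.prod_congr rfl fun i _ => ?_
    rcases h4 i with h | h <;> rw [h] <;> norm_num
  have h6 : ∑ i, l i + 2 * s.card = deg ψ := by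
    rw [Finset.card_filter, Nat.cast_sum, Finset.mul_sum, ← Finset.sum_add_distrib,
      Finset.sum_congr rfl (g := fun _ => (1 : ℂ)) fun i _ => by
        rcases h4 i with h | h <;> rw [h] <;> norm_num]
    simp
  have h7 : Even s.card := by
    by_contra h8
    rw [h3, (Nat.not_even_iff_odd.mp h8).neg_one_pow] at h5
    norm_num at h5
  obtain ⟨k, hk⟩ := h7
  refine ⟨k, ?_⟩
  have h8 := h2 1
  simp only [pow_one] at h8
  rw [← h6, hk, h8]
  push_cast
  ring

theorem irr_isIntegral_index [Finite G] {χ : G → ℂ} (hχ : IsIrrCharacter G χ) (g : G) :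
    IsIntegral ℤ (((centralizer ({g} : Set G)).index : ℂ) * χ g / deg χ) := by
  obtain ⟨n, ρ, hρ, rfl⟩ := hχ
  rw [deg_character]
  exact isIntegral_index_mul_character_div ρ g

section cyclic

variable {p : ℕ} [hp : Fact p.Prime] {z : G}

/-- The embedding of `ℤ/p` given by an element of order `p`. -/
def zpHom (hz : orderOf z = p) : Multiplicative (ZMod p) →* G :=
  MonoidHom.mk' (fun a => zp z a.toAdd) fun _ _ => zp_add hz _ _

/-- The linear characters of `ℤ/p`. -/
noncomputable def eeHom (b : ZMod p) : Multiplicative (ZMod p) →* ℂ where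
  toFun a := ee (b * a.toAdd)
  map_one' := by rw [toAdd_one, mul_zero, ee_zero]
  map_mul' x y := by rw [toAdd_mul, mul_add, ee_add]

theorem sum_multiplicative_zmod (f : Multiplicative (ZMod p) → ℂ) :
    ∑ a, f a = ∑ a : ZMod p, f (Multiplicative.ofAdd a) :=
  (Fintype.sum_equiv Multiplicative.ofAdd _ _ fun _ => rfl).symm

theorem char_sum_zp_nat (hz : orderOf z = p) {ψ : G → ℂ} (hψ : IsCharacter G ψ) (b : ZMod p) :
    ∃ m : ℕ, ∑ a : ZMod p, ee (b * a) * ψ (zp z a) = p * m := by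
  obtain ⟨m, hm⟩ := char_sum_hom_nat (zpHom hz) (eeHom b) hψ
  refine ⟨m, ?_⟩
  rw [Nat.card_eq_fintype_card, Fintype.card_multiplicative, ZMod.card,
    sum_multiplicative_zmod] at hm
  exact hm

theorem char_sum_zp_mul_eq_zero (hz : orderOf z = p) {ψ : G → ℂ} (hψ : IsCharacter G ψ)
    {b : ZMod p} (h0 : ∑ a : ZMod p, ee (b * a) * ψ (zp z a) = 0) (y : G) :
    ∑ a : ZMod p, ee (b * a) * ψ (zp z a * y) = 0 := by
  have := char_sum_hom_mul_eq_zero (zpHom hz) (eeHom b) hψ
    (by rw [sum_multiplicative_zmod]; exact h0) y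
  rw [sum_multiplicative_zmod] at this
  exact this

/-- A character of degree less than `p` misses a linear character of `⟨z⟩`. -/
theorem exists_sum_zp_eq_zero (hz : orderOf z = p) {ψ : G → ℂ} (hψ : IsCharacter G ψ)
    (hdeg : deg ψ < p) : ∃ b : ZMod p, ∑ a : ZMod p, ee (b * a) * ψ (zp z a) = 0 := by
  choose m hm using char_sum_zp_nat hz hψ
  by_contra hne
  push Not at hne
  have h1 : ∑ b : ZMod p, ∑ a : ZMod p, ee (b * a) * ψ (zp z a) = p * deg ψ := by
    rw [Finset.sum_comm]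
    simp only [← Finset.sum_mul, sum_ee_mul, ite_mul, zero_mul, Finset.sum_ite_eq',
      Finset.mem_univ, if_true, zp_zero, char_cast_deg hψ]
  rw [Finset.sum_congr rfl fun b _ => hm b, ← Finset.mul_sum, mul_right_inj' cast_p_ne_zero,
    ← Nat.cast_sum, Nat.cast_inj] at h1
  have h2 : ∑ _b : ZMod p, 1 ≤ ∑ b, m b := Finset.sum_le_sum fun b _ =>
    Nat.pos_of_ne_zero fun h0 => hne b (by rw [hm, h0, Nat.cast_zero, mul_zero])
  rw [Finset.sum_const, Finset.card_univ, ZMod.card, smul_eq_mul, mul_one] at h2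
  omega

theorem apply_eq_of_sum_zp_eq_zero (hz : orderOf z = p) {ψ : G → ℂ} (hψ : IsCharacter G ψ)
    {b : ZMod p} (h0 : ∑ a : ZMod p, ee (b * a) * ψ (zp z a) = 0) {y : G}
    (hy : ∀ a : (ZMod p)ˣ, ψ (zp z (a : ZMod p) * y) = ψ (zp z (a : ZMod p))) : ψ y = ψ 1 := by
  have h1 := char_sum_zp_mul_eq_zero hz hψ h0 y
  rw [sum_eq_add_sum_units] at h0 h1
  simp only [mul_zero, ee_zero, zp_zero, one_mul, hy] at h0 h1
  linear_combination h1 - h0

/-- `∑_{a ≠ 0} ψ (z ^ a)` -/
noncomputable def uu (p : ℕ) [Fact p.Prime] (z : G) (ψ : G → ℂ) : ℂ :=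
  ∑ a : (ZMod p)ˣ, ψ (zp z (a : ZMod p))

theorem char_deg_add_uu (hz : orderOf z = p) {ψ : G → ℂ} (hψ : IsCharacter G ψ) :
    ∃ m : ℕ, deg ψ + uu p z ψ = p * m := by
  obtain ⟨m, hm⟩ := char_sum_zp_nat hz hψ 0
  refine ⟨m, ?_⟩
  rw [← hm, sum_eq_add_sum_units, char_cast_deg hψ]
  simp only [zero_mul, ee_zero, one_mul, zp_zero, uu]

theorem uu_sum {ι : Type*} (s : Finset ι) (c : ι → ℂ) (φ : ι → G → ℂ) :
    uu p z (∑ i ∈ s, c i • φ i) = ∑ i ∈ s, c i * uu p z (φ i) := by
  simp only [uu, Finset.sum_apply, Pi.smul_apply, smul_eq_mul, Finset.mul_sum]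
  exact Finset.sum_comm

theorem card_units_cast : (Fintype.card (ZMod p)ˣ : ℂ) = p - 1 := by
  rw [ZMod.card_units, Nat.cast_pred hp.out.pos]

theorem sum_eq_zero_of_deg_add_uu (hz : orderOf z = p) {ψ : G → ℂ} (hψ : IsCharacter G ψ)
    (h0 : deg ψ + uu p z ψ = 0) (N : Subgroup G) [Fintype N] (hN : z ∈ N) :
    ∑ g : N, ψ g = 0 := by
  refine char_sum_eq_zero_of_hom (zpHom hz) hψ ?_ N fun a => pow_mem hN _
  rw [← h0, char_cast_deg hψ, uu, ← zp_zero (z := z) (p := p),
    ← sum_eq_add_sum_units fun a => ψ (zp z a), sum_multiplicative_zmod]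
  rfl

theorem sum_eta_mul_neg (H : Subgroup (ZMod p)ˣ) (a : (ZMod p)ˣ) :
    ∑ j : (ZMod p)ˣ, eta H (a * j) * eta H (-(a * j)) = Nat.card H * (p - Nat.card H) := by
  classical
  have h1 : ∑ j : ZMod p, eta H (a * j) * eta H (-(a * j)) = Nat.card H * p := by
    simp only [eta_eq, Finset.sum_mul_sum, ← ee_add]
    rw [Finset.sum_comm, Finset.sum_congr rfl (g := fun _ => (p : ℂ)) fun h _ => ?_]
    · simp
    rw [Finset.sum_comm, Finset.sum_eq_single h]
    · simp
    · intro k _ hk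
      have h2 : ∀ j : ZMod p, ((h : (ZMod p)ˣ) : ZMod p) * (a * j) + (k : (ZMod p)ˣ) * -(a * j) =
        ((((h : (ZMod p)ˣ) : ZMod p) - (k : (ZMod p)ˣ)) * a) * j := fun j => by ring
      simp only [h2, sum_ee_mul']
      rw [if_neg]
      refine mul_ne_zero (sub_ne_zero.mpr fun h3 => hk ?_) a.ne_zero
      exact Subtype.ext (Units.ext h3.symm)
    · simp
  rw [sum_eq_add_sum_units] at h1
  simp only [mul_zero, neg_zero, eta_zero] at h1
  linear_combination h1

theorem mem_of_pow_card_eq_one (H : Subgroup (ZMod p)ˣ) {x : (ZMod p)ˣ}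
    (hx : x ^ Nat.card H = 1) : x ∈ H := by
  classical
  have h1 : (Finset.univ.filter fun y : (ZMod p)ˣ => y ∈ H) =
      Finset.univ.filter fun y : (ZMod p)ˣ => y ^ Nat.card H = 1 := by
    refine Finset.eq_of_subset_of_card_le (fun y hy => ?_) ?_
    · simp only [Finset.mem_filter, Finset.mem_univ, true_and] at hy ⊢
      exact congrArg Subtype.val (pow_card_eq_one' (x := (⟨y, hy⟩ : H)))
    · refine (IsCyclic.card_pow_eq_one_le Nat.card_pos).trans (le_of_eq ?_)
      rw [Nat.card_eq_fintype_card, Fintype.card_subtype]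
  have h2 : x ∈ Finset.univ.filter fun y : (ZMod p)ˣ => y ∈ H := by
    rw [h1]
    simpa using hx
  simpa using h2

/-- Galois conjugation of Gaussian periods. -/
theorem eta_mul_eq_of_eq (H : Subgroup (ZMod p)ˣ) {a b : ZMod p} (h : eta H a = eta H b)
    (j : (ZMod p)ˣ) : eta H (a * j) = eta H (b * j) := by
  classical
  obtain ⟨τ, hτ⟩ := exists_ringEquiv_pow (n := p) (k := (j : ZMod p).val) hp.out.ne_zero
    (ZMod.val_coe_unit_coprime j)
  have h1 : ∀ x : ZMod p, τ (eta H x) = eta H (x * j) := fun x => by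
    simp only [eta_eq, map_sum]
    refine Finset.sum_congr rfl fun k _ => ?_
    rw [hτ _ (ee_pow_p _), ← AddChar.map_nsmul_eq_pow, nsmul_eq_mul, ZMod.natCast_zmod_val]
    congr 1
    ring
  rw [← h1, ← h1, h]

end cyclic

end CL.BT
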