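import Cfsg.Agent.Base
import Cfsg.Agent.Small.BTChar
import Cfsg.Agent.D1.Defs

/-! Degrees in the principal block of a group with a Sylow subgroup of prime order. -/

set_option autoImplicit false

open Cfsg CL.Char CL.D1 Subgroup
open scoped ComplexConjugate

namespace CL.BT

variable {G : Type*} [Group G] [Finite G] {p : ℕ} [hp : Fact p.Prime] {z : G} (D : Data G p z)

open Classical in
/-- The set of exceptional characters. -/
noncomputable def Th : Finset (IrrCharacter G) := Finset.univ.image D.θ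

theorem mem_Th {χ : IrrCharacter G} : χ ∈ Th D ↔ ∃ a, D.θ a = χ := by simp [Th]

theorem θ_mem_Th (a : (ZMod p)ˣ) : D.θ a ∈ Th D := (mem_Th D).mpr ⟨a, rfl⟩

theorem sum_θ {M : Type*} [AddCommMonoid M] (f : IrrCharacter G → M) :
    ∑ a, f (D.θ a) = Nat.card D.H • ∑ χ ∈ Th D, f χ := by
  classical
  rw [Finset.sum_comp f D.θ, Finset.smul_sum]
  refine Finset.sum_congr (by ext; simp [Th]) fun χ hχ => ?_
  obtain ⟨a, rfl⟩ := (mem_Th D).mp hχ
  congr 1
  rw [Nat.card_eq_fintype_card, Fintype.card_subtype]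
  refine Finset.card_bij (fun b _ => a⁻¹ * b) (fun b hb => ?_) (fun b _ c _ h => by simpa using h)
    (fun h hh => ⟨a * h, ?_, by simp⟩)
  · simp only [Finset.mem_filter, Finset.mem_univ, true_and] at hb ⊢
    exact (D.θ_eq_iff a b).mp hb.symm
  · simp only [Finset.mem_filter, Finset.mem_univ, true_and] at hh ⊢
    exact ((D.θ_eq_iff a _).mpr (by simpa using hh)).symm

theorem card_H_pos : 0 < Nat.card D.H := Nat.card_pos

theorem card_Th : (Th D).card = D.H.index := by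
  have h1 := sum_θ D (fun _ => 1 : IrrCharacter G → ℕ)
  simp only [Finset.sum_const, Finset.card_univ, smul_eq_mul, mul_one, ZMod.card_units] at h1
  exact Nat.eq_of_mul_eq_mul_left (card_H_pos D) (h1.symm.trans (D1.card_mul_index D.H).symm)

theorem card_mul_index_add_one : Nat.card D.H * D.H.index + 1 = p := by
  have := D1.card_mul_index D.H
  have := hp.out.pos
  omega

theorem disjoint_A_Th : Disjoint D.A (Th D) := Finset.disjoint_right.mpr fun χ hχ => by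
  obtain ⟨a, rfl⟩ := (mem_Th D).mp hχ
  exact D.θ_notMem a

open Classical in
/-- The characters outside the principal block. -/
noncomputable def Oth : Finset (IrrCharacter G) := Finset.univ \ (D.A ∪ Th D)

theorem mem_Oth {χ : IrrCharacter G} : χ ∈ Oth D ↔ χ ∉ D.A ∧ ∀ a, χ ≠ D.θ a := by
  simp [Oth, mem_Th, eq_comm]

theorem sum_split {M : Type*} [AddCommMonoid M] (f : IrrCharacter G → M) :
    ∑ χ, f χ = ∑ χ ∈ D.A, f χ + ∑ χ ∈ Th D, f χ + ∑ χ ∈ Oth D, f χ := by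
  classical
  rw [← Finset.sum_union (disjoint_A_Th D), add_comm, Oth]
  convert (Finset.sum_sdiff (Finset.subset_univ (D.A ∪ Th D))).symm

theorem θ_ne_one (a : (ZMod p)ˣ) : D.θ a ≠ irrOne G := fun h => D.θ_notMem a (h ▸ D.one_mem_A)

theorem θ_zp_mul (b : (ZMod p)ˣ) {a : ZMod p} (ha : a ≠ 0) {y : G} (hy : y ∈ D.K) :
    (D.θ b : G → ℂ) (zp z a * y) = -D.ε * eta D.H (b * a) := by
  have := D.apply_θ b a.val (not_dvd_val ha) y hy
  rwa [ZMod.natCast_zmod_val] at this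

theorem θ_zp (b : (ZMod p)ˣ) {a : ZMod p} (ha : a ≠ 0) :
    (D.θ b : G → ℂ) (zp z a) = -D.ε * eta D.H (b * a) := by
  rw [← θ_zp_mul D b ha (one_mem _), mul_one]

theorem A_zp_mul (hz : orderOf z = p) {χ : IrrCharacter G} (hχ : χ ∈ D.A) {a : ZMod p}
    (ha : a ≠ 0) {y : G} (hy : y ∈ D.K) : (χ : G → ℂ) (zp z a * y) = D.δ χ :=
  D.apply_A χ hχ _ (dvd_orderOf_zp_mul hz ha ((D.mem_K y).mp hy).1 ((D.mem_K y).mp hy).2)

theorem A_zp (hz : orderOf z = p) {χ : IrrCharacter G} (hχ : χ ∈ D.A) {a : ZMod p}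
    (ha : a ≠ 0) : (χ : G → ℂ) (zp z a) = D.δ χ := by
  rw [← A_zp_mul D hz hχ ha (one_mem _), mul_one]

theorem Oth_zp (hK : D.K = ⊥) {χ : IrrCharacter G} (hχ : χ ∈ Oth D) {a : ZMod p} (ha : a ≠ 0) :
    (χ : G → ℂ) (zp z a) = 0 := by
  have h := D.other χ ((mem_Oth D).mp hχ).1 ((mem_Oth D).mp hχ).2 a.val (not_dvd_val ha)
  have : Unique D.K := hK ▸ inferInstance
  rw [finsum_unique, Subsingleton.elim (default : D.K) 1, coe_one, mul_one] at h
  exact h

theorem uu_A (hz : orderOf z = p) {χ : IrrCharacter G} (hχ : χ ∈ D.A) :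
    uu p z χ = D.δ χ * (p - 1) := by
  rw [uu, Finset.sum_congr rfl fun a _ => A_zp D hz hχ a.ne_zero, Finset.sum_const,
    Finset.card_univ, nsmul_eq_mul, card_units_cast, mul_comm]

theorem uu_θ (b : (ZMod p)ˣ) : uu p z (D.θ b) = D.ε * Nat.card D.H := by
  rw [uu, Finset.sum_congr rfl fun a _ => θ_zp D b a.ne_zero, ← Finset.mul_sum]
  simp only [mul_comm (b : ZMod p), sum_units_eta D.H b.ne_zero]
  ring

theorem uu_Oth (hK : D.K = ⊥) {χ : IrrCharacter G} (hχ : χ ∈ Oth D) : uu p z χ = 0 :=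
  Finset.sum_eq_zero fun a _ => Oth_zp D hK hχ a.ne_zero

theorem deg_A (hz : orderOf z = p) {χ : IrrCharacter G} (hχ : χ ∈ D.A) :
    ∃ m : ℕ, (deg (χ : G → ℂ) : ℤ) + D.δ χ * (p - 1) = p * m := by
  obtain ⟨m, hm⟩ := char_deg_add_uu hz (irr_isCharacter χ.2)
  rw [uu_A D hz hχ] at hm
  exact ⟨m, by exact_mod_cast hm⟩

theorem deg_θ (hz : orderOf z = p) (b : (ZMod p)ˣ) :
    ∃ m : ℕ, (deg (D.θ b : G → ℂ) : ℤ) + D.ε * Nat.card D.H = p * m := by
  obtain ⟨m, hm⟩ := char_deg_add_uu hz (irr_isCharacter (D.θ b).2)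
  rw [uu_θ D] at hm
  exact ⟨m, by exact_mod_cast hm⟩

theorem deg_Oth (hz : orderOf z = p) (hK : D.K = ⊥) {χ : IrrCharacter G} (hχ : χ ∈ Oth D) :
    p ∣ deg (χ : G → ℂ) := by
  obtain ⟨m, hm⟩ := char_deg_add_uu hz (irr_isCharacter χ.2)
  rw [uu_Oth D hK hχ, add_zero] at hm
  exact ⟨m, by exact_mod_cast hm⟩

theorem ε_mul_self : D.ε * D.ε = 1 := by rcases D.ε_sign with h | h <;> rw [h] <;> norm_num

theorem ε_ne_zero : (D.ε : ℂ) ≠ 0 := by rcases D.ε_sign with h | h <;> rw [h] <;> norm_num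

theorem θ_eq_of_reg (a b : (ZMod p)ˣ) {g : G} (hg : ¬ p ∣ orderOf g) :
    (D.θ a : G → ℂ) g = (D.θ b : G → ℂ) g :=
  mul_left_cancel₀ (ε_ne_zero D) (by linear_combination D.rel a g hg - D.rel b g hg)

omit [Finite G] in
theorem not_dvd_orderOf_one : ¬ p ∣ orderOf (1 : G) := by
  rw [orderOf_one, Nat.dvd_one]
  exact hp.out.ne_one

theorem deg_θ_eq (a : (ZMod p)ˣ) : deg (D.θ a : G → ℂ) = deg (D.θ 1 : G → ℂ) :=
  deg_eq_of_apply_one (by rw [θ_eq_of_reg D a 1 not_dvd_orderOf_one, irr_cast_deg (D.θ 1).2])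

theorem degree_eq :
    ∑ χ ∈ D.A, D.δ χ * deg (χ : G → ℂ) + D.ε * deg (D.θ 1 : G → ℂ) = 0 := by
  have h := D.rel 1 1 not_dvd_orderOf_one
  simp only [← fun χ : IrrCharacter G => irr_cast_deg χ.2] at h
  exact_mod_cast h

theorem deg_A_dvd (hz : orderOf z = p) {χ : IrrCharacter G} (hχ : χ ∈ D.A) :
    deg (χ : G → ℂ) ∣ (centralizer ({z} : Set G)).index := by
  have h := irr_isIntegral_index χ.2 z
  rw [D.apply_A χ hχ z (hz ▸ dvd_rfl)] at h
  refine nat_dvd_of_isIntegral_div (irr_deg_pos χ.2).ne' ?_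
  rcases D.δ_sign χ hχ with h1 | h1 <;> rw [h1] at h
  · simpa using h
  · simpa [neg_div] using h.neg

theorem sum_Th_apply (hz : orderOf z = p) : ∑ χ ∈ Th D, (χ : G → ℂ) z = D.ε := by
  have h := sum_θ D fun χ => (χ : G → ℂ) z
  have h1 : ∀ a, (D.θ a : G → ℂ) z = -D.ε * eta D.H (a * 1) := fun a => by
    rw [← θ_zp D a one_ne_zero, zp_one hz]
  rw [Finset.sum_congr rfl fun a _ => h1 a, ← Finset.mul_sum, sum_units_eta D.H one_ne_zero,
    nsmul_eq_mul] at h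
  refine mul_left_cancel₀ (Nat.cast_ne_zero.mpr (card_H_pos D).ne') ?_
  linear_combination -h

theorem deg_θ_dvd (hz : orderOf z = p) :
    deg (D.θ 1 : G → ℂ) ∣ (centralizer ({z} : Set G)).index := by
  have h : IsIntegral ℤ (∑ χ ∈ Th D, ((centralizer ({z} : Set G)).index : ℂ) * (χ : G → ℂ) z /
      deg (D.θ 1 : G → ℂ)) := IsIntegral.sum _ fun χ hχ => by
    obtain ⟨a, rfl⟩ := (mem_Th D).mp hχ
    rw [← deg_θ_eq D a]
    exact irr_isIntegral_index (D.θ a).2 z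
  rw [← Finset.sum_div, ← Finset.mul_sum, sum_Th_apply D hz] at h
  refine nat_dvd_of_isIntegral_div (irr_deg_pos (D.θ 1).2).ne' ?_
  rcases D.ε_sign with h1 | h1 <;> rw [h1] at h
  · simpa using h
  · simpa [neg_div] using h.neg

theorem index_centralizer_eq (hz : orderOf z = p) (hP : ¬ p ^ 2 ∣ Nat.card G) :
    (centralizer ({z} : Set G)).index = Nat.card D.H * Nat.card (Sylow p G) := by
  obtain ⟨P, hPz⟩ := exists_sylow_eq hz hP
  rw [D.card_H, P.card_eq_index_normalizer, show (P : Set G) = zpowers z by rw [← hPz]; rfl,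
    relIndex_mul_index]
  intro g hg
  rw [mem_normalizer_zpowers_iff hz, (mem_centralizer_singleton_iff.mp hg), mul_inv_cancel_right]
  exact mem_zpowers z

theorem card_eq_mul (hz : orderOf z = p) (hP : ¬ p ^ 2 ∣ Nat.card G) :
    Nat.card G = Nat.card D.K * p * (Nat.card D.H * Nat.card (Sylow p G)) := by
  rw [D.card_K, ← index_centralizer_eq D hz hP, Subgroup.card_mul_index]

theorem sum_deg_sq_split : Nat.card G = ∑ χ ∈ D.A, deg (χ : G → ℂ) ^ 2 +
    D.H.index * deg (D.θ 1 : G → ℂ) ^ 2 + ∑ χ ∈ Oth D, deg (χ : G → ℂ) ^ 2 := by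
  rw [← sum_deg_sq, sum_split D, Finset.sum_congr (s₂ := Th D) rfl
    (g := fun _ => deg (D.θ 1 : G → ℂ) ^ 2) fun χ hχ => ?_, Finset.sum_const, card_Th,
    smul_eq_mul]
  obtain ⟨a, rfl⟩ := (mem_Th D).mp hχ
  rw [deg_θ_eq]

theorem two_le_card_H (hperf : _root_.commutator G = ⊤) : 2 ≤ Nat.card D.H := by
  by_contra h
  have h1 : D.A.card ≤ 1 := by rw [D.card_A]; omega
  have h2 : D.A = {irrOne G} := Finset.eq_singleton_iff_unique_mem.mpr
    ⟨D.one_mem_A, fun χ hχ => Finset.card_le_one.mp h1 _ hχ _ D.one_mem_A⟩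
  have h3 := degree_eq D
  rw [h2, Finset.sum_singleton, D.δ_one, deg_irrOne] at h3
  refine θ_ne_one D 1 (irr_eq_irrOne_of_deg hperf ?_)
  rcases D.ε_sign with h4 | h4 <;> rw [h4] at h3 <;> omega

theorem A_apply_K (hz : orderOf z = p) {χ : IrrCharacter G} (hχ : χ ∈ D.A)
    (hdeg : deg (χ : G → ℂ) < p) {y : G} (hy : y ∈ D.K) :
    (χ : G → ℂ) y = (χ : G → ℂ) 1 := by
  obtain ⟨b, hb⟩ := exists_sum_zp_eq_zero hz (irr_isCharacter χ.2) hdeg
  exact apply_eq_of_sum_zp_eq_zero hz (irr_isCharacter χ.2) hb fun a => by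
    rw [A_zp_mul D hz hχ a.ne_zero hy, A_zp D hz hχ a.ne_zero]

theorem θ_apply_K (hz : orderOf z = p) (hdeg : deg (D.θ 1 : G → ℂ) < p) {y : G} (hy : y ∈ D.K) :
    (D.θ 1 : G → ℂ) y = (D.θ 1 : G → ℂ) 1 := by
  obtain ⟨b, hb⟩ := exists_sum_zp_eq_zero hz (irr_isCharacter (D.θ 1).2) hdeg
  exact apply_eq_of_sum_zp_eq_zero hz (irr_isCharacter (D.θ 1).2) hb fun a => by
    rw [θ_zp_mul D 1 a.ne_zero hy, θ_zp D 1 a.ne_zero]

theorem eq_bot_of_apply_eq [IsSimpleGroup G] {χ : IrrCharacter G} (hχ : χ ≠ irrOne G)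
    {K : Subgroup G} (hK : ∀ y ∈ K, (χ : G → ℂ) y = (χ : G → ℂ) 1) : K = ⊥ := by
  rw [eq_bot_iff, ← irr_charKer_eq_bot_of_simple χ.2 fun h => hχ (Subtype.ext h)]
  exact fun y hy => (char_mem_charKer_iff (irr_isCharacter χ.2)).mpr (hK y hy)

theorem centralizer_eq_of_K (hz : orderOf z = p) (hK : D.K = ⊥) :
    centralizer ({z} : Set G) = zpowers z := by
  refine (eq_of_le_of_card_ge (zpowers_le.mpr (mem_centralizer_singleton_iff.mpr rfl)) ?_).symm
  rw [← D.card_K, hK, card_bot, one_mul, card_zpowers_eq hz]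

theorem K_eq_bot (hz : orderOf z = p) (hC : centralizer ({z} : Set G) = zpowers z) :
    D.K = ⊥ := by
  have h := D.card_K
  rw [hC, card_zpowers_eq hz] at h
  exact card_eq_one.mp (Nat.eq_of_mul_eq_mul_right hp.out.pos (h.trans (one_mul p).symm))

/-- Multiplicities of the non-exceptional characters in products of exceptional characters. -/
theorem inner_θ_mul [Fintype G] {a b : (ZMod p)ˣ} (hab : D.θ a ≠ D.θ b) {χ : IrrCharacter G}
    (hχ : χ ∈ D.A) :
    classInner ((D.θ a : G → ℂ) * fun g => conj ((D.θ a : G → ℂ) g)) χ =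
      classInner ((D.θ a : G → ℂ) * fun g => conj ((D.θ b : G → ℂ) g)) χ + D.δ χ := by
  classical
  have h1 : ((D.θ a : G → ℂ) - D.θ b) * χ = (D.δ χ : ℂ) • ((D.θ a : G → ℂ) - D.θ b) := by
    funext g
    by_cases hg : p ∣ orderOf g
    · simp only [Pi.mul_apply, Pi.smul_apply, D.apply_A χ hχ g hg, smul_eq_mul, mul_comm]
    · simp [θ_eq_of_reg D a b hg]
  have h2 : classInner (D.θ a : G → ℂ) (((D.θ a : G → ℂ) - D.θ b) * χ) = D.δ χ := by
    rw [h1, classInner_smul_right, classInner_sub_right, irrChar_inner, irrChar_inner, if_pos rfl,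
      if_neg hab]
    simp
  rw [sub_mul, classInner_sub_right, classInner_mul_right, classInner_mul_right] at h2
  rw [← h2]
  simp only [Pi.mul_def]
  ring

theorem sum_deg_sign_le (ht : 2 ≤ D.H.index) (s : ℤ) :
    ∑ χ ∈ D.A.filter fun χ => D.δ χ = s, deg (χ : G → ℂ) ≤ deg (D.θ 1 : G → ℂ) ^ 2 := by
  classical
  have := Fintype.ofFinite G
  obtain ⟨_, h1, _, h2, hab⟩ := Finset.one_lt_card.mp ((card_Th D).symm ▸ ht : 1 < (Th D).card)
  obtain ⟨a, rfl⟩ := (mem_Th D).mp h1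
  obtain ⟨b, rfl⟩ := (mem_Th D).mp h2
  have hc : ∀ c, IsCharacter G ((D.θ a : G → ℂ) * fun g => conj ((D.θ c : G → ℂ) g)) := fun c =>
    char_mul (irr_isCharacter (D.θ a).2) (char_conj (irr_isCharacter (D.θ c).2))
  have hd : ∀ c, deg ((D.θ a : G → ℂ) * fun g => conj ((D.θ c : G → ℂ) g)) =
      deg (D.θ 1 : G → ℂ) ^ 2 := fun c => deg_eq_of_apply_one (by
    rw [Pi.mul_apply, irr_conj_apply_one (D.θ c).2, ← irr_cast_deg (D.θ a).2,
      ← irr_cast_deg (D.θ c).2, deg_θ_eq, deg_θ_eq D c]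
    push_cast
    ring)
  by_cases hs : s = 1
  · rw [← hd a]
    refine sum_deg_le_of_inner_ne_zero (hc a) _ fun χ hχ => ?_
    obtain ⟨h3, h4⟩ := Finset.mem_filter.mp hχ
    obtain ⟨m, hm⟩ := char_inner_nat (hc b) (irr_isCharacter χ.2)
    rw [inner_θ_mul D hab h3, hm, h4, hs]
    exact_mod_cast Nat.succ_ne_zero m
  · rw [← hd b]
    refine sum_deg_le_of_inner_ne_zero (hc b) _ fun χ hχ h0 => ?_
    obtain ⟨h3, h4⟩ := Finset.mem_filter.mp hχ
    obtain ⟨m, hm⟩ := char_inner_nat (hc a) (irr_isCharacter χ.2)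
    rw [inner_θ_mul D hab h3, h0, (D.δ_sign χ h3).resolve_left (h4 ▸ hs)] at hm
    have h5 : ((0 + -1 : ℤ) : ℂ) = ((m : ℤ) : ℂ) := by push_cast at hm ⊢; rw [← hm, zero_add]
    have h6 := Int.cast_injective h5
    omega

open Classical in
/-- The non-principal non-exceptional characters of sign `+1`. -/
noncomputable def Ap : Finset (IrrCharacter G) :=
  (D.A.filter fun χ => D.δ χ = 1).erase (irrOne G)

/-- The non-exceptional characters of sign `-1`. -/
noncomputable def Am : Finset (IrrCharacter G) := D.A.filter fun χ => D.δ χ = -1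

theorem mem_Ap {χ : IrrCharacter G} : χ ∈ Ap D ↔ χ ∈ D.A ∧ D.δ χ = 1 ∧ χ ≠ irrOne G := by
  simp only [Ap, Finset.mem_erase, Finset.mem_filter]
  tauto

theorem mem_Am {χ : IrrCharacter G} : χ ∈ Am D ↔ χ ∈ D.A ∧ D.δ χ = -1 := Finset.mem_filter

theorem ne_one_of_mem_Am {χ : IrrCharacter G} (h : χ ∈ Am D) : χ ≠ irrOne G := fun h1 => by
  have := ((mem_Am D).mp h).2
  rw [h1, D.δ_one] at this
  omega

theorem sum_filter_one {M : Type*} [AddCommMonoid M] (f : IrrCharacter G → M) :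
    ∑ χ ∈ D.A.filter fun χ => D.δ χ = 1, f χ = f (irrOne G) + ∑ χ ∈ Ap D, f χ := by
  classical
  rw [Ap]
  convert (Finset.add_sum_erase (D.A.filter fun χ => D.δ χ = 1) f
    (Finset.mem_filter.mpr ⟨D.one_mem_A, D.δ_one⟩)).symm

theorem sum_A_split {M : Type*} [AddCommMonoid M] (f : IrrCharacter G → M) :
    ∑ χ ∈ D.A, f χ = f (irrOne G) + ∑ χ ∈ Ap D, f χ + ∑ χ ∈ Am D, f χ := by
  rw [← sum_filter_one, ← Finset.sum_filter_add_sum_filter_not D.A fun χ => D.δ χ = 1, Am]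
  congr 2
  refine Finset.filter_congr fun χ hχ => ?_
  rcases D.δ_sign χ hχ with h | h <;> rw [h] <;> norm_num

theorem card_H_eq : Nat.card D.H = 1 + (Ap D).card + (Am D).card := by
  have := sum_A_split D fun _ => 1
  simp only [Finset.sum_const, smul_eq_mul, mul_one] at this
  rw [← D.card_A, this]

theorem degree_eq' : 1 + (∑ χ ∈ Ap D, deg (χ : G → ℂ) : ℕ) + D.ε * deg (D.θ 1 : G → ℂ) =
    (∑ χ ∈ Am D, deg (χ : G → ℂ) : ℕ) := by
  have h := degree_eq D
  rw [sum_A_split, D.δ_one, deg_irrOne,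
    Finset.sum_congr (s₁ := Ap D) rfl (g := fun χ => (deg (χ : G → ℂ) : ℤ)) fun χ hχ => by
      rw [((mem_Ap D).mp hχ).2.1, one_mul],
    Finset.sum_congr (s₁ := Am D) rfl (g := fun χ => -(deg (χ : G → ℂ) : ℤ)) fun χ hχ => by
      rw [((mem_Am D).mp hχ).2, neg_one_mul], Finset.sum_neg_distrib] at h
  push_cast at h ⊢
  linear_combination h

theorem sum_Ap_le (ht : 2 ≤ D.H.index) :
    1 + ∑ χ ∈ Ap D, deg (χ : G → ℂ) ≤ deg (D.θ 1 : G → ℂ) ^ 2 := by
  have h := sum_deg_sign_le D ht 1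
  rwa [sum_filter_one, deg_irrOne] at h

theorem sum_Am_le (ht : 2 ≤ D.H.index) :
    ∑ χ ∈ Am D, deg (χ : G → ℂ) ≤ deg (D.θ 1 : G → ℂ) ^ 2 := sum_deg_sign_le D ht (-1)

theorem deg_Ap (hperf : _root_.commutator G = ⊤) (hz : orderOf z = p) {χ : IrrCharacter G}
    (hχ : χ ∈ Ap D) : ∃ u : ℕ, deg (χ : G → ℂ) = (u + 1) * p + 1 := by
  obtain ⟨h1, h2, h3⟩ := (mem_Ap D).mp hχ
  obtain ⟨m, hm⟩ := deg_A D hz h1
  rw [h2] at hm
  have h4 := irr_deg_pos χ.2
  have h5 : deg (χ : G → ℂ) ≠ 1 := fun h => h3 (irr_eq_irrOne_of_deg hperf h)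
  have h6 := hp.out.two_le
  obtain _ | _ | m := m
  · push_cast at hm; omega
  · push_cast at hm; omega
  · refine ⟨m, ?_⟩
    push_cast at hm
    zify
    linear_combination hm

theorem deg_Am (hz : orderOf z = p) {χ : IrrCharacter G} (hχ : χ ∈ Am D) :
    ∃ v : ℕ, deg (χ : G → ℂ) + 1 = (v + 1) * p := by
  obtain ⟨h1, h2⟩ := (mem_Am D).mp hχ
  obtain ⟨m, hm⟩ := deg_A D hz h1
  rw [h2] at hm
  refine ⟨m, ?_⟩
  zify
  linear_combination hm

theorem deg_θ_pos (hz : orderOf z = p) (h : D.ε = 1) :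
    ∃ s : ℕ, deg (D.θ 1 : G → ℂ) + Nat.card D.H = (s + 1) * p := by
  obtain ⟨m, hm⟩ := deg_θ D hz 1
  rw [h] at hm
  have h4 := irr_deg_pos (D.θ 1).2
  obtain _ | m := m
  · push_cast at hm; omega
  · refine ⟨m, ?_⟩
    push_cast at hm
    zify
    linear_combination hm

theorem deg_θ_neg (hz : orderOf z = p) (h : D.ε = -1) :
    ∃ s : ℕ, deg (D.θ 1 : G → ℂ) = s * p + Nat.card D.H := by
  obtain ⟨m, hm⟩ := deg_θ D hz 1
  rw [h] at hm
  refine ⟨m, ?_⟩
  zify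
  linear_combination hm

theorem deg_sq_le_card (χ : IrrCharacter G) : deg (χ : G → ℂ) ^ 2 ≤ Nat.card G := by
  rw [← sum_deg_sq]
  exact Finset.single_le_sum (f := fun χ : IrrCharacter G => deg (χ : G → ℂ) ^ 2)
    (fun _ _ => Nat.zero_le _) (Finset.mem_univ χ)

theorem dvd_cases_core {q n u v y : ℕ} (hn : 2 * n < q + 4) (hy : y + 1 = v * (q + 1))
    (h : (u * (q + 1) + 1) * y = q * (n * (q + 1) + 1)) (hq : 0 < q) :
    u = 0 ∨ u = n ∧ y = q := by
  obtain _ | v := v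
  · omega
  have h1 : (q + 1 : ℤ) * ((n - u * (v + 1)) * q - (u + 1) * v) = 0 := by
    zify at hy h
    linear_combination (u * (q + 1) + 1 : ℤ) * hy - h
  have h2 : ((n : ℤ) - u * (v + 1)) * q = (u + 1) * v := by
    have := (mul_eq_zero.mp h1).resolve_left (by positivity)
    linear_combination this
  obtain _ | v := v
  · right
    have h3 : (n : ℤ) - u * (0 + 1) = 0 := by
      refine (mul_eq_zero.mp (show ((n : ℤ) - u * (0 + 1)) * q = 0 by
        simpa using h2)).resolve_right (by positivity)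
    omega
  obtain _ | u := u
  · exact Or.inl rfl
  exfalso
  push_cast at h2
  have h3 : (1 : ℤ) ≤ n - (u + 1) * (v + 1 + 1) := by
    by_contra h4
    have : ((n : ℤ) - (u + 1) * (v + 1 + 1)) * q ≤ 0 :=
      mul_nonpos_of_nonpos_of_nonneg (by omega) (by positivity)
    have : (0 : ℤ) < (u + 1 + 1) * (v + 1) := by positivity
    omega
  have h4 : (q : ℤ) ≤ (u + 1 + 1) * (v + 1) := by nlinarith
  have h5 : (0 : ℤ) ≤ u * v := by positivity
  nlinarith

theorem dvd_cases_pos {q n u : ℕ} (hn : 2 * n < q + 4) (hq : 0 < q)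
    (h : u * (q + 1) + 1 ∣ q * (n * (q + 1) + 1)) : u = 0 ∨ u = n := by
  obtain ⟨y, hy⟩ := h
  have h1 : q + 1 ∣ y + 1 := by
    refine (Nat.dvd_add_right (dvd_mul_of_dvd_left (dvd_mul_left (q + 1) u) (y + 1))).mp
      ⟨q * n + u + 1, ?_⟩
    linear_combination -hy
  obtain ⟨v, hv⟩ := h1
  exact (dvd_cases_core hn (hv.trans (mul_comm _ _)) hy.symm hq).imp_right And.left

theorem dvd_cases_neg {q n v x : ℕ} (hn : 2 * n < q + 4) (hq : 0 < q) (hx : x + 1 = v * (q + 1))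
    (h : x ∣ q * (n * (q + 1) + 1)) : x = q ∨ x = q * (n * (q + 1) + 1) := by
  obtain ⟨y, hy⟩ := h
  have h1 : ((q + 1 : ℕ) : ℤ) ∣ y - 1 := ⟨v * y - q * n - 1, by
    zify at hx hy
    push_cast
    linear_combination (y : ℤ) * hx + hy⟩
  have hy0 : 1 ≤ y := Nat.pos_of_ne_zero fun h0 => by
    rw [h0, mul_zero] at hy
    exact absurd hy (by positivity)
  obtain ⟨u, hu⟩ := (Nat.modEq_iff_dvd' hy0).mp (Nat.modEq_iff_dvd.mpr (by exact_mod_cast h1))
  have h2 : y = u * (q + 1) + 1 := by rw [mul_comm, ← hu]; omega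
  rcases dvd_cases_core hn hx (u := u) (by rw [← h2, hy, mul_comm]) hq with h3 | h3
  · right
    rw [hy, h2, h3, zero_mul, zero_add, mul_one]
  · exact Or.inl h3.2

section small

variable (hperf : _root_.commutator G = ⊤) (hz : orderOf z = p) (hP : ¬ p ^ 2 ∣ Nat.card G)
  {n : ℕ} (hN : Nat.card (Sylow p G) = n * p + 1) (hn : 2 * n < p + 3)
  (hsize : Nat.card D.K * p < (p - 1) * (n * p + 1))

include hz hP hN hn hsize

theorem small_aux : ∃ q, p = q + 1 ∧ 0 < q ∧ 2 * n < q + 4 ∧ Nat.card D.H * D.H.index = q ∧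
    (centralizer ({z} : Set G)).index = Nat.card D.H * (n * (q + 1) + 1) ∧
    Nat.card G < q * Nat.card D.H * (n * (q + 1) + 1) ^ 2 := by
  have h1 := hp.out.two_le
  refine ⟨p - 1, by omega, by omega, by omega, D1.card_mul_index D.H, ?_, ?_⟩
  · rw [index_centralizer_eq D hz hP, hN, Nat.sub_add_cancel (by omega)]
  · rw [card_eq_mul D hz hP, hN, Nat.sub_add_cancel (by omega)]
    have h2 : 0 < Nat.card D.H * (n * p + 1) := Nat.mul_pos (card_H_pos D) (by omega)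
    refine (Nat.mul_lt_mul_of_pos_right hsize h2).trans_eq (by ring)

include hperf in
theorem small_Ap {χ : IrrCharacter G} (hχ : χ ∈ Ap D) : deg (χ : G → ℂ) = n * p + 1 := by
  obtain ⟨q, hq, hq0, hn', het, hidx, -⟩ := small_aux D hz hP hN hn hsize
  obtain ⟨u, hu⟩ := deg_Ap D hperf hz hχ
  have h1 := deg_A_dvd D hz ((mem_Ap D).mp hχ).1
  rw [hidx, hu.trans (show _ = (u + 1) * (q + 1) + 1 by rw [← hq])] at h1
  have h2 := dvd_cases_pos hn' hq0 (h1.trans (Nat.mul_dvd_mul_right ⟨_, het.symm⟩ _))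
  rw [hu, h2.resolve_left (Nat.succ_ne_zero u)]

theorem small_Am {χ : IrrCharacter G} (hχ : χ ∈ Am D) : deg (χ : G → ℂ) + 1 = p := by
  obtain ⟨q, hq, hq0, hn', het, hidx, hG⟩ := small_aux D hz hP hN hn hsize
  obtain ⟨v, hv⟩ := deg_Am D hz hχ
  have h1 := deg_A_dvd D hz ((mem_Am D).mp hχ).1
  rw [hidx] at h1
  rw [hq] at hv
  rcases dvd_cases_neg hn' hq0 hv (h1.trans (Nat.mul_dvd_mul_right ⟨_, het.symm⟩ _)) with h | h
  · rw [h, hq]
  · have h2 := deg_sq_le_card χ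
    have h3 : Nat.card D.H ≤ q := het ▸ Nat.le_mul_of_pos_right _ (Nat.pos_of_ne_zero
      index_ne_zero_of_finite)
    have h4 := Nat.mul_le_mul_right ((n * (q + 1) + 1) ^ 2) (Nat.mul_le_mul_left q h3)
    rw [h, mul_pow, pow_two q] at h2
    omega

include hperf in
theorem small_θ_pos (h : D.ε = 1) : D.H.index * deg (D.θ 1 : G → ℂ) = n * p + 1 := by
  obtain ⟨q, hq, hq0, hn', het, hidx, -⟩ := small_aux D hz hP hN hn hsize
  obtain ⟨s, hs⟩ := deg_θ_pos D hz h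
  have h1 := Nat.mul_dvd_mul_left D.H.index (deg_θ_dvd D hz)
  rw [hidx, ← mul_assoc, mul_comm D.H.index (Nat.card D.H), het] at h1
  obtain ⟨t, ht⟩ := Nat.exists_eq_succ_of_ne_zero (index_ne_zero_of_finite (H := D.H))
  have h2 : D.H.index * deg (D.θ 1 : G → ℂ) = (t * (s + 1) + s) * (q + 1) + 1 := by
    replace hs := hs.trans (show _ = (s + 1) * (q + 1) by rw [← hq])
    rw [ht] at het ⊢
    zify at hs het ⊢
    linear_combination (t + 1 : ℤ) * hs - het
  rw [h2] at h1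
  rcases dvd_cases_pos hn' hq0 h1 with h3 | h3
  · rw [h3, zero_mul, zero_add] at h2
    exact absurd (irr_eq_irrOne_of_deg hperf (Nat.eq_one_of_mul_eq_one_left h2)) (θ_ne_one D 1)
  · rw [h2, h3, hq]

theorem small_θ_neg (h : D.ε = -1) : deg (D.θ 1 : G → ℂ) = Nat.card D.H := by
  obtain ⟨q, hq, hq0, hn', het, hidx, hG⟩ := small_aux D hz hP hN hn hsize
  obtain ⟨s, hs⟩ := deg_θ_neg D hz h
  have h1 := Nat.mul_dvd_mul_left D.H.index (deg_θ_dvd D hz)
  rw [hidx, ← mul_assoc, mul_comm D.H.index (Nat.card D.H), het] at h1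
  have ht : 0 < D.H.index := Nat.pos_of_ne_zero index_ne_zero_of_finite
  have h2 : D.H.index * deg (D.θ 1 : G → ℂ) + 1 = (D.H.index * s + 1) * (q + 1) := by
    rw [hs.trans (show _ = s * (q + 1) + Nat.card D.H by rw [← hq])]
    linear_combination het
  rcases dvd_cases_neg hn' hq0 h2 h1 with h3 | h3
  · exact Nat.eq_of_mul_eq_mul_left ht (by rw [h3, ← het, mul_comm])
  · exfalso
    have h4 : deg (D.θ 1 : G → ℂ) = Nat.card D.H * (n * (q + 1) + 1) :=
      Nat.eq_of_mul_eq_mul_left ht (by rw [h3, ← mul_assoc, mul_comm D.H.index, het])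
    have h5 := sum_deg_sq_split D
    have h6 : D.H.index * deg (D.θ 1 : G → ℂ) ^ 2 =
        q * Nat.card D.H * (n * (q + 1) + 1) ^ 2 := by
      rw [pow_two, ← mul_assoc, h3, h4]
      ring
    omega

end small

end CL.BT
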