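import Cfsg.Agent.Base
import Cfsg.Agent.Small.SelfCent

/-! Groups with a self-centralising Sylow subgroup of prime order: the action on the Sylow
subgroups when all two-point stabilisers are as large as possible. -/

set_option autoImplicit false

namespace CL.BT

open MulAction Subgroup CL.Small

/-- Sylow `p`-subgroups have order `p`, are self-centralising, have normalisers of order `p e`,
and there are `n p + 1` of them. -/
structure SC (G : Type*) [Group G] (p e n : ℕ) : Prop where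
  card_sylow : ∀ Q : Sylow p G, Nat.card (Q : Subgroup G) = p
  cent : ∀ x : G, orderOf x = p → centralizer ({x} : Set G) = zpowers x
  card_stab : ∀ Q : Sylow p G, Nat.card (stabilizer G Q) = p * e
  np : Nat.card (Sylow p G) = n * p + 1

variable {G : Type*} [Group G] {p e n : ℕ}

theorem sylow_smul_self {Q : Sylow p G} {y : G} (hy : y ∈ (Q : Subgroup G)) : y • Q = Q :=
  Sylow.smul_eq_iff_mem_normalizer.mpr (le_normalizer hy)

theorem conj_mem_of_smul_eq {Q : Sylow p G} {g y : G} (hg : g • Q = Q)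
    (hy : y ∈ (Q : Subgroup G)) : g * y * g⁻¹ ∈ (Q : Subgroup G) :=
  (mem_normalizer_iff.mp (Sylow.smul_eq_iff_mem_normalizer.mp hg) y).mp hy

theorem inv_smul_eq_of {X : Type*} [MulAction G X] {g : G} {x : X} (h : g • x = x) :
    g⁻¹ • x = x := by rw [inv_smul_eq_iff, h]

/-- The number of fixed points in a transitive action. -/
theorem card_fixedBy_mul_card_stabilizer [Finite G] {X : Type*} [MulAction G X]
    [IsPretransitive G X] (x : X) (c : G) :
    Nat.card (fixedBy X c) * Nat.card (stabilizer G x) =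
      Nat.card {g : G // IsConj c g ∧ g ∈ stabilizer G x} *
        Nat.card (centralizer ({c} : Set G)) := by
  rw [← card_fixedBy_quotient_mul_card]
  congr 1
  have hs : Function.Surjective (ofQuotientStabilizer G x) := fun y => by
    obtain ⟨g, rfl⟩ := exists_smul_eq G x y
    exact ⟨g, rfl⟩
  refine (Nat.card_congr (Equiv.subtypeEquiv
    (Equiv.ofBijective _ ⟨injective_ofQuotientStabilizer G x, hs⟩) fun q => ?_)).symm
  show c • q = q ↔ c • ofQuotientStabilizer G x q = ofQuotientStabilizer G x q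
  rw [← ofQuotientStabilizer_smul]
  exact (injective_ofQuotientStabilizer G x).eq_iff.symm

/-- The norm of a permutation character. -/
theorem sum_card_fixedBy_sq [Fintype G] {X : Type*} [MulAction G X] [Fintype X] [DecidableEq X] :
    ∑ g : G, Nat.card (fixedBy X g) ^ 2 = ∑ x : X, Nat.card (stabilizer G x) +
      ∑ a ∈ (Finset.univ : Finset X).offDiag,
        Nat.card ↥(stabilizer G a.1 ⊓ stabilizer G a.2) := by
  classical
  have e1 : ∀ g : G, Nat.card (fixedBy X g) ^ 2 =
      ∑ a : X × X, if g • a.1 = a.1 ∧ g • a.2 = a.2 then 1 else 0 := by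
    intro g
    rw [Nat.card_eq_fintype_card, Fintype.card_subtype, pow_two, ← Finset.card_product,
      ← Finset.filter_product, Finset.card_filter]
    rfl
  have e2 : ∀ a : X × X, Nat.card ↥(stabilizer G a.1 ⊓ stabilizer G a.2) =
      ∑ g : G, if g • a.1 = a.1 ∧ g • a.2 = a.2 then 1 else 0 := by
    intro a
    rw [Nat.card_eq_fintype_card, Fintype.card_subtype, Finset.card_filter]
    exact Finset.sum_congr rfl fun g _ => if_congr Iff.rfl rfl rfl
  rw [Finset.sum_congr rfl fun g _ => e1 g, Finset.sum_comm,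
    ← Finset.sum_congr rfl fun a _ => e2 a, ← Finset.univ_product_univ,
    ← Finset.diag_union_offDiag, Finset.sum_union (Finset.disjoint_diag_offDiag _),
    Finset.sum_diag]
  simp only [inf_idem]

theorem sum_card_fixedBy_sq_lt [Fintype G] {X : Type*} [MulAction G X] [Finite X] {c e : ℕ}
    (h1 : ∀ x : X, Nat.card (stabilizer G x) = c)
    (h2 : ∀ x y : X, x ≠ y → Nat.card ↥(stabilizer G x ⊓ stabilizer G y) ≤ e) {x y : X}
    (hxy : x ≠ y) (hne : Nat.card ↥(stabilizer G x ⊓ stabilizer G y) ≠ e) :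
    ∑ g : G, Nat.card (fixedBy X g) ^ 2 < Nat.card X * (c + (Nat.card X - 1) * e) := by
  classical
  have := Fintype.ofFinite X
  have h3 := Finset.sum_lt_sum (s := (Finset.univ : Finset X).offDiag)
    (f := fun a => Nat.card ↥(stabilizer G a.1 ⊓ stabilizer G a.2)) (g := fun _ => e)
    (fun a ha => h2 _ _ (Finset.mem_offDiag.mp ha).2.2)
    ⟨(x, y), Finset.mem_offDiag.mpr ⟨Finset.mem_univ _, Finset.mem_univ _, hxy⟩,
      by dsimp only; exact lt_of_le_of_ne (h2 x y hxy) hne⟩
  rw [Finset.sum_const, Finset.offDiag_card, Finset.card_univ, smul_eq_mul,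
    ← Nat.mul_sub_one, ← Nat.card_eq_fintype_card (α := X)] at h3
  rw [sum_card_fixedBy_sq, Finset.sum_congr rfl fun Q _ => h1 Q, Finset.sum_const,
    Finset.card_univ, smul_eq_mul, ← Nat.card_eq_fintype_card (α := X), mul_add, ← mul_assoc]
  exact Nat.add_lt_add_left h3 _

variable [hp : Fact p.Prime]

namespace SC

theorem orderOf_mem (h : SC G p e n) {Q : Sylow p G} {y : G} (hy : y ∈ (Q : Subgroup G))
    (h1 : y ≠ 1) : orderOf y = p :=
  orderOf_eq_of_mem_card_prime hp.out (h.card_sylow Q) hy h1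

theorem zpowers_eq (h : SC G p e n) {Q : Sylow p G} {y : G} (hy : y ∈ (Q : Subgroup G))
    (h1 : y ≠ 1) : zpowers y = Q :=
  eq_zpowers_of_card_prime hp.out (h.card_sylow Q) hy h1

theorem mem_of_comm (h : SC G p e n) {Q : Sylow p G} {y g : G} (hy : y ∈ (Q : Subgroup G))
    (h1 : y ≠ 1) (hg : g * y = y * g) : g ∈ (Q : Subgroup G) := by
  rw [← h.zpowers_eq hy h1, ← h.cent y (h.orderOf_mem hy h1), mem_centralizer_singleton_iff]
  exact hg

theorem comm (h : SC G p e n) {Q : Sylow p G} {x y : G} (hx : x ∈ (Q : Subgroup G))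
    (hy : y ∈ (Q : Subgroup G)) : x * y = y * x := by
  by_cases h1 : y = 1
  · simp [h1]
  rw [← h.zpowers_eq hy h1] at hx
  obtain ⟨k, rfl⟩ := hx
  exact (Commute.zpow_self y k).eq

theorem eq_of_smul (h : SC G p e n) {Q R : Sylow p G} {y : G} (hy : y ∈ (Q : Subgroup G))
    (h1 : y ≠ 1) (hR : y • R = R) : R = Q := by
  have := mem_sylow_of_mem_normalizer_of_orderOf R (k := 1)
    (by rw [pow_one]; exact h.orderOf_mem hy h1) (Sylow.smul_eq_iff_mem_normalizer.mp hR)
  exact Sylow.ext ((h.zpowers_eq this h1).symm.trans (h.zpowers_eq hy h1))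

theorem eq_one_of_smul (h : SC G p e n) {Q R : Sylow p G} (hQR : Q ≠ R) {y : G}
    (hy : y ∈ (Q : Subgroup G)) (hR : y • R = R) : y = 1 := by
  by_contra h1
  exact hQR (h.eq_of_smul hy h1 hR).symm

theorem exists_ne_one (h : SC G p e n) (Q : Sylow p G) : ∃ y ∈ (Q : Subgroup G), y ≠ 1 := by
  obtain ⟨z, hz, hz'⟩ := exists_zpowers_eq_of_card_prime hp.out (h.card_sylow Q)
  exact ⟨z, hz' ▸ mem_zpowers z, fun h1 => hp.out.ne_one (by rw [← hz, h1, orderOf_one])⟩

theorem commutator_mem (h : SC G p e n) {Q : Sylow p G} {g k : G} (hg : g • Q = Q)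
    (hk : k • Q = Q) : (k * g)⁻¹ * (g * k) ∈ (Q : Subgroup G) := by
  obtain ⟨y, hy, h1⟩ := h.exists_ne_one Q
  have ha := conj_mem_of_smul_eq hg hy
  have hb := conj_mem_of_smul_eq hk hy
  rw [← h.zpowers_eq hy h1] at ha hb
  obtain ⟨a, ha⟩ := ha
  obtain ⟨b, hb⟩ := hb
  dsimp only at ha hb
  refine h.mem_of_comm hy h1 ?_
  have e1 : g * k * y * (g * k)⁻¹ = y ^ (a * b) := by
    calc g * k * y * (g * k)⁻¹ = g * (k * y * k⁻¹) * g⁻¹ := by group
      _ = (g * y * g⁻¹) ^ b := by rw [← hb, conj_zpow]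
      _ = _ := by rw [← ha, ← zpow_mul]
  have e2 : k * g * y * (k * g)⁻¹ = y ^ (a * b) := by
    calc k * g * y * (k * g)⁻¹ = k * (g * y * g⁻¹) * k⁻¹ := by group
      _ = (k * y * k⁻¹) ^ a := by rw [← ha, conj_zpow]
      _ = _ := by rw [← hb, ← zpow_mul, mul_comm]
  calc (k * g)⁻¹ * (g * k) * y = (k * g)⁻¹ * (g * k * y * (g * k)⁻¹) * (g * k) := by group
    _ = (k * g)⁻¹ * (k * g * y * (k * g)⁻¹) * (g * k) := by rw [e1, e2]
    _ = _ := by group

theorem st_comm (h : SC G p e n) {Q R : Sylow p G} (hQR : Q ≠ R) {g k : G} (hg : g • Q = Q)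
    (hk : k • Q = Q) (hg' : g • R = R) (hk' : k • R = R) : g * k = k * g := by
  have := h.eq_one_of_smul hQR (h.commutator_mem hg hk) (by
    rw [mul_smul, mul_smul, hk', hg', inv_smul_eq_iff, mul_smul, hg', hk'])
  rw [inv_mul_eq_one] at this
  exact this.symm

omit hp in
theorem mul_injective {Q : Sylow p G} {S : Subgroup G} (hS : S ≤ stabilizer G Q)
    (hd : ∀ y ∈ S, y ∈ (Q : Subgroup G) → y = 1) :
    Function.Injective (fun a : S × ↥(Q : Subgroup G) =>
      (⟨a.1 * a.2, mul_mem (hS a.1.2) (sylow_smul_self a.2.2)⟩ : stabilizer G Q)) := by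
  rintro ⟨s, y⟩ ⟨s', y'⟩ hab
  have h1 : (s : G) * y = s' * y' := congrArg Subtype.val hab
  have h2 : (s' : G)⁻¹ * s = y' * (y : G)⁻¹ := by
    calc (s' : G)⁻¹ * s = (s' : G)⁻¹ * (s * y) * (y : G)⁻¹ := by group
      _ = _ := by rw [h1]; group
  have h3 := hd _ (S.mul_mem (S.inv_mem s'.2) s.2) (h2 ▸ mul_mem y'.2 (inv_mem y.2))
  have h4 : s = s' := Subtype.ext (inv_mul_eq_one.mp h3).symm
  subst h4
  rw [Subtype.ext (mul_left_cancel h1)]

variable [Finite G]

theorem card_le (h : SC G p e n) {Q : Sylow p G} {S : Subgroup G} (hS : S ≤ stabilizer G Q)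
    (hd : ∀ y ∈ S, y ∈ (Q : Subgroup G) → y = 1) : Nat.card S ≤ e := by
  have := Nat.card_le_card_of_injective _ (mul_injective hS hd)
  rw [Nat.card_prod, h.card_sylow, h.card_stab, mul_comm] at this
  exact Nat.le_of_mul_le_mul_left this hp.out.pos

omit hp in
theorem exists_eq_mul (h : SC G p e n) {Q : Sylow p G} {S : Subgroup G} (hS : S ≤ stabilizer G Q)
    (hd : ∀ y ∈ S, y ∈ (Q : Subgroup G) → y = 1) (hc : Nat.card S = e) {g : G} (hg : g • Q = Q) :
    ∃ s ∈ S, ∃ y ∈ (Q : Subgroup G), g = s * y := by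
  have hb := (mul_injective hS hd).bijective_of_nat_card_le
    (by rw [Nat.card_prod, h.card_sylow, h.card_stab, hc, mul_comm])
  obtain ⟨⟨s, y⟩, hsy⟩ := hb.2 ⟨g, hg⟩
  exact ⟨s, s.2, y, y.2, (congrArg Subtype.val hsy).symm⟩

theorem card_st_le (h : SC G p e n) {Q R : Sylow p G} (hQR : Q ≠ R) :
    Nat.card ↥(stabilizer G Q ⊓ stabilizer G R) ≤ e :=
  h.card_le inf_le_left fun _ hy hy' => h.eq_one_of_smul hQR hy' hy.2

/-- The coset `s Q` consists of `Q`-conjugates of `s`. -/
theorem exists_conj_eq_mul (h : SC G p e n) {Q : Sylow p G} {s y : G} (hs : s • Q = Q)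
    (hs' : s ∉ (Q : Subgroup G)) (hy : y ∈ (Q : Subgroup G)) :
    ∃ x ∈ (Q : Subgroup G), x * s * x⁻¹ = s * y := by
  let f : ↥(Q : Subgroup G) → ↥(Q : Subgroup G) := fun x =>
    ⟨s⁻¹ * x * s⁻¹⁻¹ * (x : G)⁻¹, mul_mem (conj_mem_of_smul_eq (inv_smul_eq_of hs) x.2) (inv_mem x.2)⟩
  have hf : Function.Injective f := by
    intro a b hab
    have h1 : s⁻¹ * a * s⁻¹⁻¹ * (a : G)⁻¹ = s⁻¹ * b * s⁻¹⁻¹ * (b : G)⁻¹ := congrArg Subtype.val hab
    by_contra hne
    apply hs'
    refine h.mem_of_comm (y := (b : G)⁻¹ * a) (mul_mem (inv_mem b.2) a.2)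
      (fun h2 => hne (Subtype.ext (inv_mul_eq_one.mp h2).symm)) ?_
    calc s * ((b : G)⁻¹ * a) = (b : G)⁻¹ * s * (s⁻¹ * b * s⁻¹⁻¹ * (b : G)⁻¹) * a := by group
      _ = _ := by rw [← h1]; group
  obtain ⟨x, hx⟩ := (Finite.injective_iff_surjective.mp hf) ⟨y, hy⟩
  refine ⟨x, x.2, ?_⟩
  have h1 : s⁻¹ * x * s⁻¹⁻¹ * (x : G)⁻¹ = y := congrArg Subtype.val hx
  rw [← h1]
  group

omit [Finite G] in
/-- An involution normalising `Q` inverts it. -/
theorem invol_inverts (h : SC G p e n) {Q : Sylow p G} {c y : G} (hc : c • Q = Q)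
    (hc2 : c * c = 1) (hc' : c ∉ (Q : Subgroup G)) (hy : y ∈ (Q : Subgroup G)) :
    c * y * c⁻¹ = y⁻¹ := by
  have hw := conj_mem_of_smul_eq hc hy
  by_contra hne
  apply hc'
  refine h.mem_of_comm (y := y * (c * y * c⁻¹)) (mul_mem hy hw)
    (fun h1 => hne (eq_inv_of_mul_eq_one_right h1)) ?_
  have hci : c⁻¹ = c := inv_eq_of_mul_eq_one_right hc2
  rw [h.comm hy hw]
  conv_rhs => rw [← h.comm hy hw]
  rw [hci]
  calc c * (c * y * c * y) = (c * c) * y * c * y := by group
    _ = y * (c * y * c) * c := by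
      rw [hc2, show y * (c * y * c) * c = y * c * y * (c * c) by group, hc2]; group

omit [Finite G] in
theorem invol_not_mem (h : SC G p e n) (hp2 : p ≠ 2) {Q : Sylow p G} {c : G} (hc2 : c * c = 1)
    (hc1 : c ≠ 1) : c ∉ (Q : Subgroup G) := fun hc => by
  have h1 := h.orderOf_mem hc hc1
  have h2 : orderOf c ∣ 2 := orderOf_dvd_of_pow_eq_one (by rw [pow_two, hc2])
  rw [h1] at h2
  exact hp2 ((Nat.prime_dvd_prime_iff_eq hp.out Nat.prime_two).mp h2)

omit [Finite G] in
theorem invol_mul_mem (h : SC G p e n) (hp2 : p ≠ 2) {Q : Sylow p G} {c d : G} (hc : c • Q = Q)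
    (hc2 : c * c = 1) (hc1 : c ≠ 1) (hd : d • Q = Q) (hd2 : d * d = 1) (hd1 : d ≠ 1) :
    c⁻¹ * d ∈ (Q : Subgroup G) := by
  obtain ⟨y, hy, h1⟩ := h.exists_ne_one Q
  have e1 := h.invol_inverts hc hc2 (h.invol_not_mem hp2 hc2 hc1) hy
  have e2 := h.invol_inverts hd hd2 (h.invol_not_mem hp2 hd2 hd1) hy
  refine h.mem_of_comm hy h1 ?_
  calc c⁻¹ * d * y = c⁻¹ * (d * y * d⁻¹) * d := by group
    _ = c⁻¹ * (c * y * c⁻¹) * d := by rw [e1, e2]
    _ = _ := by group

omit [Finite G] in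
theorem invol_unique (h : SC G p e n) (hp2 : p ≠ 2) {Q R : Sylow p G} (hQR : Q ≠ R) {c d : G}
    (hc : c • Q = Q) (hc' : c • R = R) (hc2 : c * c = 1) (hc1 : c ≠ 1)
    (hd : d • Q = Q) (hd' : d • R = R) (hd2 : d * d = 1) (hd1 : d ≠ 1) : c = d :=
  inv_mul_eq_one.mp (h.eq_one_of_smul hQR (h.invol_mul_mem hp2 hc hc2 hc1 hd hd2 hd1)
    (by rw [mul_smul, hd', inv_smul_eq_of hc']))

theorem card_conj_invol (h : SC G p e n) (hp2 : p ≠ 2) {Q : Sylow p G} {c : G} (hc : c • Q = Q)
    (hc2 : c * c = 1) (hc1 : c ≠ 1) :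
    Nat.card {g : G // IsConj c g ∧ g ∈ stabilizer G Q} = p := by
  refine Eq.trans ?_ (h.card_sylow Q)
  refine (Nat.card_congr (Equiv.ofBijective (fun y : ↥(Q : Subgroup G) =>
    (⟨c * y, ?_, mul_mem hc (sylow_smul_self y.2)⟩ :
      {g : G // IsConj c g ∧ g ∈ stabilizer G Q})) ⟨?_, ?_⟩)).symm
  · obtain ⟨x, -, hx⟩ := h.exists_conj_eq_mul hc (h.invol_not_mem hp2 hc2 hc1) y.2
    exact isConj_iff.mpr ⟨x, hx⟩
  · intro a b hab
    exact Subtype.ext (mul_left_cancel (congrArg Subtype.val hab))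
  · rintro ⟨d, hd, hd'⟩
    obtain ⟨x, rfl⟩ := isConj_iff.mp hd
    refine ⟨⟨c⁻¹ * (x * c * x⁻¹), h.invol_mul_mem hp2 hc hc2 hc1 hd' ?_ ?_⟩, by simp⟩
    · rw [show x * c * x⁻¹ * (x * c * x⁻¹) = x * (c * c) * x⁻¹ by group, hc2]; group
    · intro h1
      apply hc1
      calc c = x⁻¹ * (x * c * x⁻¹) * x := by group
        _ = 1 := by rw [h1]; group

theorem card_eq (h : SC G p e n) : Nat.card G = p * e * (n * p + 1) := by
  obtain ⟨Q⟩ : Nonempty (Sylow p G) := inferInstance
  rw [← (stabilizer G Q).card_mul_index, h.card_stab, index_stabilizer_of_transitive, h.np]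

section design

variable (h : SC G p e n)
  (h2 : ∀ Q R : Sylow p G, Q ≠ R → Nat.card ↥(stabilizer G Q ⊓ stabilizer G R) = e)
include h h2

theorem st_eq {Q R : Sylow p G} (hQR : Q ≠ R) {c : G} (hc : c • Q = Q) (hc' : c • R = R)
    (hc1 : c ≠ 1) :
    stabilizer G Q ⊓ stabilizer G R = stabilizer G Q ⊓ centralizer ({c} : Set G) := by
  refine eq_of_le_of_card_ge (fun g hg => ⟨hg.1, mem_centralizer_singleton_iff.mpr
    (h.st_comm hQR hg.1 hc hg.2 hc')⟩) ?_
  rw [h2 Q R hQR]
  refine h.card_le inf_le_left fun y hy hy' => ?_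
  by_contra h1
  exact hc1 (h.eq_one_of_smul hQR
    (h.mem_of_comm hy' h1 (mem_centralizer_singleton_iff.mp hy.2).symm) hc')

theorem smul_of_fixed {Q R S : Sylow p G} (hQR : Q ≠ R) {c g : G} (hc : c • Q = Q)
    (hc' : c • R = R) (hc1 : c ≠ 1) (hS : c • S = S) (hg : g • Q = Q) (hg' : g • R = R) :
    g • S = S := by
  by_cases hQS : Q = S
  · rw [← hQS, hg]
  have h3 : g ∈ stabilizer G Q ⊓ stabilizer G R := ⟨hg, hg'⟩
  rw [h.st_eq h2 hQR hc hc' hc1, ← h.st_eq h2 hQS hc hS hc1] at h3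
  exact h3.2

theorem card_fixedBy {Q : Sylow p G} {c : G} (hc : c • Q = Q) (hc' : c ∉ (Q : Subgroup G)) :
    Nat.card (fixedBy (Sylow p G) c) = n + 1 := by
  classical
  let f : ↥(Q : Subgroup G) × {R : fixedBy (Sylow p G) c // R ≠ ⟨Q, hc⟩} →
      {R : Sylow p G // R ≠ Q} := fun a => ⟨(a.1 : G) • a.2.1.1, fun h3 => a.2.2 (Subtype.ext (by
        rw [smul_eq_iff_eq_inv_smul, sylow_smul_self (inv_mem a.1.2)] at h3
        exact h3))⟩
  have hf : Function.Bijective f := by
    constructor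
    · rintro ⟨x, ⟨R, hR⟩, hR'⟩ ⟨x', ⟨S, hS⟩, hS'⟩ hab
      have h3 : (x : G) • R = (x' : G) • S := congrArg Subtype.val hab
      have hRQ : Q ≠ R := fun h4 => hR' (Subtype.ext h4.symm)
      have h4 : S = ((x' : G)⁻¹ * x) • R := by rw [mul_smul, h3, inv_smul_smul]
      set y : G := (x' : G)⁻¹ * x with hy
      have hyQ : y ∈ (Q : Subgroup G) := mul_mem (inv_mem x'.2) x.2
      have hS2 : c • S = S := hS
      have hR2 : c • R = R := hR
      have h5 : y⁻¹ * (c * y * c⁻¹) = 1 := h.eq_one_of_smul hRQ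
        (mul_mem (inv_mem hyQ) (conj_mem_of_smul_eq hc hyQ)) (by
          rw [mul_smul, mul_smul, mul_smul, inv_smul_eq_of hR2, ← h4, hS2, h4, inv_smul_smul])
      have h6 : y = 1 := by
        by_contra h7
        refine hc' (h.mem_of_comm hyQ h7 ?_)
        calc c * y = y * (y⁻¹ * (c * y * c⁻¹)) * c := by group
          _ = _ := by rw [h5, mul_one]
      have h7 : x = x' := Subtype.ext (inv_mul_eq_one.mp h6).symm
      rw [h6, one_smul] at h4
      subst h7 h4
      rfl
    · rintro ⟨R, hR⟩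
      obtain ⟨s, hs, y, hy, hsy⟩ := h.exists_eq_mul (S := stabilizer G Q ⊓ stabilizer G R)
        inf_le_left (fun _ hy hy' => h.eq_one_of_smul hR.symm hy' hy.2) (h2 Q R hR.symm) hc
      obtain ⟨x, hx, hx'⟩ := h.exists_conj_eq_mul hs.1 (fun h3 => hc' (hsy ▸ mul_mem h3 hy)) hy
      have hsR : s • R = R := hs.2
      refine ⟨⟨⟨x⁻¹, inv_mem hx⟩, ⟨x • R, ?_⟩, fun h3 => hR ?_⟩, Subtype.ext (by simp [f])⟩
      · rw [mem_fixedBy, hsy, ← hx', mul_smul, mul_smul, inv_smul_smul, hsR]
      · have h4 : x • R = Q := congrArg Subtype.val h3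
        rw [smul_eq_iff_eq_inv_smul, sylow_smul_self (inv_mem hx)] at h4
        exact h4
  have := Fintype.ofFinite (Sylow p G)
  have h3 := Nat.card_congr (Equiv.ofBijective f hf)
  rw [Nat.card_prod, h.card_sylow, Nat.card_eq_fintype_card, Nat.card_eq_fintype_card,
    Fintype.card_subtype_compl, Fintype.card_subtype_compl, ← Nat.card_eq_fintype_card,
    ← Nat.card_eq_fintype_card (α := Sylow p G), h.np] at h3
  simp only [Fintype.card_unique, add_tsub_cancel_right] at h3
  have h4 : 0 < Nat.card (fixedBy (Sylow p G) c) := by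
    have : Nonempty (fixedBy (Sylow p G) c) := ⟨⟨Q, hc⟩⟩
    exact Nat.card_pos
  have h5 := Nat.eq_of_mul_eq_mul_left hp.out.pos (h3.trans (mul_comm n p))
  omega

theorem succ_dvd (he : 2 ≤ e) (hn : 1 ≤ n) : n + 1 ∣ (n * p + 1) * p := by
  classical
  have := Fintype.ofFinite (Sylow p G)
  let L : Sylow p G × Sylow p G → Finset (Sylow p G) := fun a =>
    Finset.univ.filter fun S => ∀ g : G, g • a.1 = a.1 → g • a.2 = a.2 → g • S = S
  have hL : ∀ Q R : Sylow p G, Q ≠ R → (L (Q, R)).card = n + 1 := by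
    intro Q R hQR
    have : Nontrivial ↥(stabilizer G Q ⊓ stabilizer G R) :=
      Finite.one_lt_card_iff_nontrivial.mp (by rw [h2 Q R hQR]; omega)
    obtain ⟨⟨c, hc, hc'⟩, hc1⟩ := exists_ne (1 : ↥(stabilizer G Q ⊓ stabilizer G R))
    have hc1' : c ≠ 1 := fun h3 => hc1 (Subtype.ext h3)
    rw [← h.card_fixedBy h2 hc (fun h3 => hc1' (h.eq_one_of_smul hQR h3 hc')),
      Nat.card_eq_fintype_card, Fintype.card_subtype]
    congr 1
    ext S
    simp only [L, Finset.mem_filter, Finset.mem_univ, true_and, mem_fixedBy]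
    exact ⟨fun h3 => h3 c hc hc', fun h3 g hg hg' => h.smul_of_fixed h2 hQR hc hc' hc1' h3 hg hg'⟩
  have hdvd : (n + 1) * n ∣ (Finset.univ : Finset (Sylow p G)).offDiag.card := by
    rw [Finset.card_eq_sum_card_image L]
    refine Finset.dvd_sum fun l hl => ?_
    obtain ⟨⟨Q, R⟩, hQR, rfl⟩ := Finset.mem_image.mp hl
    have hQR' : Q ≠ R := (Finset.mem_offDiag.mp hQR).2.2
    have : Finset.filter (fun a => L a = L (Q, R)) (Finset.univ : Finset (Sylow p G)).offDiag =
        (L (Q, R)).offDiag := by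
      ext ⟨Q', R'⟩
      simp only [Finset.mem_filter, Finset.mem_offDiag, Finset.mem_univ, true_and]
      constructor
      · rintro ⟨h3, h4⟩
        rw [← h4]
        simp only [L, Finset.mem_filter, Finset.mem_univ, true_and]
        exact ⟨fun g hg _ => hg, fun g _ hg => hg, h3⟩
      · rintro ⟨h3, h4, h5⟩
        refine ⟨h5, ?_⟩
        simp only [L, Finset.mem_filter, Finset.mem_univ, true_and] at h3 h4
        have h6 : stabilizer G Q ⊓ stabilizer G R = stabilizer G Q' ⊓ stabilizer G R' :=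
          eq_of_le_of_card_ge (fun g hg => ⟨h3 g hg.1 hg.2, h4 g hg.1 hg.2⟩)
            (by rw [h2 Q R hQR', h2 Q' R' h5])
        ext S
        simp only [L, Finset.mem_filter, Finset.mem_univ, true_and]
        constructor
        · intro h7 g hg hg'
          have : g ∈ stabilizer G Q' ⊓ stabilizer G R' := h6 ▸ ⟨hg, hg'⟩
          exact h7 g this.1 this.2
        · intro h7 g hg hg'
          have : g ∈ stabilizer G Q ⊓ stabilizer G R := h6.symm ▸ ⟨hg, hg'⟩
          exact h7 g this.1 this.2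
    rw [this, Finset.offDiag_card, hL Q R hQR']
    exact ⟨1, by rw [mul_one, ← Nat.mul_sub_one, add_tsub_cancel_right]⟩
  rw [Finset.offDiag_card, Finset.card_univ, ← Nat.card_eq_fintype_card, h.np, ← Nat.mul_sub_one,
    add_tsub_cancel_right] at hdvd
  refine Nat.dvd_of_mul_dvd_mul_right (k := n) hn ?_
  convert hdvd using 1
  ring

theorem card_centralizer_invol (hp2 : p ≠ 2) {Q : Sylow p G} {c : G} (hc : c • Q = Q)
    (hc2 : c * c = 1) (hc1 : c ≠ 1) : Nat.card (centralizer ({c} : Set G)) = (n + 1) * e := by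
  have h3 := card_fixedBy_mul_card_stabilizer Q c
  rw [h.card_fixedBy h2 hc (h.invol_not_mem hp2 hc2 hc1), h.card_stab,
    h.card_conj_invol hp2 hc hc2 hc1] at h3
  refine Nat.eq_of_mul_eq_mul_left hp.out.pos ?_
  rw [← h3]
  ring

/-- Every element of `C(c)` moving `Q` is an involution with a fixed point. -/
theorem invol_of_mem_centralizer (hp2 : p ≠ 2) (he : 2 ∣ e) (hpe : p = e * (n + 1) + 1)
    {Q R : Sylow p G} (hQR : Q ≠ R) {c : G} (hc : c • Q = Q) (hc' : c • R = R) (hc2 : c * c = 1)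
    (hc1 : c ≠ 1) {a : G} (ha : a * c = c * a) (ha' : a • Q ≠ Q) :
    a * a = 1 ∧ ∃ S : Sylow p G, a • S = S := by
  classical
  have := Fintype.ofFinite (Sylow p G)
  have := Fintype.ofFinite G
  let Z : Finset G := Finset.univ.filter fun a => a * c = c * a ∧ a • Q ≠ Q
  let Y : Finset G := Z.filter fun a => a * a = 1 ∧ ∃ S : Sylow p G, a • S = S
  have hfix : ∀ (d : G) (S : Sylow p G), d • S = S → d * d = 1 → d ≠ 1 →
      (Finset.univ.filter fun x : Sylow p G => d • x = x).card = n + 1 := by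
    intro d S hd hd2 hd1
    rw [← h.card_fixedBy h2 hd (h.invol_not_mem hp2 hd2 hd1), Nat.card_eq_fintype_card,
      Fintype.card_subtype]
    rfl
  have hZ : Z.card = n * e := by
    have h3 := Finset.card_filter_add_card_filter_not
      (s := Finset.univ.filter fun a : G => a * c = c * a) (fun a => a • Q = Q)
    have h4 : (Finset.univ.filter fun a : G => a * c = c * a).card = (n + 1) * e := by
      rw [← h.card_centralizer_invol h2 hp2 hc hc2 hc1, Nat.card_eq_fintype_card,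
        Fintype.card_subtype]
      congr 1
      ext a
      simp [mem_centralizer_singleton_iff]
    have h5 : ((Finset.univ.filter fun a : G => a * c = c * a).filter fun a => a • Q = Q).card
        = e := by
      rw [← h2 Q R hQR, h.st_eq h2 hQR hc hc' hc1, Nat.card_eq_fintype_card,
        Fintype.card_subtype]
      congr 1
      ext a
      simp [mem_centralizer_singleton_iff, and_comm]
    rw [h4, h5, Finset.filter_filter] at h3
    have h6 : e + Z.card = (n + 1) * e := h3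
    have : (n + 1) * e = e + n * e := by ring
    omega
  have hsub : (Finset.univ.filter fun x : Sylow p G => ¬ c • x = x) ⊆
      Y.biUnion fun d => Finset.univ.filter fun x : Sylow p G => d • x = x := by
    intro x hx
    have hx' : x ≠ c • x := fun h3 => (Finset.mem_filter.mp hx).2 h3.symm
    obtain ⟨⟨d, hd, hd'⟩, hd2⟩ := exists_prime_orderOf_dvd_card'
      (G := ↥(stabilizer G x ⊓ stabilizer G (c • x))) 2 (by rw [h2 _ _ hx']; exact he)
    have hd : d • x = x := hd
    have hd' : d • c • x = c • x := hd'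
    have hd3 : orderOf d = 2 := by rw [← hd2, ← Subgroup.orderOf_coe]
    have hd4 : d * d = 1 := by rw [← pow_two, ← hd3, pow_orderOf_eq_one]
    have hd1 : d ≠ 1 := fun h3 => by simp [h3] at hd3
    have hci : c⁻¹ = c := inv_eq_of_mul_eq_one_right hc2
    have h3 : c * d * c⁻¹ = d := by
      refine h.invol_unique hp2 hx' ?_ ?_ ?_ ?_ hd hd' hd4 hd1
      · rw [hci, mul_smul, mul_smul, hd', ← mul_smul, hc2, one_smul]
      · rw [mul_smul, mul_smul, inv_smul_smul, hd]
      · rw [show c * d * c⁻¹ * (c * d * c⁻¹) = c * (d * d) * c⁻¹ by group, hd4]; group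
      · intro h4
        apply hd1
        calc d = c⁻¹ * (c * d * c⁻¹) * c := by group
          _ = 1 := by rw [h4]; group
    have h4 : d * c = c * d := by
      calc d * c = c * d * c⁻¹ * c := by rw [h3]
        _ = _ := by group
    simp only [Y, Z, Finset.mem_biUnion, Finset.mem_filter, Finset.mem_univ, true_and]
    refine ⟨d, ⟨⟨h4, fun h5 => ?_⟩, hd4, x, hd⟩, hd⟩
    have h6 : d ∈ stabilizer G Q ⊓ centralizer ({c} : Set G) :=
      ⟨h5, mem_centralizer_singleton_iff.mpr h4⟩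
    rw [← h.st_eq h2 hQR hc hc' hc1] at h6
    have h7 := h.invol_unique hp2 hQR hc hc' hc2 hc1 h5 h6.2 hd4 hd1
    exact hx' (by rw [h7, hd])
  have h3 := (Finset.card_le_card hsub).trans Finset.card_biUnion_le
  rw [Finset.sum_congr rfl (g := fun _ => n + 1) (fun d hd => by
    simp only [Y, Z, Finset.mem_filter, Finset.mem_univ, true_and] at hd
    obtain ⟨⟨-, h4⟩, h5, S, hS⟩ := hd
    exact hfix d S hS h5 fun h6 => h4 (by rw [h6, one_smul])), Finset.sum_const, smul_eq_mul] at h3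
  have h4 := Finset.card_filter_add_card_filter_not
    (s := (Finset.univ : Finset (Sylow p G))) (fun x => c • x = x)
  rw [hfix c Q hc hc2 hc1, Finset.card_univ, ← Nat.card_eq_fintype_card, h.np] at h4
  have h5 : Z.card ≤ Y.card := by
    refine Nat.le_of_mul_le_mul_right (c := n + 1) ?_ (Nat.succ_pos n)
    have : n * p = n * e * (n + 1) + n := by rw [hpe]; ring
    rw [hZ]
    omega
  have h6 : Y = Z := Finset.eq_of_subset_of_card_le (Finset.filter_subset _ _) h5
  have h7 : a ∈ Y := by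
    rw [h6]
    simp only [Z, Finset.mem_filter, Finset.mem_univ, true_and]
    exact ⟨ha, ha'⟩
  exact (Finset.mem_filter.mp h7).2

theorem exists_ne_fixed (hn : 1 ≤ n) {Q : Sylow p G} {c : G} (hc : c • Q = Q)
    (hc' : c ∉ (Q : Subgroup G)) : ∃ R : Sylow p G, Q ≠ R ∧ c • R = R := by
  have : Nontrivial (fixedBy (Sylow p G) c) :=
    Finite.one_lt_card_iff_nontrivial.mp (by rw [h.card_fixedBy h2 hc hc']; omega)
  obtain ⟨⟨R, hR⟩, hR'⟩ := exists_ne (⟨Q, hc⟩ : fixedBy (Sylow p G) c)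
  exact ⟨R, fun h3 => hR' (Subtype.ext h3.symm), hR⟩

theorem elem_of_two_le (hp2 : p ≠ 2) (he : 2 ∣ e) (hpe : p = e * (n + 1) + 1) (hn : 2 ≤ n)
    {Q : Sylow p G} {c : G} (hc : c • Q = Q) (hc2 : c * c = 1) (hc1 : c ≠ 1) :
    e = 2 ∧ ∀ a : G, a * c = c * a → a * a = 1 ∧ ∃ S : Sylow p G, a • S = S := by
  classical
  have := Fintype.ofFinite G
  obtain ⟨R, hQR, hc'⟩ := h.exists_ne_fixed h2 (by omega) hc (h.invol_not_mem hp2 hc2 hc1)
  have key := fun a => h.invol_of_mem_centralizer h2 hp2 he hpe hQR hc hc' hc2 hc1 (a := a)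
  let C : Finset G := Finset.univ.filter fun a => a * c = c * a
  let E : Finset G := Finset.univ.filter fun a => a • Q = Q ∧ a * c = c * a
  have hC : C.card = (n + 1) * e := by
    rw [← h.card_centralizer_invol h2 hp2 hc hc2 hc1, Nat.card_eq_fintype_card,
      Fintype.card_subtype]
    congr 1
    ext a
    simp [C, mem_centralizer_singleton_iff]
  have hE : E.card = e := by
    rw [← h2 Q R hQR, h.st_eq h2 hQR hc hc' hc1, Nat.card_eq_fintype_card,
      Fintype.card_subtype]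
    congr 1
    ext a
    simp [E, mem_centralizer_singleton_iff]
  have he0 : 0 < e := by
    rw [← h2 Q R hQR]
    exact Nat.card_pos
  have h3 : 3 * e ≤ (n + 1) * e := Nat.mul_le_mul_right e (by omega)
  obtain ⟨a, ha, ha'⟩ := Finset.exists_mem_notMem_of_card_lt_card (s := E) (t := C) (by omega)
  obtain ⟨b, hb, hb'⟩ := Finset.exists_mem_notMem_of_card_lt_card
    (s := E ∪ E.image (a * ·)) (t := C) (by
      have := Finset.card_union_le E (E.image (a * ·))
      have := Finset.card_image_le (s := E) (f := (a * ·))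
      omega)
  simp only [C, E, Finset.mem_filter, Finset.mem_univ, true_and, Finset.mem_union,
    Finset.mem_image, not_or, not_exists, not_and] at ha ha' hb hb'
  have ha1 : a • Q ≠ Q := fun h4 => ha' h4 ha
  have hb1 : b • Q ≠ Q := fun h4 => hb'.1 h4 hb
  have ha2 := (key a ha ha1).1
  have hb2 := (key b hb hb1).1
  have hab : a * b * c = c * (a * b) := by rw [mul_assoc, hb, ← mul_assoc, ha, mul_assoc]
  have hab1 : (a * b) • Q ≠ Q := fun h4 =>
    hb'.2 (a * b) ⟨h4, hab⟩ (by rw [← mul_assoc, ha2, one_mul])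
  have hab2 := (key _ hab hab1).1
  have hinv : ∀ u g : G, u * c = c * u → u • Q ≠ Q → g • Q = Q → g * c = c * g →
      u * g * u = g⁻¹ := fun u g hu hu' hg hg' =>
    eq_inv_of_mul_eq_one_left (by
      rw [mul_assoc]
      exact (key (u * g) (by rw [mul_assoc, hg', ← mul_assoc, hu, mul_assoc])
        (by rw [mul_smul, hg]; exact hu')).1)
  have hsq : ∀ g : G, g • Q = Q → g * c = c * g → g * g = 1 := by
    intro g hg hg'
    have e1 := hinv a g ha ha1 hg hg'
    have e2 := hinv b g hb hb1 hg hg'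
    have e3 := hinv _ g hab hab1 hg hg'
    have e4 : a * b = b * a := by
      calc a * b = (b * b) * a * b * (a * a) := by rw [ha2, hb2]; group
        _ = b * (b * a * b * a) * a := by group
        _ = b * (a * (a * b * (a * b)) * a) * a := by
          rw [show a * (a * b * (a * b)) * a = a * a * (b * a * b * a) by group, ha2, one_mul]
        _ = b * a := by rw [hab2, mul_one, ha2, mul_one]
    have e5 : g⁻¹ = g := by
      calc g⁻¹ = a * (b * g * b) * a := by
            rw [← e3]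
            nth_rewrite 2 [e4]
            group
        _ = a * (a * g * a) * a := by rw [e1, e2]
        _ = a * a * g * (a * a) := by group
        _ = g := by rw [ha2]; group
    nth_rewrite 1 [← e5]
    exact inv_mul_cancel g
  refine ⟨?_, fun g hg => ?_⟩
  · have h4 : E ⊆ {1, c} := by
      intro g hg
      simp only [E, Finset.mem_filter, Finset.mem_univ, true_and] at hg
      have h5 : g ∈ stabilizer G Q ⊓ centralizer ({c} : Set G) :=
        ⟨hg.1, mem_centralizer_singleton_iff.mpr hg.2⟩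
      rw [← h.st_eq h2 hQR hc hc' hc1] at h5
      by_cases h6 : g = 1
      · simp [h6]
      · simp [h.invol_unique hp2 hQR hc hc' hc2 hc1 hg.1 h5.2 (hsq g hg.1 hg.2) h6]
    have h5 := (Finset.card_le_card h4).trans Finset.card_le_two
    omega
  · by_cases h4 : g • Q = Q
    · exact ⟨hsq g h4 hg, Q, h4⟩
    · exact key g hg h4

/-- The configuration of `PSL(2, 2^m)`. -/
theorem exists_sylow_two (hp2 : p ≠ 2) (he : 2 ∣ e) (hpe : p = e * (n + 1) + 1) (hn : 2 ≤ n) :
    ∃ T : Sylow 2 G, Nat.card T + 1 = p ∧ ¬ IsCyclic (T : Subgroup G) ∧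
      ¬ (T : Subgroup G).Normal ∧ ∀ t : G, orderOf t = 2 →
        IsMulCommutative (centralizer ({t} : Set G)) ∧
          ∀ c ∈ centralizer ({t} : Set G), c ^ 2 = 1 := by
  obtain ⟨Q⟩ : Nonempty (Sylow p G) := inferInstance
  obtain ⟨⟨c, hc⟩, hc2⟩ := exists_prime_orderOf_dvd_card'
    (G := ↥(stabilizer G Q)) 2 (by rw [h.card_stab]; exact he.mul_left p)
  have hc : c • Q = Q := hc
  have hc3 : orderOf c = 2 := by rw [← hc2, ← Subgroup.orderOf_coe]
  have hinv : ∀ d : G, orderOf d = 2 → d * d = 1 ∧ d ≠ 1 := fun d hd =>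
    ⟨by rw [← pow_two, ← hd, pow_orderOf_eq_one], fun h3 => by simp [h3] at hd⟩
  obtain ⟨hc4, hc1⟩ := hinv c hc3
  obtain ⟨he2, key⟩ := h.elem_of_two_le h2 hp2 he hpe hn hc hc4 hc1
  have hC := h.card_centralizer_invol h2 hp2 hc hc4 hc1
  subst he2
  have hT : IsPGroup 2 (centralizer ({c} : Set G)) := fun g =>
    ⟨1, Subtype.ext (by
      simpa [pow_two] using (key g (mem_centralizer_singleton_iff.mp g.2)).1)⟩
  have hidx : (centralizer ({c} : Set G)).index = p * (2 * n + 1) := by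
    have h3 := (centralizer ({c} : Set G)).card_mul_index
    rw [hC, h.card_eq] at h3
    refine Nat.eq_of_mul_eq_mul_left (show 0 < (n + 1) * 2 by omega) ?_
    rw [h3]
    conv_lhs => rw [show n * p + 1 = (n + 1) * (2 * n + 1) by rw [hpe]; ring]
    ring
  have hT2 : ¬ 2 ∣ (centralizer ({c} : Set G)).index := by
    rw [hidx, hpe, Nat.prime_two.dvd_mul]
    omega
  refine ⟨hT.toSylow hT2, ?_, ?_, ?_, ?_⟩
  · show Nat.card (centralizer ({c} : Set G)) + 1 = p
    rw [hC, hpe, mul_comm]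
  · show ¬ IsCyclic (centralizer ({c} : Set G))
    intro h3
    obtain ⟨g, hg⟩ := isCyclic_iff_exists_orderOf_eq_natCard.mp h3
    have h4 : orderOf g ≤ 2 := orderOf_le_of_pow_eq_one two_pos (Subtype.ext (by
      simpa [pow_two] using (key g (mem_centralizer_singleton_iff.mp g.2)).1))
    omega
  · show ¬ (centralizer ({c} : Set G)).Normal
    intro h3
    obtain ⟨y, hy, hy1⟩ := h.exists_ne_one Q
    obtain ⟨x, -, hx⟩ := h.exists_conj_eq_mul hc (h.invol_not_mem hp2 hc4 hc1) hy
    have h4 : c ∈ centralizer ({c} : Set G) := mem_centralizer_singleton_iff.mpr rfl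
    have h5 := h3.conj_mem c h4 x
    rw [hx, Subgroup.mul_mem_cancel_left _ h4] at h5
    exact h.invol_not_mem hp2 (key y (mem_centralizer_singleton_iff.mp h5)).1 hy1 hy
  · intro t ht
    obtain ⟨ht2, ht1⟩ := hinv t ht
    obtain ⟨g, hg⟩ := exists_conj_mem_sylow_of_orderOf (hT.toSylow hT2) (k := 1) (y := t) ht
    obtain ⟨-, S, hS⟩ := key _ (mem_centralizer_singleton_iff.mp hg)
    have hS' : t • g • S = g • S := by
      rw [mul_smul, mul_smul, inv_smul_eq_iff] at hS
      exact hS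
    have key' := (h.elem_of_two_le h2 hp2 he hpe hn hS' ht2 ht1).2
    have h3 : ∀ a ∈ centralizer ({t} : Set G), a * a = 1 := fun a ha =>
      (key' a (mem_centralizer_singleton_iff.mp ha)).1
    refine ⟨⟨⟨fun a b => Subtype.ext ?_⟩⟩, fun a ha => by rw [pow_two, h3 a ha]⟩
    have e1 := h3 a a.2
    have e2 := h3 b b.2
    have e3 := h3 _ (mul_mem a.2 b.2)
    show (a : G) * b = b * a
    calc (a : G) * b = ((a : G) * b)⁻¹ := (inv_eq_of_mul_eq_one_right e3).symm
      _ = _ := by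
        rw [mul_inv_rev, inv_eq_of_mul_eq_one_right e1, inv_eq_of_mul_eq_one_right e2]

end design

/-- If the permutation character on the Sylow subgroups has norm at least `n + 1`, all two-point
stabilisers have order `e`. -/
theorem card_st_eq [Fintype G] (h : SC G p e n)
    (hs : Nat.card G * (n + 1) ≤ ∑ g : G, Nat.card (fixedBy (Sylow p G) g) ^ 2)
    (Q R : Sylow p G) (hQR : Q ≠ R) : Nat.card ↥(stabilizer G Q ⊓ stabilizer G R) = e := by
  by_contra hne
  have h3 := sum_card_fixedBy_sq_lt h.card_stab (fun _ _ => h.card_st_le) hQR hne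
  rw [h.np, add_tsub_cancel_right] at h3
  rw [h.card_eq] at hs
  have h4 : p * e * (n * p + 1) * (n + 1) = (n * p + 1) * (p * e + n * p * e) := by ring
  omega

omit hp [Finite G] in
theorem _root_.CL.BT.commutator_sup_eq_top (hperf : _root_.commutator G = ⊤) {H M : Subgroup G}
    [M.Normal] (hHM : H ⊔ M = ⊤) : ⁅H, H⁆ ⊔ M = ⊤ := by
  have hk : (QuotientGroup.mk' M).ker = M := QuotientGroup.ker_mk' M
  have h1 : H.map (QuotientGroup.mk' M) = (⊤ : Subgroup G).map (QuotientGroup.mk' M) := by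
    rw [map_eq_map_iff, hk, hHM, top_sup_eq]
  have h2 : ⁅H, H⁆.map (QuotientGroup.mk' M) = (⊤ : Subgroup G).map (QuotientGroup.mk' M) := by
    rw [map_commutator, h1, ← map_commutator, ← _root_.commutator_def, hperf]
  rw [map_eq_map_iff, hk, top_sup_eq] at h2
  exact h2

omit [Finite G] in
theorem eq_top_of_stabilizer_sup (h : SC G p e n) (hperf : _root_.commutator G = ⊤)
    {Q : Sylow p G} {M : Subgroup G} [M.Normal] (hM : stabilizer G Q ⊔ M = ⊤) : M = ⊤ := by
  have h1 : ⁅stabilizer G Q, stabilizer G Q⁆ ≤ (Q : Subgroup G) := by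
    rw [commutator_le]
    intro g hg k hk
    have := h.commutator_mem (inv_smul_eq_of hg) (inv_smul_eq_of hk)
    rw [commutatorElement_def]
    convert this using 1
    group
  have h2 : (Q : Subgroup G) ⊔ M = ⊤ :=
    eq_top_iff.mpr ((commutator_sup_eq_top hperf hM).ge.trans (sup_le_sup_right h1 M))
  have h3 : ⁅(Q : Subgroup G), (Q : Subgroup G)⁆ = ⊥ := by
    rw [eq_bot_iff, commutator_le]
    intro g hg k hk
    rw [mem_bot, commutatorElement_eq_one_iff_mul_comm]
    exact h.comm hg hk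
  have h4 := commutator_sup_eq_top hperf h2
  rwa [h3, bot_sup_eq] at h4

omit [Finite G] in
theorem one_le (h : SC G p e n) (hperf : _root_.commutator G = ⊤) : 1 ≤ n := by
  by_contra hn
  have hn0 : n = 0 := by omega
  obtain ⟨Q⟩ : Nonempty (Sylow p G) := inferInstance
  have hs : Subsingleton (Sylow p G) :=
    (Nat.card_eq_one_iff_unique.mp (by rw [h.np, hn0, zero_mul, zero_add])).1
  have h1 : (⊥ : Subgroup G) = ⊤ := h.eq_top_of_stabilizer_sup hperf (Q := Q) (by
    rw [sup_bot_eq, eq_top_iff]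
    exact fun g _ => Subsingleton.elim _ _)
  obtain ⟨y, -, hy⟩ := h.exists_ne_one Q
  exact hy (mem_bot.mp (h1 ▸ mem_top y))

theorem isSimpleGroup (h : SC G p e 1) (hperf : _root_.commutator G = ⊤) : IsSimpleGroup G := by
  obtain ⟨Q⟩ : Nonempty (Sylow p G) := inferInstance
  obtain ⟨y, hy, hy1⟩ := h.exists_ne_one Q
  have : Nontrivial G := ⟨⟨y, 1, hy1⟩⟩
  refine ⟨fun M hM => ?_⟩
  by_cases hM1 : M = ⊥
  · exact Or.inl hM1
  refine Or.inr (h.eq_top_of_stabilizer_sup hperf (Q := Q) ?_)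
  by_cases hyM : y ∈ M
  · rw [Sylow.stabilizer_eq_normalizer]
    exact Sylow.normalizer_sup_eq_top' Q (by rw [← h.zpowers_eq hy hy1, zpowers_le]; exact hyM)
  have hQM : ∀ x ∈ (Q : Subgroup G), x ∈ M → x = 1 := fun x hx hxM => by
    by_contra h1
    apply hyM
    have h2 : (Q : Subgroup G) ≤ M := by rw [← h.zpowers_eq hx h1, zpowers_le]; exact hxM
    exact h2 hy
  have hfix : ∀ m ∈ M, m • Q = Q → m = 1 := fun m hm hmQ => by
    refine hQM m (h.mem_of_comm hy hy1 ?_) hm
    have h1 := hQM (m * y * m⁻¹ * y⁻¹) (mul_mem (conj_mem_of_smul_eq hmQ hy) (inv_mem hy)) (by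
      rw [show m * y * m⁻¹ * y⁻¹ = m * (y * m⁻¹ * y⁻¹) by group]
      exact mul_mem hm (hM.conj_mem _ (inv_mem hm) y))
    calc m * y = m * y * m⁻¹ * y⁻¹ * (y * m) := by group
      _ = _ := by rw [h1, one_mul]
  have hinj : Function.Injective fun m : M => (m : G) • Q := fun a b hab => by
    have h1 : (a : G) • Q = (b : G) • Q := hab
    have := hfix ((b : G)⁻¹ * a) (mul_mem (inv_mem b.2) a.2) (by rw [mul_smul, h1, inv_smul_smul])
    exact Subtype.ext (inv_mul_eq_one.mp this).symm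
  obtain ⟨⟨m, hm⟩, hm1⟩ := ne_bot_iff_exists_ne_one.mp hM1
  have hm1' : m ≠ 1 := fun h1 => hm1 (Subtype.ext h1)
  have hinj2 : Function.Injective fun x : Option ↥(Q : Subgroup G) =>
      (Option.elim x 1 fun x => ⟨x * m * (x : G)⁻¹, hM.conj_mem m hm x⟩ : M) := by
    have h0 : ∀ x : G, x * m * x⁻¹ ≠ 1 := fun x hx => hm1' (by
      calc m = x⁻¹ * (x * m * x⁻¹) * x := by group
        _ = 1 := by rw [hx]; group)
    rintro (_ | a) (_ | b) hab
    · rfl
    · exact absurd (congrArg Subtype.val hab).symm (h0 b)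
    · exact absurd (congrArg Subtype.val hab) (h0 a)
    · have h1 : (a : G) * m * (a : G)⁻¹ = b * m * (b : G)⁻¹ := congrArg Subtype.val hab
      by_contra hne
      refine hm1' (hQM m (h.mem_of_comm (y := (b : G)⁻¹ * a) (mul_mem (inv_mem b.2) a.2)
        (fun h2 => hne ?_) ?_) hm)
      · rw [Subtype.ext (inv_mul_eq_one.mp h2)]
      · calc m * ((b : G)⁻¹ * a) = (b : G)⁻¹ * (b * m * (b : G)⁻¹) * a := by group
          _ = _ := by rw [← h1]; group
  have h1 := Nat.card_le_card_of_injective _ hinj2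
  rw [Finite.card_option, h.card_sylow] at h1
  have hb := hinj.bijective_of_nat_card_le (by rw [h.np]; omega)
  rw [eq_top_iff]
  intro g _
  obtain ⟨a, ha⟩ := hb.2 (g • Q)
  have ha' : (a : G) • Q = g • Q := ha
  rw [show g = a * ((a : G)⁻¹ * g) by group]
  exact mul_mem (mem_sup_right a.2)
    (mem_sup_left (show _ • Q = Q by rw [mul_smul, ← ha', inv_smul_smul]))

end SC

end CL.BT
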