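import Cfsg.Agent.Base
import Cfsg.Agent.Small.BTDeg
import Cfsg.Agent.Small.BTDesign

/-! The Brauer–Reynolds analysis of perfect groups with a self-centralising element of prime
order and few Sylow subgroups. -/

set_option autoImplicit false

open Cfsg CL.Char CL.D1 CL.Small Subgroup MulAction
open scoped ComplexConjugate

namespace CL.BT

variable {G : Type*} [Group G] [Finite G] {p : ℕ} [hp : Fact p.Prime] {z : G}

theorem not_sq_dvd_of_self_centralizing (hz : orderOf z = p)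
    (hC : centralizer ({z} : Set G) = zpowers z) : ¬ p ^ 2 ∣ Nat.card G := by
  obtain ⟨P, hP⟩ := exists_sylow_eq_zpowers_of_self_centralizing hz hC
  intro h
  rw [← (P : Subgroup G).card_mul_index, hP, card_zpowers_eq hz, pow_two,
    Nat.mul_dvd_mul_iff_left hp.out.pos, ← hP] at h
  exact P.not_dvd_index h

theorem exists_card_sylow_eq : ∃ n, Nat.card (Sylow p G) = n * p + 1 := by
  obtain ⟨n, hn⟩ := (Nat.modEq_iff_dvd' (Nat.card_pos (α := Sylow p G))).mp
    (card_sylow_modEq_one p G).symm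
  have := Nat.card_pos (α := Sylow p G)
  exact ⟨n, by rw [mul_comm, ← hn]; omega⟩

theorem sc_of_data (D : Data G p z) (hz : orderOf z = p)
    (hC : centralizer ({z} : Set G) = zpowers z) {n : ℕ}
    (hN : Nat.card (Sylow p G) = n * p + 1) : SC G p (Nat.card D.H) n := by
  have hP := not_sq_dvd_of_self_centralizing hz hC
  obtain ⟨P, hPz⟩ := exists_sylow_eq hz hP
  refine ⟨fun Q => ?_, fun x hx => centralizer_eq_zpowers_of_self_centralizing hz hC hx,
    fun Q => ?_, hN⟩
  · rw [Q.card_eq_multiplicity, ← P.card_eq_multiplicity, hPz, card_zpowers_eq hz]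
  · have h1 := card_eq_mul D hz hP
    rw [K_eq_bot D hz hC, card_bot, one_mul, ← (stabilizer G Q).card_mul_index,
      index_stabilizer_of_transitive, ← mul_assoc] at h1
    exact Nat.eq_of_mul_eq_mul_right Nat.card_pos h1

theorem SC.card_fixedBy_of_orderOf {e n : ℕ} (h : SC G p e n) {y : G} (hy : orderOf y = p) :
    Nat.card (fixedBy (Sylow p G) y) = 1 := by
  obtain ⟨Q⟩ : Nonempty (Sylow p G) := inferInstance
  obtain ⟨g, hg⟩ := exists_conj_mem_sylow_of_orderOf Q (k := 1) (y := y) (by rw [pow_one, hy])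
  have h1 : y ∈ ((g • Q : Sylow p G) : Subgroup G) := by
    have := Subgroup.smul_mem_pointwise_smul _ (MulAut.conj g) _ hg
    rw [Sylow.coe_subgroup_smul]
    simpa [mul_assoc] using this
  have h2 : y ≠ 1 := fun h3 => hp.out.ne_one (by rw [← hy, h3, orderOf_one])
  rw [Nat.card_eq_one_iff_exists]
  exact ⟨⟨g • Q, sylow_smul_self h1⟩, fun R => Subtype.ext (h.eq_of_smul h1 h2 R.2)⟩

/-- The norm of the permutation character on the Sylow subgroups. -/
theorem norm_perm_ge [Fintype G] (D : Data G p z) (hz : orderOf z = p)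
    (hC : centralizer ({z} : Set G) = zpowers z) {n : ℕ}
    (hN : Nat.card (Sylow p G) = n * p + 1) (hn : 0 < n)
    (hAm : ∀ χ ∈ Am D, deg (χ : G → ℂ) + 1 = p)
    (hθ : D.ε = -1 → deg (D.θ 1 : G → ℂ) = Nat.card D.H)
    (hO : ∑ χ ∈ Oth D, deg (χ : G → ℂ) ^ 2 = n * p ^ 2) :
    Nat.card G * (n + 1) ≤ ∑ g : G, Nat.card (fixedBy (Sylow p G) g) ^ 2 := by
  classical
  have hK := K_eq_bot D hz hC
  have h := sc_of_data D hz hC hN
  obtain ⟨P, hPz⟩ := exists_sylow_eq hz (not_sq_dvd_of_self_centralizing hz hC)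
  set π : G → ℂ := fun g => (Nat.card (fixedBy (Sylow p G) g) : ℂ) with hπ
  have hπc : IsCharacter G π := char_fixedBy _
  obtain ⟨c, hc, hsum⟩ := char_exists_eq_sum hπc
  have hp1 := hp.out.one_lt
  -- characters without fixed vectors do not occur
  have h0 : ∀ χ : IrrCharacter G, deg (χ : G → ℂ) + uu p z χ = 0 → c χ = 0 := by
    intro χ hχ
    have h1 := sum_eq_zero_of_deg_add_uu hz (irr_isCharacter χ.2) hχ (stabilizer G P)
      (sylow_smul_self (hPz ▸ mem_zpowers z))
    have h2 : π = indFun (stabilizer G P) (fun _ => 1) :=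
      funext fun g => card_fixedBy_eq_indFun _ P g
    have h3 := hc χ
    rw [char_inner_comm hπc (irr_isCharacter χ.2), h2,
      classInner_indFun_right _ _ (irr_isClassFunction χ.2), classInner_one_right, h1,
      mul_zero] at h3
    exact_mod_cast h3.symm
  have hAm0 : ∀ χ ∈ Am D, c χ = 0 := fun χ hχ => h0 χ (by
    rw [uu_A D hz ((mem_Am D).mp hχ).1, ((mem_Am D).mp hχ).2, ← hAm χ hχ]
    push_cast
    ring)
  have h1 : c (irrOne G) ≠ 0 := by
    intro h2
    have h3 := hc (irrOne G)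
    rw [h2, Nat.cast_zero, show (irrOne G : G → ℂ) = fun _ => 1 from rfl, classInner_one_right,
      mul_eq_zero, inv_eq_zero, ← Nat.cast_sum, Nat.cast_eq_zero, Nat.cast_eq_zero,
      Finset.sum_eq_zero_iff] at h3
    rcases h3 with h3 | h3
    · exact Nat.card_pos.ne' h3
    · have h4 := h3 1 (Finset.mem_univ _)
      rw [fixedBy_one_eq_univ, Nat.card_congr (Equiv.Set.univ _), hN] at h4
      omega
  -- the sum over the non-identity elements of `P`
  have h2 : uu p z π = p - 1 := by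
    rw [uu, Finset.sum_congr rfl (g := fun _ => (1 : ℂ)) fun a _ => by
      simp only [hπ, h.card_fixedBy_of_orderOf (orderOf_zp hz a.ne_zero), Nat.cast_one],
      Finset.sum_const, Finset.card_univ, nsmul_eq_mul, card_units_cast, mul_one]
  have h3 : (c (irrOne G) : ℤ) * (p - 1) + (∑ χ ∈ Ap D, c χ : ℕ) * (p - 1) +
      (∑ χ ∈ Th D, c χ : ℕ) * (D.ε * Nat.card D.H) = p - 1 := by
    rw [hsum, uu_sum, sum_split D, sum_A_split, uu_A D hz D.one_mem_A, D.δ_one,
      Finset.sum_congr (s₁ := Ap D) rfl (g := fun χ => (c χ : ℂ) * (p - 1)) fun χ hχ => by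
        rw [uu_A D hz ((mem_Ap D).mp hχ).1, ((mem_Ap D).mp hχ).2.1]; simp,
      Finset.sum_eq_zero (s := Am D) fun χ hχ => by rw [hAm0 χ hχ]; simp,
      Finset.sum_congr (s₁ := Th D) rfl (g := fun χ => (c χ : ℂ) * (D.ε * Nat.card D.H))
        fun χ hχ => by
          obtain ⟨a, rfl⟩ := (mem_Th D).mp hχ
          rw [uu_θ],
      Finset.sum_eq_zero (s := Oth D) fun χ hχ => by rw [uu_Oth D hK hχ, mul_zero],
      ← Finset.sum_mul, ← Finset.sum_mul] at h2
    have h4 : (((c (irrOne G) : ℤ) * (p - 1) + (∑ χ ∈ Ap D, c χ : ℕ) * (p - 1) +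
      (∑ χ ∈ Th D, c χ : ℕ) * (D.ε * Nat.card D.H) : ℤ) : ℂ) = ((p - 1 : ℤ) : ℂ) := by
      push_cast at h2 ⊢
      linear_combination h2
    exact Int.cast_injective h4
  have h4 : c (irrOne G) = 1 ∧ ∑ χ ∈ Ap D, c χ = 0 ∧ ∑ χ ∈ Th D, c χ = 0 := by
    have h5 : (0 : ℤ) < Nat.card D.H := by exact_mod_cast card_H_pos D
    have h6 : (1 : ℤ) ≤ c (irrOne G) := by omega
    have h7 : (1 : ℤ) ≤ p - 1 := by omega
    rcases D.ε_sign with hε | hε
    · rw [hε] at h3
      generalize ∑ χ ∈ Ap D, c χ = u at *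
      generalize ∑ χ ∈ Th D, c χ = v at *
      have e1 : (0 : ℤ) ≤ (c (irrOne G) - 1) * (p - 1) := by positivity
      have e2 : (0 : ℤ) ≤ u * (p - 1) := by positivity
      have e3 : (0 : ℤ) ≤ v * Nat.card D.H := by positivity
      have e4 : ((c (irrOne G) : ℤ) - 1) * (p - 1) = 0 := by nlinarith
      have e5 : (u : ℤ) * (p - 1) = 0 := by nlinarith
      have e6 : (v : ℤ) * Nat.card D.H = 0 := by nlinarith
      rw [mul_eq_zero] at e4 e5 e6
      omega
    · have h8 : ∑ χ ∈ Th D, c χ = 0 := Finset.sum_eq_zero fun χ hχ => h0 χ (by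
        obtain ⟨a, rfl⟩ := (mem_Th D).mp hχ
        rw [uu_θ, deg_θ_eq, hθ hε, hε]
        push_cast
        ring)
      rw [h8] at h3
      generalize ∑ χ ∈ Ap D, c χ = u at *
      have e4 : ((c (irrOne G) : ℤ) + u - 1) * (p - 1) = 0 := by
        push_cast at h3
        linear_combination h3
      rw [mul_eq_zero] at e4
      omega
  obtain ⟨h5, h6, h7⟩ := h4
  rw [Finset.sum_eq_zero_iff] at h6 h7
  have h8 : ∀ f : IrrCharacter G → ℕ, ∑ χ, c χ * f χ = f (irrOne G) + ∑ χ ∈ Oth D, c χ * f χ := by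
    intro f
    rw [sum_split D, sum_A_split, h5, one_mul,
      Finset.sum_eq_zero (s := Ap D) fun χ hχ => by rw [h6 χ hχ, zero_mul],
      Finset.sum_eq_zero (s := Am D) fun χ hχ => by rw [hAm0 χ hχ, zero_mul],
      Finset.sum_eq_zero (s := Th D) fun χ hχ => by rw [h7 χ hχ, zero_mul]]
    simp
  have h9 : ∑ χ ∈ Oth D, c χ * deg (χ : G → ℂ) = n * p := by
    have e1 : π 1 = (∑ χ, c χ * deg (χ : G → ℂ) : ℕ) := by
      conv_lhs => rw [hsum]
      simp only [Finset.sum_apply, Pi.smul_apply, smul_eq_mul, Nat.cast_sum, Nat.cast_mul,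
        fun χ : IrrCharacter G => irr_cast_deg χ.2]
    rw [h8, deg_irrOne, hπ] at e1
    simp only [fixedBy_one_eq_univ, Nat.card_congr (Equiv.Set.univ _), hN, Nat.cast_inj] at e1
    omega
  have h10 := Finset.sum_mul_sq_le_sq_mul_sq (Oth D) c fun χ => deg (χ : G → ℂ)
  rw [h9, hO] at h10
  have h11 : n ≤ ∑ χ ∈ Oth D, c χ ^ 2 := by
    refine Nat.le_of_mul_le_mul_right (c := n * p ^ 2) (le_trans (le_of_eq ?_) h10) (by positivity)
    ring
  have h12 : ∑ g : G, Nat.card (fixedBy (Sylow p G) g) ^ 2 = Nat.card G * ∑ χ, c χ * c χ := by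
    have e1 := card_mul_classInner π π
    rw [classInner_eq_sum (char_isClassFunction hπc)] at e1
    simp only [hc] at e1
    simp only [hπ, map_natCast] at e1
    simp only [pow_two]
    exact_mod_cast e1.symm
  rw [h12, h8, h5]
  refine Nat.mul_le_mul_left _ ?_
  simp only [← pow_two]
  omega

theorem num_pos {p q n e t a b x s w : ℕ} (hq : p = q + 1) (hodd : Odd p)
    (hs : x + e = (s + 1) * p) (hθ : t * x = n * p + 1) (het : e * t + 1 = p)
    (heab : e = 1 + a + b) (hdeg : 1 + a * (n * p + 1) + 1 * x = b * q)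
    (hsq : p * e * (n * p + 1) = 1 ^ 2 + a * (n * p + 1) ^ 2 + b * q ^ 2 + t * x ^ 2 + w) :
    w = n * p ^ 2 ∧ n + 1 < p ∧ (n + 1 ∣ e * t → p = e * (n + 1) + 1 ∧ 2 ∣ e) := by
  have hp0 : 0 < p := by omega
  have e1 : t * (s + 1) = n + 1 := by
    refine Nat.eq_of_mul_eq_mul_right hp0 ?_
    zify at hs hθ het ⊢
    linear_combination -(t : ℤ) * hs + hθ + het
  have e2 : b = a * n + (s + 1) := by
    refine Nat.eq_of_mul_eq_mul_right hp0 ?_
    zify at hs heab hq hdeg ⊢
    linear_combination -hdeg + hs - heab + (b : ℤ) * hq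
  have e3 : (n + 1) * e = (s + 1) * q := by
    zify at e1 het hq ⊢
    linear_combination -(e : ℤ) * e1 + (s + 1 : ℤ) * het + (s + 1 : ℤ) * hq
  have e4 : e = (s + 1) * (a * t + 1) + 1 := by
    zify at heab e1 e2 ⊢
    linear_combination heab + e2 - (a : ℤ) * e1
  have ht0 : 0 < t := Nat.pos_of_ne_zero fun h0 => by rw [h0] at e1; omega
  refine ⟨?_, ?_, fun e5 => ?_⟩
  · subst e2
    zify at hsq hθ hs heab e3 hq ⊢
    rw [show (q : ℤ) = p - 1 by omega] at hsq e3
    linear_combination -hsq - (x : ℤ) * hθ - (n * p + 1 : ℤ) * hs +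
      (n * p ^ 2 + 1 : ℤ) * heab + (p : ℤ) * e3
  · have : s + 1 ≤ e := by rw [e4]; nlinarith
    have := Nat.mul_le_mul_left t this
    rw [mul_comm t e] at this
    omega
  rw [← e1, mul_comm e, Nat.mul_dvd_mul_iff_left ht0, e4,
    Nat.dvd_add_right (dvd_mul_right _ _), Nat.dvd_one] at e5
  have e6 : t = n + 1 := by rw [← e1, e5, mul_one]
  refine ⟨by rw [← e6, het], ?_⟩
  rw [← het, Nat.odd_add_one, Nat.not_odd_iff_even, Nat.even_mul] at hodd
  rcases hodd with h2 | ⟨k, h2⟩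
  · exact h2.two_dvd
  · exact ⟨a * k + 1, by rw [e4, e5, h2]; ring⟩

theorem num_neg {p q n e t a b w : ℕ} (hq : p = q + 1) (he2 : 2 ≤ e) (hn1 : 1 ≤ n)
    (het : e * t + 1 = p) (heab : e = 1 + a + b) (hdeg : 1 + a * (n * p + 1) = b * q + e)
    (hsq : p * e * (n * p + 1) = 1 ^ 2 + a * (n * p + 1) ^ 2 + b * q ^ 2 + t * e ^ 2 + w)
    (hAle : 2 ≤ t → b * q ≤ e ^ 2) (ht0 : 0 < t) :
    w = n * p ^ 2 ∧ n + 1 < p ∧ (n + 1 ∣ e * t → p = e * (n + 1) + 1 ∧ n = 1) := by
  have hp0 : 0 < p := by omega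
  have e2 : b = a * n := by
    refine Nat.eq_of_mul_eq_mul_right hp0 ?_
    zify at heab hq hdeg ⊢
    linear_combination -hdeg - heab + (b : ℤ) * hq
  subst e2
  have ha : 1 ≤ a := Nat.pos_of_ne_zero fun h0 => by rw [h0] at heab; omega
  have e3 : e = (n + 1) * a + 1 := by rw [heab]; ring
  refine ⟨?_, ?_, fun e5 => ?_⟩
  · zify at hsq heab het hq ⊢
    rw [show (q : ℤ) = p - 1 by omega] at hsq
    linear_combination -hsq - (e : ℤ) * het + (n * p ^ 2 + 1 : ℤ) * heab
  · have h1 := Nat.le_mul_of_pos_right (n + 1) ha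
    have h2 := Nat.le_mul_of_pos_right e ht0
    omega
  have e6 : n + 1 ∣ t := (show Nat.Coprime (n + 1) e by
    rw [e3, add_comm ((n + 1) * a), Nat.coprime_add_mul_left_right]
    exact Nat.coprime_one_right _).dvd_of_dvd_mul_left e5
  have e7 := Nat.le_of_dvd ht0 e6
  have e8 : a * n * t ≤ e := by
    refine Nat.le_of_mul_le_mul_right (c := e) ?_ (by omega)
    have := hAle (by omega)
    rw [show q = e * t by omega] at this
    nlinarith
  have e9 : n = 1 := by
    by_contra h0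
    have h1 : 2 ≤ n := by omega
    have h2 : a * 2 * (n + 1) ≤ a * n * t := Nat.mul_le_mul (Nat.mul_le_mul_left a h1) e7
    nlinarith
  subst e9
  obtain ⟨k, rfl⟩ := e6
  have e10 : k = 1 := by
    by_contra h0
    have h1 : 2 ≤ k := by omega
    nlinarith
  subst e10
  exact ⟨by omega, rfl⟩

theorem structure_of_data (D : Data G p z) (hperf : _root_.commutator G = ⊤) (hz : orderOf z = p)
    (hC : centralizer ({z} : Set G) = zpowers z)
    (hn : 2 * Nat.card (Sylow p G) < (p + 1) * (p + 2)) :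
    3 < p ∧ ((IsSimpleGroup G ∧ 2 * Nat.card G = p * (p ^ 2 - 1)) ∨
      ∃ T : Sylow 2 G, Nat.card T + 1 = p ∧ ¬ IsCyclic (T : Subgroup G) ∧
        ¬ (T : Subgroup G).Normal ∧ ∀ t : G, orderOf t = 2 →
          IsMulCommutative (centralizer ({t} : Set G)) ∧
            ∀ c ∈ centralizer ({t} : Set G), c ^ 2 = 1) := by
  have := Fintype.ofFinite G
  obtain ⟨n, hN⟩ := exists_card_sylow_eq (G := G) (p := p)
  have hP := not_sq_dvd_of_self_centralizing hz hC
  have hK := K_eq_bot D hz hC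
  have h := sc_of_data D hz hC hN
  have hn1 := h.one_le hperf
  have hp1 := hp.out.one_lt
  have hn' : 2 * n < p + 3 := by
    rw [hN] at hn
    exact Nat.lt_of_mul_lt_mul_right (a := p) (by nlinarith)
  have hsize : Nat.card D.K * p < (p - 1) * (n * p + 1) := by
    rw [hK, card_bot, one_mul]
    calc p < 1 * (1 * p + 1) := by omega
      _ ≤ _ := Nat.mul_le_mul (by omega) (Nat.succ_le_succ (Nat.mul_le_mul_right p hn1))
  have hAp := fun χ => small_Ap D hperf hz hP hN hn' hsize (χ := χ)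
  have hAm := fun χ => small_Am D hz hP hN hn' hsize (χ := χ)
  have hθp := small_θ_pos D hperf hz hP hN hn' hsize
  have hθm := small_θ_neg D hz hP hN hn' hsize
  have he2 := two_le_card_H D hperf
  have het := card_mul_index_add_one D
  have heab := card_H_eq D
  have hdeg := degree_eq' D
  have hsq := sum_deg_sq_split D
  obtain ⟨q, hq⟩ : ∃ q, p = q + 1 := ⟨p - 1, by omega⟩
  have hAm' : ∀ χ ∈ Am D, deg (χ : G → ℂ) = q := fun χ hχ => by have := hAm χ hχ; omega
  have hS : ∀ f : ℕ → ℕ, ∑ χ ∈ Ap D, f (deg (χ : G → ℂ)) = (Ap D).card * f (n * p + 1) ∧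
      ∑ χ ∈ Am D, f (deg (χ : G → ℂ)) = (Am D).card * f q := fun f =>
    ⟨by rw [Finset.sum_congr rfl fun χ hχ => by rw [hAp χ hχ], Finset.sum_const, smul_eq_mul],
      by rw [Finset.sum_congr rfl fun χ hχ => by rw [hAm' χ hχ], Finset.sum_const, smul_eq_mul]⟩
  have hAle := sum_Am_le D
  rw [(hS fun x => x).1, (hS fun x => x).2] at hdeg
  rw [(hS fun x => x).2] at hAle
  rw [sum_A_split, (hS fun x => x ^ 2).1, (hS fun x => x ^ 2).2, deg_irrOne, h.card_eq] at hsq
  have hnorm := norm_perm_ge D hz hC hN hn1 hAm hθm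
  have hs := deg_θ_pos D hz
  have hε := D.ε_sign
  generalize ∑ χ ∈ Oth D, deg (χ : G → ℂ) ^ 2 = w at *
  generalize (Ap D).card = a at *
  generalize (Am D).card = b at *
  generalize deg (D.θ 1 : G → ℂ) = x at *
  generalize D.H.index = t at *
  generalize Nat.card D.H = e at *
  generalize D.ε = ε at *
  have key : w = n * p ^ 2 → (∀ Q R : Sylow p G, Q ≠ R →
      Nat.card ↥(stabilizer G Q ⊓ stabilizer G R) = e) ∧ (n + 1 < p → n + 1 ∣ e * t) := by
    intro hw
    have h2 := h.card_st_eq (hnorm hw)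
    refine ⟨h2, fun hlt => ?_⟩
    have h3 := h.succ_dvd h2 he2 hn1
    have h4 : Nat.Coprime (n + 1) p :=
      ((Nat.Prime.coprime_iff_not_dvd hp.out).mpr (Nat.not_dvd_of_pos_of_lt (by omega) hlt)).symm
    have h5 := h4.dvd_of_dvd_mul_right h3
    exact (Nat.dvd_add_right h5).mp ⟨p, by linear_combination het⟩
  have hfin : p = e * (n + 1) + 1 → (n = 1 ∨ 2 ∣ e) → w = n * p ^ 2 →
      3 < p ∧ ((IsSimpleGroup G ∧ 2 * Nat.card G = p * (p ^ 2 - 1)) ∨
      ∃ T : Sylow 2 G, Nat.card T + 1 = p ∧ ¬ IsCyclic (T : Subgroup G) ∧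
        ¬ (T : Subgroup G).Normal ∧ ∀ t : G, orderOf t = 2 →
          IsMulCommutative (centralizer ({t} : Set G)) ∧
            ∀ c ∈ centralizer ({t} : Set G), c ^ 2 = 1) := by
    intro h1 h2 hw
    have h3 : 3 < p := by nlinarith
    refine ⟨h3, ?_⟩
    by_cases hn2 : n = 1
    · subst hn2
      refine Or.inl ⟨h.isSimpleGroup hperf, ?_⟩
      rw [h.card_eq, show p ^ 2 - 1 = 2 * e * (p + 1) from
        Nat.sub_eq_of_eq_add (by rw [h1]; ring)]
      ring
    · exact Or.inr (h.exists_sylow_two (key hw).1 (by omega) (h2.resolve_left hn2) h1 (by omega))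
  have hodd : Odd p := hp.out.odd_of_ne_two fun h2 => by
    rw [h2] at het
    have := Nat.eq_one_of_mul_eq_one_right (show e * t = 1 by omega)
    omega
  rcases hε with rfl | rfl
  · obtain ⟨s, hs⟩ := hs rfl
    obtain ⟨hw, h1, h2⟩ := num_pos hq hodd hs (hθp rfl) het heab (by exact_mod_cast hdeg) hsq
    obtain ⟨h3, h4⟩ := h2 ((key hw).2 h1)
    exact hfin h3 (Or.inr h4) hw
  · have hθ := hθm rfl
    subst hθ
    obtain ⟨hw, h1, h2⟩ := num_neg hq he2 hn1 het heab (by omega) hsq hAle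
      (Nat.pos_of_ne_zero fun h0 => by rw [h0] at het; omega)
    obtain ⟨h3, h4⟩ := h2 ((key hw).2 h1)
    exact hfin h3 (Or.inl h4) hw

end CL.BT
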