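import Cfsg.Agent.Base
import Cfsg.Agent.Small.BTDeg
import Cfsg.Agent.D1.Gram
import Cfsg.Agent.Char.FS
import Cfsg.Agent.Blocks.Center
import Cfsg.Agent.Blocks.LocalRingP
import Cfsg.Agent.S0907
import Cfsg.Agent.S0910

/-! Block separation and exterior squares for the Brauer–Tuan theorem. -/

set_option autoImplicit false

open Cfsg CL.Char CL.D1 CL.Blocks Subgroup
open scoped ComplexConjugate

namespace CL.BT

variable {G : Type*} [Group G] [Finite G] {p : ℕ} [hp : Fact p.Prime] {z : G} (D : Data G p z)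

theorem exists_conj_eq_zp (hz : orderOf z = p) (hP : ¬ p ^ 2 ∣ Nat.card G) (hK : D.K = ⊥) {g : G}
    (hg : p ∣ orderOf g) : ∃ a : ZMod p, a ≠ 0 ∧ IsConj g (zp z a) := by
  obtain ⟨x, a, y, ha, hy, hy', h⟩ := exists_conj_eq_zp_mul hz hP hg
  have h1 : y ∈ D.K := (D.mem_K y).mpr ⟨hy, hy'⟩
  rw [hK, mem_bot] at h1
  rw [h1, mul_one] at h
  exact ⟨a, ha, isConj_iff.mpr ⟨x, h⟩⟩

open Classical in
/-- Block separation. -/
theorem block_sep (hz : orderOf z = p) (hK : D.K = ⊥) {q : ℕ} [Fact q.Prime] (hpq : p ≠ q)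
    {M : Ideal AlgInt} (hM : IsPModular q M) {B : Set (IrrCharacter G)} (hB : IsPBlock M B)
    (hθ : ∀ a, D.θ a ∉ B) (S : Sylow q G) :
    (Nat.card S : ℤ) ∣ ∑ χ ∈ D.A.filter (· ∈ B), D.δ χ * deg (χ : G → ℂ) := by
  have := Fintype.ofFinite (S : Subgroup G)
  have h1 : ∀ y : G, q ∣ orderOf y →
      ∑ χ ∈ D.A.filter (· ∈ B), (D.δ χ : ℂ) * (χ : G → ℂ) y = 0 := by
    intro y hy
    have h2 := Cfsg.Agent.S0907.result q M hM B hB z y (by
      rw [hz, Nat.prime_dvd_prime_iff_eq Fact.out hp.out]; exact hpq.symm) hy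
    rw [finsum_mem_def, finsum_eq_sum_of_fintype, sum_split D,
      Finset.sum_eq_zero (s := Th D) fun χ hχ => by
        obtain ⟨a, rfl⟩ := (mem_Th D).mp hχ
        exact Set.indicator_of_notMem (hθ a) _,
      Finset.sum_eq_zero (s := Oth D) fun χ hχ => by
        have h3 := Oth_zp D hK hχ one_ne_zero
        rw [zp_one hz] at h3
        simp [Set.indicator_apply, h3], add_zero, add_zero] at h2
    have h3 := congrArg conj h2
    rw [map_sum, map_zero] at h3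
    rw [← h3, Finset.sum_filter]
    refine Finset.sum_congr rfl fun χ hχ => ?_
    rw [Set.indicator_apply, D.apply_A χ hχ z (hz ▸ dvd_rfl)]
    split_ifs <;> simp
  choose m hm using fun χ : IrrCharacter G =>
    char_sum_subgroup_nat (S : Subgroup G) (irr_isCharacter χ.2)
  have h2 : ∑ y : (S : Subgroup G), ∑ χ ∈ D.A.filter (· ∈ B), (D.δ χ : ℂ) * (χ : G → ℂ) y =
      ∑ χ ∈ D.A.filter (· ∈ B), (D.δ χ : ℂ) * deg (χ : G → ℂ) := by
    rw [Finset.sum_eq_single 1]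
    · simp only [coe_one, fun χ : IrrCharacter G => irr_cast_deg χ.2]
    · intro y _ hy
      obtain ⟨k, hk⟩ := IsPGroup.iff_orderOf.mp S.isPGroup' y
      refine h1 y ?_
      rw [Subgroup.orderOf_coe, hk]
      refine dvd_pow_self q fun h0 => hy ?_
      rwa [h0, pow_zero, orderOf_eq_one_iff] at hk
    · simp
  rw [Finset.sum_comm] at h2
  simp only [← Finset.mul_sum, hm] at h2
  refine ⟨∑ χ ∈ D.A.filter (· ∈ B), D.δ χ * m χ, Int.cast_injective (α := ℂ) ?_⟩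
  push_cast
  rw [← h2, Finset.mul_sum]
  exact Finset.sum_congr rfl fun χ _ => by ring

theorem sum_δ_deg_ne_zero (hz : orderOf z = p) {R : Finset (IrrCharacter G)} (hR : R ⊆ D.A)
    (hne : R.Nonempty) : ∑ χ ∈ R, D.δ χ * deg (χ : G → ℂ) ≠ 0 := by
  intro h0
  have h1 : (p : ℤ) ∣ ∑ χ ∈ R, (D.δ χ * deg (χ : G → ℂ) - 1) := Finset.dvd_sum fun χ hχ => by
    obtain ⟨m, hm⟩ := deg_A D hz (hR hχ)
    refine ⟨D.δ χ * m - 1, ?_⟩
    rcases D.δ_sign χ (hR hχ) with h | h <;> rw [h] at hm ⊢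
    · linear_combination hm
    · linear_combination -hm
  rw [Finset.sum_sub_distrib, h0, Finset.sum_const, zero_sub, dvd_neg, nsmul_eq_mul, mul_one,
    Int.natCast_dvd_natCast] at h1
  have h2 := Nat.le_of_dvd hne.card_pos h1
  have h3 := Finset.card_le_card hR
  have h4 := card_mul_index_add_one D
  have h5 := Nat.le_mul_of_pos_right (Nat.card D.H)
    (Nat.pos_of_ne_zero (index_ne_zero_of_finite (H := D.H)))
  rw [D.card_A] at h3
  omega

theorem abs_sum_δ_deg_le (ht : 2 ≤ D.H.index) {R : Finset (IrrCharacter G)} (hR : R ⊆ D.A) :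
    |∑ χ ∈ R, D.δ χ * deg (χ : G → ℂ)| ≤ deg (D.θ 1 : G → ℂ) ^ 2 := by
  have h1 : ∀ s : ℤ, ((∑ χ ∈ R.filter fun χ => D.δ χ = s, deg (χ : G → ℂ) : ℕ) : ℤ) ≤
      deg (D.θ 1 : G → ℂ) ^ 2 := fun s => by
    exact_mod_cast (Finset.sum_le_sum_of_subset (Finset.filter_subset_filter _ hR)).trans
      (sum_deg_sign_le D ht s)
  have h2 : ∑ χ ∈ R, D.δ χ * deg (χ : G → ℂ) =
      (∑ χ ∈ R.filter fun χ => D.δ χ = 1, deg (χ : G → ℂ) : ℕ) -
        (∑ χ ∈ R.filter fun χ => D.δ χ = -1, deg (χ : G → ℂ) : ℕ) := by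
    push_cast
    rw [Finset.sum_filter, Finset.sum_filter, ← Finset.sum_sub_distrib]
    refine Finset.sum_congr rfl fun χ hχ => ?_
    rcases D.δ_sign χ (hR hχ) with h | h <;> rw [h] <;> norm_num
  rw [h2, abs_le]
  have := h1 1
  have := h1 (-1)
  omega

theorem sameBlock_θ (hz : orderOf z = p) (hP : ¬ p ^ 2 ∣ Nat.card G) (hK : D.K = ⊥) {q : ℕ}
    {M : Ideal AlgInt} (hM : IsPModular q M)
    (hq : q * deg (D.θ 1 : G → ℂ) ∣ (centralizer ({z} : Set G)).index) (a b : (ZMod p)ˣ) :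
    SameBlock M (D.θ a : G → ℂ) (D.θ b) := by
  have := hM.2.1
  intro g
  rw [centralChar, centralChar, ← irr_cast_deg (D.θ a).2, ← irr_cast_deg (D.θ b).2, deg_θ_eq,
    deg_θ_eq D b]
  by_cases hg : p ∣ orderOf g
  · obtain ⟨j, hj, hc⟩ := exists_conj_eq_zp D hz hP hK hg
    obtain ⟨m, hm⟩ := hq
    have h1 : (centralizer ({g} : Set G)).index = (centralizer ({z} : Set G)).index := by
      refine Nat.eq_of_mul_eq_mul_left (Nat.card_pos (α := centralizer ({g} : Set G))) ?_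
      rw [Subgroup.card_mul_index, card_centralizer_eq_of_isConj hc, centralizer_zp hz hj,
        Subgroup.card_mul_index]
    have h2 : (deg (D.θ 1 : G → ℂ) : ℂ) ≠ 0 := Nat.cast_ne_zero.mpr (irr_deg_pos (D.θ 1).2).ne'
    rw [h1, hm, show ((q * deg (D.θ 1 : G → ℂ) * m : ℕ) : ℂ) * (D.θ a : G → ℂ) g /
        deg (D.θ 1 : G → ℂ) - ((q * deg (D.θ 1 : G → ℂ) * m : ℕ) : ℂ) * (D.θ b : G → ℂ) g /
        deg (D.θ 1 : G → ℂ) = q * (m * ((D.θ a : G → ℂ) g - (D.θ b : G → ℂ) g)) by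
      push_cast; field_simp]
    exact memLocalIdeal_mul_right (memLocalIdeal_p hM) (memLocalRing_mul (memLocalRing_natCast m)
      (memLocalRing_sub (memLocalRing_irr_apply _ g) (memLocalRing_irr_apply _ g)))
  · rw [θ_eq_of_reg D a b hg, sub_self]
    exact memLocalIdeal_zero

theorem exists_card_sylow_le [IsSimpleGroup G] (hnc : ¬ IsMulCommutative G) (hz : orderOf z = p)
    (hP : ¬ p ^ 2 ∣ Nat.card G) (hK : D.K = ⊥) {q : ℕ} [Fact q.Prime] (hpq : p ≠ q)
    (hq : q * deg (D.θ 1 : G → ℂ) ∣ (centralizer ({z} : Set G)).index)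
    (hA : ∀ χ ∈ D.A, χ ≠ irrOne G → q ∣ deg (χ : G → ℂ)) {χ₀ : IrrCharacter G} (h0 : χ₀ ∈ D.A)
    (h1 : χ₀ ≠ irrOne G) {k : ℕ} (hk : deg (χ₀ : G → ℂ) = q ^ k) (S : Sylow q G) :
    ∃ R ⊆ D.A, irrOne G ∉ R ∧ χ₀ ∈ R ∧
      (Nat.card S : ℤ) ≤ |∑ χ ∈ R, D.δ χ * deg (χ : G → ℂ)| := by
  classical
  obtain ⟨M, hM⟩ := exists_isPModular (p := q) Fact.out
  have := hM.2.1
  have h2 : ¬ SameBlock M (irrOne G : G → ℂ) χ₀ := fun h => h1 (Subtype.ext
    (Cfsg.Agent.S0910.result q M hM (by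
      by_contra h3
      push Not at h3
      exact hnc ⟨⟨h3⟩⟩) χ₀ h k (by rw [← irr_cast_deg χ₀.2, hk, Nat.cast_pow])))
  have h3 : ∃ a, D.θ a ∈ blockOf M (irrOne G : G → ℂ) := by
    by_contra h4
    push Not at h4
    have h5 := block_sep D hz hK hpq hM (isPBlock_blockOf (irrOne G)) h4 S
    have h6 : irrOne G ∈ D.A.filter (· ∈ blockOf M (irrOne G : G → ℂ)) :=
      Finset.mem_filter.mpr ⟨D.one_mem_A, self_mem_blockOf _⟩
    have h7 : (q : ℤ) ∣ Nat.card S := by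
      rw [Int.natCast_dvd_natCast]
      exact S.dvd_card_of_dvd_card ((dvd_of_mul_right_dvd hq).trans (index_dvd_card _))
    have h8 := h7.trans h5
    rw [← Finset.add_sum_erase _ _ h6, D.δ_one, deg_irrOne,
      dvd_add_left (Finset.dvd_sum fun χ hχ => (Int.natCast_dvd_natCast.mpr
        (hA χ (Finset.mem_filter.mp (Finset.mem_erase.mp hχ).2).1
          (Finset.mem_erase.mp hχ).1)).mul_left _), one_mul, Int.natCast_dvd_natCast,
      Nat.dvd_one] at h8
    exact (Fact.out : q.Prime).ne_one h8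
  obtain ⟨a, ha⟩ := h3
  have h4 : ∀ b, D.θ b ∉ blockOf M (χ₀ : G → ℂ) := fun b hb => h2
    (sameBlock_trans (sameBlock_trans ha (sameBlock_θ D hz hP hK hM hq a b)) (sameBlock_symm hb))
  have h5 : χ₀ ∈ D.A.filter (· ∈ blockOf M (χ₀ : G → ℂ)) :=
    Finset.mem_filter.mpr ⟨h0, self_mem_blockOf _⟩
  refine ⟨D.A.filter (· ∈ blockOf M (χ₀ : G → ℂ)), Finset.filter_subset _ _,
    fun h => h2 (sameBlock_symm (Finset.mem_filter.mp h).2), h5, ?_⟩
  exact Int.le_of_dvd (abs_pos.mpr (sum_δ_deg_ne_zero D hz (Finset.filter_subset _ _) ⟨_, h5⟩))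
    ((dvd_abs _ _).mpr (block_sep D hz hK hpq hM (isPBlock_blockOf χ₀) h4 S))

section dihedral

omit [Finite G] in
theorem char_dihedral (hz : orderOf z = p) (hp2 : p ≠ 2) {c : G} (hc : c * c = 1)
    (hcz : ∀ a : ZMod p, c * zp z a * c⁻¹ = zp z (-a)) {ψ : G → ℂ} (hψ : IsCharacter G ψ)
    {s : ℂ} (hs : s * s = 1) : ∃ m : ℕ, deg ψ + uu p z ψ + s * p * ψ c = 2 * p * m := by
  have hci : c⁻¹ = c := inv_eq_of_mul_eq_one_right hc
  have h1 : ∀ a : ZMod p, zp z a * c = c * zp z (-a) := fun a => by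
    have := hcz (-a)
    rw [neg_neg] at this
    rw [← this, inv_mul_cancel_right]
  let f : DihedralGroup p →* G := MonoidHom.mk'
    (fun d => match d with
      | .r i => zp z i
      | .sr i => c * zp z i) (by
    rintro (i | i) (j | j)
    · exact zp_add hz i j
    · show c * zp z (j - i) = zp z i * (c * zp z j)
      rw [← mul_assoc, h1, mul_assoc, ← zp_add hz, neg_add_eq_sub]
    · show c * zp z (i + j) = c * zp z i * zp z j
      rw [mul_assoc, zp_add hz]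
    · show zp z (j - i) = c * zp z i * (c * zp z j)
      rw [← mul_assoc, mul_assoc c, h1, ← mul_assoc, hc, one_mul, ← zp_add hz, neg_add_eq_sub])
  let lam : DihedralGroup p →* ℂ :=
    { toFun := fun d => match d with
        | .r _ => 1
        | .sr _ => s
      map_one' := rfl
      map_mul' := by
        rintro (i | i) (j | j)
        · exact (one_mul 1).symm
        · exact (one_mul s).symm
        · exact (mul_one s).symm
        · exact hs.symm }
  obtain ⟨m, hm⟩ := char_sum_hom_nat f lam hψ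
  refine ⟨m, ?_⟩
  rw [DihedralGroup.nat_card, ← DihedralGroup.equivSum.symm.sum_comp, Fintype.sum_sum_type] at hm
  have h2 : (2 : ZMod p) ≠ 0 := by
    intro h
    have h3 : ((2 : ℕ) : ZMod p) = 0 := by exact_mod_cast h
    rw [ZMod.natCast_eq_zero_iff, Nat.prime_dvd_prime_iff_eq hp.out Nat.prime_two] at h3
    exact hp2 h3
  have h3 : ∀ a : ZMod p, ψ (c * zp z a) = ψ c := fun a => by
    have : NeZero (2 : ZMod p) := ⟨h2⟩
    rw [← char_isClassFunction hψ c (zp z (-(a / 2))), h1, neg_neg, ← zp_neg hz, neg_neg,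
      mul_assoc, ← zp_add hz, add_halves]
  have h4 : ∑ a : ZMod p, 1 * ψ (zp z a) + ∑ a : ZMod p, s * ψ (c * zp z a) =
    ((2 * p : ℕ) : ℂ) * m := hm
  simp only [h3, one_mul, Finset.sum_const, Finset.card_univ, ZMod.card, nsmul_eq_mul] at h4
  rw [sum_eq_add_sum_units, zp_zero, ← char_cast_deg hψ] at h4
  push_cast at h4
  rw [uu]
  linear_combination h4

theorem exists_inverting (hz : orderOf z = p) (hK : D.K = ⊥) (hp2 : p ≠ 2)
    (he : 2 ∣ Nat.card D.H) : ∃ c : G, c * c = 1 ∧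
      ∀ a : ZMod p, c * zp z a * c⁻¹ = zp z (-a) := by
  have h1 : (-1 : (ZMod p)ˣ) ∈ D.H :=
    mem_of_pow_card_eq_one _ ((even_iff_two_dvd.mpr he).neg_one_pow)
  obtain ⟨c, hc⟩ := isConj_iff.mp ((D.mem_H _).mp h1)
  have h2 : ∀ a : ZMod p, c * zp z a * c⁻¹ = zp z (-a) := fun a => by
    rw [conj_zp hz (h := -1) hc, neg_one_mul]
  refine ⟨c, ?_, h2⟩
  have h3 : c * c ∈ zpowers z := by
    rw [← centralizer_eq_of_K D hz hK, mem_centralizer_singleton_iff]
    have h4 : c * (c * zp z (1 : ZMod p) * c⁻¹) * c⁻¹ = zp z (1 : ZMod p) := by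
      rw [h2, h2, neg_neg]
    rw [zp_one hz] at h4
    calc c * c * z = c * (c * z * c⁻¹) * c⁻¹ * (c * c) := by group
      _ = _ := by rw [h4]
  obtain ⟨a, ha⟩ := exists_zp_of_mem hz h3
  have h4 : zp z (-a) = zp z a := by rw [← h2, ha]; group
  have h5 : (2 : ZMod p) ≠ 0 := by
    intro h
    have h3 : ((2 : ℕ) : ZMod p) = 0 := by exact_mod_cast h
    rw [ZMod.natCast_eq_zero_iff, Nat.prime_dvd_prime_iff_eq hp.out Nat.prime_two] at h3
    exact hp2 h3
  have h6 : a = 0 := by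
    have := zp_injective hz h4
    exact (mul_eq_zero.mp (show 2 * a = 0 by linear_combination -this)).resolve_left h5
  rw [← ha, h6, zp_zero]

/-- The exterior square of an exceptional character of degree `p - e` is constant on `P#`. -/
theorem eta_sq_add (hperf : _root_.commutator G = ⊤) (hz : orderOf z = p) (hK : D.K = ⊥)
    (he : 4 ∣ Nat.card D.H) (hε : D.ε = 1)
    (hx : deg (D.θ 1 : G → ℂ) + Nat.card D.H = p) :
    ∃ k : ℤ, (∀ j : (ZMod p)ˣ, eta D.H j ^ 2 + eta D.H (2 * j) = 2 * k) ∧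
      (Nat.card D.H : ℤ) * (D.H.index - 1) = 2 * k * D.H.index := by
  have := Fintype.ofFinite G
  have het := card_mul_index_add_one D
  have hp2 : p ≠ 2 := fun h => by
    have := Nat.le_of_dvd (card_H_pos D) he
    have := irr_deg_pos (D.θ 1).2
    omega
  have hp0 : (p : ℂ) ≠ 0 := cast_p_ne_zero
  obtain ⟨c, hc, hcz⟩ := exists_inverting D hz hK hp2 (Dvd.dvd.trans (by norm_num) he)
  have h2 : (2 : ZMod p) ≠ 0 := by
    intro h
    have h3 : ((2 : ℕ) : ZMod p) = 0 := by exact_mod_cast h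
    rw [ZMod.natCast_eq_zero_iff, Nat.prime_dvd_prime_iff_eq hp.out Nat.prime_two] at h3
    exact hp2 h3
  have hcp : ¬ p ∣ orderOf c := fun h => hp2 ((Nat.prime_dvd_prime_iff_eq hp.out
    Nat.prime_two).mp (h.trans (orderOf_dvd_of_pow_eq_one (by rw [pow_two, hc]))))
  have hxc : (deg (D.θ 1 : G → ℂ) : ℂ) + Nat.card D.H = p := by exact_mod_cast hx
  have hθ := irr_isCharacter (D.θ 1).2
  have hc1 : (D.θ 1 : G → ℂ) c = 1 := by
    obtain ⟨m₁, h₁⟩ := char_dihedral hz hp2 hc hcz hθ (s := 1) (by norm_num)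
    obtain ⟨m₂, h₂⟩ := char_dihedral hz hp2 hc hcz hθ (s := -1) (by norm_num)
    obtain ⟨k, hk⟩ := char_invol_of_perfect hperf hθ hc
    rw [uu_θ, hε] at h₁ h₂
    push_cast at h₁ h₂
    have e1 : (D.θ 1 : G → ℂ) c = 2 * m₁ - 1 :=
      mul_left_cancel₀ hp0 (by linear_combination h₁ - hxc)
    have e2 : (m₁ : ℂ) + m₂ = 1 :=
      mul_left_cancel₀ hp0 (by linear_combination (-1 / 2 : ℂ) * (h₁ + h₂) + hxc)
    have e3 : (2 * m₁ + 4 * k : ℂ) = deg (D.θ 1 : G → ℂ) + 1 := by linear_combination hk - e1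
    have e4 : m₁ + m₂ = 1 := by exact_mod_cast e2
    have e5 : 2 * m₁ + 4 * k = deg (D.θ 1 : G → ℂ) + 1 := by exact_mod_cast e3
    have e6 : 4 ∣ Nat.card D.H * D.H.index := he.mul_right _
    have e7 : m₁ = 1 := by omega
    rw [e1, e7]
    norm_num
  have hneg : ∀ j : ZMod p, eta D.H (-j) = eta D.H j := fun j => by
    have h1 : (-1 : (ZMod p)ˣ) ∈ D.H := mem_of_pow_card_eq_one _
      ((even_iff_two_dvd.mpr (Dvd.dvd.trans (by norm_num) he)).neg_one_pow)
    simpa using eta_mul_left D.H h1 j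
  have hval : ∀ j : (ZMod p)ˣ, altSq (D.θ 1 : G → ℂ) (zp z (j : ZMod p)) =
      (eta D.H j ^ 2 + eta D.H (2 * j)) / 2 := fun j => by
    rw [altSq_apply, ← zp_add hz, ← two_mul, θ_zp D 1 j.ne_zero,
      θ_zp D 1 (mul_ne_zero h2 j.ne_zero), hε]
    simp
  have hsum : ∑ j : (ZMod p)ˣ, (eta D.H j ^ 2 + eta D.H (2 * j)) =
      Nat.card D.H * (p - Nat.card D.H) - Nat.card D.H := by
    have e1 := sum_eta_mul_neg D.H 1
    have e2 := sum_units_eta D.H h2
    simp only [Units.val_one, one_mul, hneg, ← pow_two] at e1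
    simp only [mul_comm _ (2 : ZMod p)] at e2
    rw [Finset.sum_add_distrib, e1, e2]
    ring
  obtain ⟨n, -, hn⟩ := char_exists_eq_sum (char_altSq hθ)
  choose m hm using fun χ : IrrCharacter G =>
    char_dihedral hz hp2 hc hcz (irr_isCharacter χ.2) (s := 1) (by norm_num)
  have hL : ∑ χ, n χ * m χ = 0 := by
    have e1 : altSq (D.θ 1 : G → ℂ) 1 + uu p z (altSq (D.θ 1 : G → ℂ)) +
        p * altSq (D.θ 1 : G → ℂ) c = 0 := by
      rw [uu, Finset.sum_congr rfl fun j _ => hval j, ← Finset.sum_div, hsum, altSq_apply,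
        altSq_apply, hc, mul_one, hc1, ← irr_cast_deg (D.θ 1).2, ← hxc]
      ring
    rw [hn, uu_sum] at e1
    simp only [Finset.sum_apply, Pi.smul_apply, smul_eq_mul, Finset.mul_sum,
      ← Finset.sum_add_distrib] at e1
    have e2 : (2 * p : ℂ) * ((∑ χ, n χ * m χ : ℕ) : ℂ) = 0 := by
      rw [← e1, Nat.cast_sum, Finset.mul_sum]
      refine Finset.sum_congr rfl fun χ _ => ?_
      have := hm χ
      rw [irr_cast_deg χ.2] at this
      push_cast
      linear_combination -(n χ : ℂ) * this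
    exact_mod_cast (mul_eq_zero.mp e2).resolve_left (mul_ne_zero two_ne_zero hp0)
  have hn0 : ∀ χ ∈ Th D, n χ = 0 := fun χ hχ => by
    obtain ⟨a, rfl⟩ := (mem_Th D).mp hχ
    have e1 := hm (D.θ a)
    rw [uu_θ, hε, deg_θ_eq, θ_eq_of_reg D a 1 hcp, hc1] at e1
    push_cast at e1
    have e2 : (m (D.θ a) : ℂ) = 1 :=
      mul_left_cancel₀ hp0 (by linear_combination (-1 / 2 : ℂ) * e1 + (1 / 2 : ℂ) * hxc)
    have e3 := Finset.sum_eq_zero_iff.mp hL _ (Finset.mem_univ (D.θ a))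
    rwa [show m (D.θ a) = 1 by exact_mod_cast e2, mul_one] at e3
  have hk : ∀ j : (ZMod p)ˣ, eta D.H j ^ 2 + eta D.H (2 * j) =
      2 * ((∑ χ ∈ D.A, n χ * D.δ χ : ℤ) : ℂ) := fun j => by
    have e1 := hval j
    rw [hn, Finset.sum_apply, sum_split D,
      Finset.sum_eq_zero (s := Th D) fun χ hχ => by simp [hn0 χ hχ],
      Finset.sum_eq_zero (s := Oth D) fun χ hχ => by simp [Oth_zp D hK hχ j.ne_zero],
      Finset.sum_congr (s₁ := D.A) rfl (g := fun χ => (n χ : ℂ) * D.δ χ) fun χ hχ => by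
        simp [A_zp D hz hχ j.ne_zero]] at e1
    push_cast
    linear_combination -2 * e1
  refine ⟨_, hk, ?_⟩
  rw [Finset.sum_congr rfl fun j _ => hk j, Finset.sum_const, Finset.card_univ, nsmul_eq_mul,
    card_units_cast] at hsum
  generalize (∑ χ ∈ D.A, n χ * D.δ χ : ℤ) = k at *
  have e1 : ((Nat.card D.H : ℂ) * D.H.index + 1) = p := by exact_mod_cast het
  have e2 : (Nat.card D.H : ℂ) ≠ 0 := Nat.cast_ne_zero.mpr (card_H_pos D).ne'
  refine Int.cast_injective (α := ℂ) (mul_left_cancel₀ e2 ?_)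
  push_cast
  linear_combination -hsum + (Nat.card D.H - 2 * k : ℂ) * e1

end dihedral

theorem θ_eq_of_eta_eq (hz : orderOf z = p) (hP : ¬ p ^ 2 ∣ Nat.card G) {a b : (ZMod p)ˣ}
    (h : eta D.H a = eta D.H b) : D.θ a = D.θ b := by
  refine Subtype.ext (funext fun g => ?_)
  by_cases hg : p ∣ orderOf g
  · obtain ⟨x, j, y, hj, hy, hy', h1⟩ := exists_conj_eq_zp_mul hz hP hg
    have h2 : y ∈ D.K := (D.mem_K y).mpr ⟨hy, hy'⟩
    rw [← irr_isClassFunction (D.θ a).2 g x, ← irr_isClassFunction (D.θ b).2 g x, h1,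
      θ_zp_mul D a hj h2, θ_zp_mul D b hj h2]
    exact congrArg _ (eta_mul_eq_of_eq D.H h (Units.mk0 j hj))
  · exact θ_eq_of_reg D a b hg

theorem two_pow_le_aux (f : ℕ) (hf : 1 ≤ f) : 2 * f ≤ 2 ^ f := by
  induction f, hf using Nat.le_induction with
  | base => norm_num
  | succ k hk ih => rw [pow_succ]; omega

theorem index_eq_two (hperf : _root_.commutator G = ⊤) (hz : orderOf z = p)
    (hP : ¬ p ^ 2 ∣ Nat.card G) (hK : D.K = ⊥) {f : ℕ} (hf : 2 ≤ f) (he : Nat.card D.H = 2 ^ f)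
    (hε : D.ε = 1) (hx : deg (D.θ 1 : G → ℂ) + Nat.card D.H = p) (ht : 2 ≤ D.H.index) :
    D.H.index = 2 := by
  obtain ⟨k, hk, hk'⟩ := eta_sq_add D hperf hz hK (he ▸ pow_dvd_pow 2 hf) hε hx
  have het := card_mul_index_add_one D
  obtain ⟨t, ht'⟩ : ∃ t, D.H.index = t + 1 := ⟨D.H.index - 1, by omega⟩
  have h1 : 2 * (t + 1) ∣ 2 ^ f * t := by
    rw [← Int.natCast_dvd_natCast]
    refine ⟨k, ?_⟩
    rw [he, ht'] at hk'
    push_cast at hk' ⊢
    linear_combination hk'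
  have h2 : t + 1 ∣ 2 ^ f :=
    (show Nat.Coprime (t + 1) t by simp).dvd_of_dvd_mul_right ((dvd_mul_left _ 2).trans h1)
  obtain ⟨g, -, hg⟩ := (Nat.dvd_prime_pow Nat.prime_two).mp h2
  have hg1 : 1 ≤ g := Nat.pos_of_ne_zero fun h0 => by rw [h0] at hg; omega
  have h3 : 2 ^ (g + 1) ∣ 2 ^ f := by
    rw [hg, ← pow_succ'] at h1
    refine (Nat.Coprime.pow_left _ ?_).dvd_of_dvd_mul_right h1
    rw [Nat.coprime_two_left, ← Nat.not_even_iff_odd, ← Nat.even_add_one, hg]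
    exact (even_two.pow_of_ne_zero (by omega))
  have h4 : g + 1 ≤ f := (Nat.pow_dvd_pow_iff_le_right one_lt_two).mp h3
  have hpe : 2 ^ (f + g) + 1 = p := by rw [pow_add, ← he, ← hg, ← ht', het]
  have h5 : (2 : ZMod p) ^ (f + g) = -1 := by
    have : ((2 ^ (f + g) + 1 : ℕ) : ZMod p) = 0 := by rw [hpe, ZMod.natCast_self]
    push_cast at this
    linear_combination this
  have h6 : (2 : ZMod p) ≠ 0 := fun h0 => by
    rw [h0, zero_pow (by omega)] at h5
    exact one_ne_zero (neg_eq_zero.mp h5.symm)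
  have h7 : Units.mk0 2 h6 ∈ D.H := by
    refine mem_of_pow_card_eq_one _ ?_
    have e1 : orderOf (Units.mk0 (2 : ZMod p) h6) ∣ 2 ^ (f + g) := by
      have := orderOf_dvd_card (x := Units.mk0 (2 : ZMod p) h6)
      rwa [ZMod.card_units, show p - 1 = 2 ^ (f + g) by omega] at this
    obtain ⟨j, -, hj⟩ := (Nat.dvd_prime_pow Nat.prime_two).mp e1
    have e2 : orderOf (Units.mk0 (2 : ZMod p) h6) ∣ (f + g) * 2 :=
      orderOf_dvd_of_pow_eq_one (Units.ext (by simp [pow_mul, h5]))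
    have e3 := Nat.le_of_dvd (by omega) e2
    refine orderOf_dvd_iff_pow_eq_one.mp ?_
    rw [hj, he]
    refine pow_dvd_pow 2 (not_lt.mp fun h => ?_)
    have e4 := Nat.pow_le_pow_right two_pos (show f + 1 ≤ j from h)
    have e5 := two_pow_le_aux f (by omega)
    rw [pow_succ] at e4
    omega
  have h8 : ∀ j : (ZMod p)ˣ, eta D.H j ^ 2 + eta D.H j = 2 * k := fun j => by
    rw [← hk j]
    congr 1
    exact (eta_mul_left D.H h7 j).symm
  by_contra hne
  obtain ⟨_, _, _, ha, hb, hc, hab, hac, hbc⟩ :=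
    Finset.two_lt_card_iff.mp (show 2 < (Th D).card by rw [card_Th]; omega)
  obtain ⟨a, rfl⟩ := (mem_Th D).mp ha
  obtain ⟨b, rfl⟩ := (mem_Th D).mp hb
  obtain ⟨c, rfl⟩ := (mem_Th D).mp hc
  have h9 : ∀ a b : (ZMod p)ˣ, D.θ a ≠ D.θ b → eta D.H a + eta D.H b + 1 = 0 := fun a b h =>
    (mul_eq_zero.mp (show (eta D.H a - eta D.H b) * (eta D.H a + eta D.H b + 1) = 0 by
      linear_combination h8 a - h8 b)).resolve_left fun h0 =>
        h (θ_eq_of_eta_eq D hz hP (sub_eq_zero.mp h0))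
  exact hbc (θ_eq_of_eta_eq D hz hP (by linear_combination h9 a b hab - h9 a c hac))

end CL.BT
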