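import Cfsg.Agent.Base
import Cfsg.Agent.Small.BTBlock
import Cfsg.Agent.Small.SimpleEmbed
import Cfsg.Agent.Small.Count

/-! The character-theoretic part of the Brauer–Tuan theorem on simple groups of order
`p q^b g₀`, `g₀ < p - 1`. -/

set_option autoImplicit false

open Cfsg CL.Char CL.D1 Subgroup

namespace CL.BT

theorem tuan_num_neg {p e t a b U V S T : ℕ} (het : e * t + 1 = p) (he : 2 ≤ e) (ht : 2 ≤ t)
    (heab : e = 1 + a + b) (hS : S = (U + a) * p + a) (hT : T + b = (V + b) * p)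
    (hdeg : 1 + S = T + e) (hSle : 1 + S ≤ e ^ 2) :
    t = 2 ∧ U = 0 ∧ V = 0 ∧ a = b := by
  have h1 : U + a = V + b := by
    refine Nat.eq_of_mul_eq_mul_right (show 0 < p by omega) ?_
    omega
  have h2 : 2 * e + 1 ≤ p := by nlinarith
  have h3 : 2 * (U + a) < e := by
    by_contra h4
    have h5 := Nat.mul_le_mul (not_lt.mp h4) h2
    nlinarith
  have h4 : U = 0 := by omega
  have h5 : V = 0 := by omega
  have h6 : a = b := by omega
  refine ⟨?_, h4, h5, h6⟩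
  subst h4 h5 h6 het hS
  by_contra h7
  have h8 : 3 ≤ t := by omega
  have h9 := Nat.mul_le_mul_left (a * e) h8
  have h10 : 1 ≤ a := by omega
  nlinarith

theorem tuan_num_pos {p e a b U V S T : ℕ} (het : e * 2 + 1 = p) (he : 4 ≤ e)
    (heab : e = 1 + a + b) (hS : S = (U + a) * p + a) (hT : T + b = (V + b) * p)
    (hdeg : 1 + S + (e + 1) = T) (hTle : T ≤ (e + 1) ^ 2) : V < b := by
  by_contra h
  have h1 : 2 * a < e := by
    by_contra h2
    subst het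
    nlinarith [Nat.mul_le_mul_right (e + 1) (not_lt.mp h2), Nat.zero_le (U * (e * 2 + 1))]
  have h2 : e ≤ 2 * b + 1 := by omega
  have h3 := Nat.mul_le_mul_right p (Nat.add_le_add_right (not_lt.mp h) b)
  subst het
  nlinarith [Nat.mul_le_mul_right (4 * e + 1) h2]

theorem tuan_num1 {p N x y : ℕ} (h1 : 2 * N = y * x) (hs : x + 2 = p) (h6 : y ≤ 1 + 0 + x) :
    2 * N < (p + 1) * (p + 2) := by
  have := Nat.mul_le_mul_right x h6
  subst hs
  nlinarith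

theorem tuan_num2 {p N e y : ℕ} (h1 : e * N = y * (e + 1)) (het : e * 2 + 1 = p) (he : 4 ≤ e)
    (h6 : y ≤ (e + 1) ^ 2) : 2 * N < (p + 1) * (p + 2) := by
  have e6 := Nat.mul_le_mul_right (e + 1) h6
  refine Nat.lt_of_mul_lt_mul_left (a := e) ?_
  subst het
  nlinarith

theorem tuan_num3 {p N e : ℕ} (het : e * 2 + 1 = p) (h6 : N ≤ e ^ 2) :
    2 * N < (p + 1) * (p + 2) := by
  subst het
  nlinarith

variable {G : Type*} [Group G] [Finite G] {p : ℕ} [hp : Fact p.Prime] {z : G} (D : Data G p z)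

theorem exists_sum_Ap (hperf : _root_.commutator G = ⊤) (hz : orderOf z = p) :
    ∃ U : ℕ, ∑ χ ∈ Ap D, deg (χ : G → ℂ) = (U + (Ap D).card) * p + (Ap D).card ∧
      (U = 0 → ∀ χ ∈ Ap D, deg (χ : G → ℂ) = p + 1) := by
  choose! u hu using fun χ => deg_Ap D hperf hz (χ := χ)
  refine ⟨∑ χ ∈ Ap D, u χ, ?_, fun h χ hχ => ?_⟩
  · rw [Finset.sum_congr rfl hu, Finset.sum_add_distrib, ← Finset.sum_mul, Finset.sum_add_distrib]
    simp
  · rw [hu χ hχ, Finset.sum_eq_zero_iff.mp h χ hχ, zero_add, one_mul]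

theorem exists_sum_Am (hz : orderOf z = p) :
    ∃ V : ℕ, ∑ χ ∈ Am D, deg (χ : G → ℂ) + (Am D).card = (V + (Am D).card) * p ∧
      (V < (Am D).card → ∃ χ ∈ Am D, deg (χ : G → ℂ) + 1 = p) := by
  choose! v hv using fun χ => deg_Am D hz (χ := χ)
  refine ⟨∑ χ ∈ Am D, v χ, ?_, fun h => ?_⟩
  · rw [Finset.card_eq_sum_ones, ← Finset.sum_add_distrib, Finset.sum_congr rfl hv,
      ← Finset.sum_mul, Finset.sum_add_distrib]
  · rw [Finset.card_eq_sum_ones] at h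
    obtain ⟨χ, hχ, h1⟩ := Finset.exists_lt_of_sum_lt h
    exact ⟨χ, hχ, by rw [hv χ hχ, Nat.lt_one_iff.mp h1, zero_add, one_mul]⟩

theorem tuan_pos (hperf : _root_.commutator G = ⊤) (hz : orderOf z = p)
    (hP : ¬ p ^ 2 ∣ Nat.card G) (hK : D.K = ⊥) {q b g₀ : ℕ} (hq : q.Prime) (hg : g₀ + 1 < p)
    (hg0 : 0 < g₀) (h1 : Nat.card D.H * Nat.card (Sylow p G) = q ^ b * g₀)
    (hx : deg (D.θ 1 : G → ℂ) ∣ g₀)
    (key : ∀ χ ∈ D.A, χ ≠ irrOne G → ∀ k, deg (χ : G → ℂ) = q ^ k → ∃ R ⊆ D.A, irrOne G ∉ R ∧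
      χ ∈ R ∧ ((q ^ b : ℕ) : ℤ) ≤ |∑ χ ∈ R, D.δ χ * deg (χ : G → ℂ)|)
    (hq1 : (q : ℤ) ∣ 1 + D.ε * deg (D.θ 1 : G → ℂ)) (hε : D.ε = 1) :
    2 * Nat.card (Sylow p G) < (p + 1) * (p + 2) ∧ ∃ m, p = 2 ^ m + 1 ∨ p = 2 ^ m - 1 := by
  have hidx := index_centralizer_eq D hz hP
  have hxle := Nat.le_of_dvd hg0 hx
  have he := two_le_card_H D hperf
  have het := card_mul_index_add_one D
  have heab := card_H_eq D
  have hdeg := degree_eq' D
  have key' : 2 ≤ D.H.index → ∀ χ ∈ D.A, χ ≠ irrOne G → ∀ k, deg (χ : G → ℂ) = q ^ k →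
      q ^ b ≤ deg (D.θ 1 : G → ℂ) ^ 2 := fun ht χ h0 h1 k hk => by
    obtain ⟨R, hR, -, -, h3⟩ := key χ h0 h1 k hk
    exact_mod_cast h3.trans (abs_sum_δ_deg_le D ht hR)
  obtain ⟨U, hU, hU'⟩ := exists_sum_Ap D hperf hz
  obtain ⟨V, hV, hV'⟩ := exists_sum_Am D hz
  have ht0 : 0 < D.H.index := Nat.pos_of_ne_zero index_ne_zero_of_finite
  obtain ⟨s, hs⟩ := deg_θ_pos D hz hε
  have h3 := Nat.le_mul_of_pos_right (Nat.card D.H) ht0
  have hs0 : s = 0 := by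
    by_contra h
    have := Nat.mul_le_mul_right p (show 2 ≤ s + 1 by omega)
    omega
  rw [hs0, zero_add, one_mul] at hs
  have ht : 2 ≤ D.H.index := by
    by_contra h
    rw [show D.H.index = 1 by omega] at het
    exact θ_ne_one D 1 (irr_eq_irrOne_of_deg hperf (by omega))
  have h4 := Nat.mul_le_mul_left (Nat.card D.H) ht
  have hgx : g₀ = deg (D.θ 1 : G → ℂ) := by
    obtain ⟨m, hm⟩ := hx
    obtain _ | _ | m := m
    · omega
    · omega
    · have := Nat.mul_le_mul_left (deg (D.θ 1 : G → ℂ)) (show 2 ≤ m + 1 + 1 by omega)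
      omega
  have h5 : Nat.Coprime (Nat.card D.H) (deg (D.θ 1 : G → ℂ)) := by
    rw [← Nat.coprime_add_self_right, hs]
    exact ((Nat.Prime.coprime_iff_not_dvd hp.out).mpr
      (Nat.not_dvd_of_pos_of_lt (by omega) (by omega))).symm
  rw [hgx] at h1
  obtain ⟨f, -, hf⟩ := (Nat.dvd_prime_pow hq).mp (h5.dvd_of_dvd_mul_right ⟨_, h1.symm⟩)
  have hf0 : f ≠ 0 := fun h => by rw [h, pow_zero] at hf; omega
  have hq2 : q = 2 := by
    have e1 : q ∣ Nat.card D.H := hf ▸ dvd_pow_self q hf0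
    rw [hε, one_mul] at hq1
    have e2 : q ∣ 1 + deg (D.θ 1 : G → ℂ) := by exact_mod_cast hq1
    have e3 : 1 + deg (D.θ 1 : G → ℂ) + Nat.card D.H = Nat.card D.H * D.H.index + 2 := by omega
    have e4 := e2.add e1
    rw [e3, Nat.dvd_add_right (e1.mul_right _)] at e4
    exact (Nat.prime_dvd_prime_iff_eq hq Nat.prime_two).mp e4
  subst hq2
  rw [hε, one_mul] at hdeg
  have hdeg' : 1 + ∑ χ ∈ Ap D, deg (χ : G → ℂ) + deg (D.θ 1 : G → ℂ) =
    ∑ χ ∈ Am D, deg (χ : G → ℂ) := by exact_mod_cast hdeg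
  by_cases hf1 : f = 1
  · rw [hf1, pow_one] at hf
    have e1 : (Am D).card ≠ 0 := fun h => by
      rw [Finset.card_eq_zero.mp h, Finset.sum_empty] at hdeg'
      omega
    obtain ⟨χ, hχ⟩ := Finset.card_eq_one.mp (show (Am D).card = 1 by omega)
    have e2 : Ap D = ∅ := Finset.card_eq_zero.mp (by omega)
    rw [e2, hχ, Finset.sum_empty, Finset.sum_singleton] at hdeg'
    have e3 : χ ∈ Am D := hχ ▸ Finset.mem_singleton_self χ
    have e4 := deg_A_dvd D hz ((mem_Am D).mp e3).1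
    rw [hidx, h1, ← hdeg'] at e4
    obtain ⟨m, -, hm⟩ := (Nat.dvd_prime_pow hq).mp
      ((show Nat.Coprime (1 + 0 + deg (D.θ 1 : G → ℂ)) _ by simp).dvd_of_dvd_mul_right e4)
    obtain ⟨R, hR, hR1, hR2, h6⟩ := key χ ((mem_Am D).mp e3).1 (ne_one_of_mem_Am D e3) m
      (hdeg' ▸ hm)
    have e5 : R = {χ} := Finset.eq_singleton_iff_unique_mem.mpr ⟨hR2, fun ψ hψ => by
      rcases D.δ_sign ψ (hR hψ) with h | h
      · have : ψ ∈ Ap D := (mem_Ap D).mpr ⟨hR hψ, h, fun h' => hR1 (h' ▸ hψ)⟩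
        simp [e2] at this
      · have : ψ ∈ Am D := (mem_Am D).mpr ⟨hR hψ, h⟩
        simpa [hχ] using this⟩
    rw [e5, Finset.sum_singleton, ((mem_Am D).mp e3).2, neg_one_mul, abs_neg, Nat.abs_cast,
      Nat.cast_le, ← hdeg'] at h6
    refine ⟨?_, m, Or.inl (by omega)⟩
    rw [hf] at h1 hs
    exact tuan_num1 h1 hs h6
  · have ht2 := index_eq_two D hperf hz hP hK (by omega) hf hε hs ht
    have e1 : 4 ≤ Nat.card D.H := hf ▸ Nat.pow_le_pow_right two_pos (show 2 ≤ f by omega)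
    have e2 : deg (D.θ 1 : G → ℂ) = Nat.card D.H + 1 := by rw [ht2] at het; omega
    have e3 := sum_Am_le D ht
    rw [e2] at hdeg' e3
    rw [ht2] at het
    obtain ⟨χ, hχ, e4⟩ := hV' (tuan_num_pos het e1 heab hU hV hdeg' e3)
    have e5 := key' ht χ ((mem_Am D).mp hχ).1 (ne_one_of_mem_Am D hχ) (f + 1)
      (by rw [pow_succ, ← hf]; omega)
    refine ⟨?_, f + 1, Or.inl (by rw [pow_succ, ← hf]; omega)⟩
    rw [e2] at e5 h1
    exact tuan_num2 h1 het e1 e5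

theorem tuan_neg (hperf : _root_.commutator G = ⊤) (hz : orderOf z = p)
    (hP : ¬ p ^ 2 ∣ Nat.card G) (hK : D.K = ⊥) {q b g₀ : ℕ} (hq : q.Prime) (hg : g₀ + 1 < p)
    (hg0 : 0 < g₀) (h1 : Nat.card D.H * Nat.card (Sylow p G) = q ^ b * g₀)
    (hx : deg (D.θ 1 : G → ℂ) ∣ g₀)
    (key : ∀ χ ∈ D.A, χ ≠ irrOne G → ∀ k, deg (χ : G → ℂ) = q ^ k → ∃ R ⊆ D.A, irrOne G ∉ R ∧
      χ ∈ R ∧ ((q ^ b : ℕ) : ℤ) ≤ |∑ χ ∈ R, D.δ χ * deg (χ : G → ℂ)|)
    (hAp : ∀ χ ∈ Ap D, q ∣ deg (χ : G → ℂ)) (hAm : ∀ χ ∈ Am D, q ∣ deg (χ : G → ℂ))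
    (hε : D.ε = -1) :
    2 * Nat.card (Sylow p G) < (p + 1) * (p + 2) ∧ ∃ m, p = 2 ^ m + 1 ∨ p = 2 ^ m - 1 := by
  have hidx := index_centralizer_eq D hz hP
  have hxle := Nat.le_of_dvd hg0 hx
  have he := two_le_card_H D hperf
  have het := card_mul_index_add_one D
  have heab := card_H_eq D
  have hdeg := degree_eq' D
  have key' : 2 ≤ D.H.index → ∀ χ ∈ D.A, χ ≠ irrOne G → ∀ k, deg (χ : G → ℂ) = q ^ k →
      q ^ b ≤ deg (D.θ 1 : G → ℂ) ^ 2 := fun ht χ h0 h1 k hk => by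
    obtain ⟨R, hR, -, -, h3⟩ := key χ h0 h1 k hk
    exact_mod_cast h3.trans (abs_sum_δ_deg_le D ht hR)
  obtain ⟨U, hU, hU'⟩ := exists_sum_Ap D hperf hz
  obtain ⟨V, hV, hV'⟩ := exists_sum_Am D hz
  have ht0 : 0 < D.H.index := Nat.pos_of_ne_zero index_ne_zero_of_finite
  obtain ⟨s, hs⟩ := deg_θ_neg D hz hε
  have hs0 : s = 0 := by
    by_contra h
    have := Nat.mul_le_mul_right p (show 1 ≤ s by omega)
    omega
  rw [hs0, zero_mul, zero_add] at hs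
  have ht : 2 ≤ D.H.index := by
    by_contra h
    rw [show D.H.index = 1 by omega] at het
    omega
  rw [hε] at hdeg
  have e1 := sum_Ap_le D ht
  rw [hs] at e1 hdeg hx hxle
  obtain ⟨ht2, hU0, hV0, hab⟩ := tuan_num_neg het he ht heab hU hV (by omega) e1
  rw [ht2] at het
  obtain ⟨χ, hχ⟩ := Finset.card_pos.mp (show 0 < (Ap D).card by omega)
  obtain ⟨ψ, hψ, e2⟩ := hV' (by omega)
  have e3 := hU' hU0 χ hχ
  have hq2 : q = 2 := by
    have e4 := hAp χ hχ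
    rw [e3, ← e2, add_assoc, Nat.dvd_add_right (hAm ψ hψ)] at e4
    exact (Nat.prime_dvd_prime_iff_eq hq Nat.prime_two).mp e4
  subst hq2
  have hgx : g₀ = Nat.card D.H := by
    obtain ⟨m, hm⟩ := hx
    obtain _ | _ | m := m
    · omega
    · omega
    · have := Nat.mul_le_mul_left (Nat.card D.H) (show 2 ≤ m + 1 + 1 by omega)
      omega
  have e4 := deg_A_dvd D hz ((mem_Ap D).mp hχ).1
  rw [hidx, h1, hgx, e3] at e4
  have e5 : Nat.Coprime (p + 1) (Nat.card D.H) := by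
    rw [show p + 1 = 2 + Nat.card D.H * 2 by omega, Nat.coprime_add_mul_left_left,
      Nat.coprime_two_left]
    exact ⟨(Ap D).card, by omega⟩
  obtain ⟨m, -, hm⟩ := (Nat.dvd_prime_pow hq).mp (e5.dvd_of_dvd_mul_right e4)
  have e6 := key' ht χ ((mem_Ap D).mp hχ).1 ((mem_Ap D).mp hχ).2.2 m (e3.trans hm)
  refine ⟨?_, m, Or.inr (by omega)⟩
  rw [hgx, mul_comm] at h1
  rw [← Nat.eq_of_mul_eq_mul_right (by omega) h1, hs] at e6
  exact tuan_num3 het e6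

include D in
theorem tuan_main [IsSimpleGroup G] (hnc : ¬ IsMulCommutative G) (hz : orderOf z = p)
    {q b g₀ : ℕ} (hq : q.Prime) (hpq : p ≠ q) (hG : Nat.card G = p * q ^ b * g₀)
    (hg : g₀ + 1 < p) (hqg : ¬ q ∣ g₀) (hP : ¬ p ^ 2 ∣ Nat.card G) :
    centralizer ({z} : Set G) = zpowers z ∧ 2 * Nat.card (Sylow p G) < (p + 1) * (p + 2) ∧
      ∃ m, p = 2 ^ m + 1 ∨ p = 2 ^ m - 1 := by
  have := Fact.mk hq
  have hperf := CL.Small.commutator_eq_top_of_simple hnc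
  have hg0 : 0 < g₀ := Nat.pos_of_ne_zero fun h => hqg (h ▸ dvd_zero q)
  have hcard := card_eq_mul D hz hP
  have hidx := index_centralizer_eq D hz hP
  have h1 : Nat.card D.K * (centralizer ({z} : Set G)).index = q ^ b * g₀ :=
    Nat.eq_of_mul_eq_mul_left hp.out.pos (by rw [hidx, ← mul_assoc, mul_comm p, ← hcard, hG]; ring)
  have h2 : ∀ d, d ∣ (centralizer ({z} : Set G)).index → ¬ q ∣ d → d ∣ g₀ := fun d hd hqd =>
    (((Nat.Prime.coprime_iff_not_dvd hq).mpr hqd).symm.pow_right b).dvd_of_dvd_mul_left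
      (h1 ▸ hd.mul_left _)
  have hAp : ∀ χ ∈ Ap D, q ∣ deg (χ : G → ℂ) := fun χ hχ => by
    by_contra h
    have h3 := Nat.le_of_dvd hg0 (h2 _ (deg_A_dvd D hz ((mem_Ap D).mp hχ).1) h)
    obtain ⟨u, hu⟩ := deg_Ap D hperf hz hχ
    nlinarith
  have hAm : ∀ χ ∈ Am D, q ∣ deg (χ : G → ℂ) := fun χ hχ => by
    by_contra h
    have h3 := Nat.le_of_dvd hg0 (h2 _ (deg_A_dvd D hz ((mem_Am D).mp hχ).1) h)
    obtain ⟨u, hu⟩ := deg_Am D hz hχ
    nlinarith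
  have hA : ∀ χ ∈ D.A, χ ≠ irrOne G → q ∣ deg (χ : G → ℂ) := fun χ hχ h =>
    (D.δ_sign χ hχ).elim (fun h3 => hAp χ ((mem_Ap D).mpr ⟨hχ, h3, h⟩))
      fun h3 => hAm χ ((mem_Am D).mpr ⟨hχ, h3⟩)
  have hdeg := degree_eq' D
  have hq1 : (q : ℤ) ∣ 1 + D.ε * deg (D.θ 1 : G → ℂ) := by
    have e1 := Int.natCast_dvd_natCast.mpr (Finset.dvd_sum hAp)
    have e2 := Int.natCast_dvd_natCast.mpr (Finset.dvd_sum hAm)
    rw [← hdeg, add_right_comm, dvd_add_left e1] at e2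
    exact e2
  have hqx : ¬ q ∣ deg (D.θ 1 : G → ℂ) := fun h => by
    rw [dvd_add_left ((Int.natCast_dvd_natCast.mpr h).mul_left _)] at hq1
    exact hq.ne_one (Nat.dvd_one.mp (by exact_mod_cast hq1))
  have hx := h2 _ (deg_θ_dvd D hz) hqx
  have hxle := Nat.le_of_dvd hg0 hx
  have hK : D.K = ⊥ := eq_bot_of_apply_eq (θ_ne_one D 1) fun y hy => θ_apply_K D hz (by omega) hy
  rw [hK, card_bot, one_mul] at h1
  have he := two_le_card_H D hperf
  have hb : b ≠ 0 := by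
    rintro rfl
    obtain ⟨χ, hχ, h3⟩ := Finset.exists_mem_ne (show 1 < D.A.card by rw [D.card_A]; omega)
      (irrOne G)
    rw [pow_zero, one_mul] at h1
    exact hqg ((hA χ hχ h3).trans (h1 ▸ deg_A_dvd D hz hχ))
  have hqi : q * deg (D.θ 1 : G → ℂ) ∣ (centralizer ({z} : Set G)).index :=
    h1 ▸ mul_dvd_mul (dvd_pow_self q hb) hx
  obtain ⟨S⟩ : Nonempty (Sylow q G) := inferInstance
  have hS : Nat.card S = q ^ b := CL.SG.card_sylow_of_eq S (m := p * g₀) (by rw [hG]; ring) (by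
    rw [hq.dvd_mul, Nat.prime_dvd_prime_iff_eq hq hp.out]
    exact fun h => h.elim (fun h => hpq h.symm) hqg)
  have key := fun (χ : IrrCharacter G) (h0 : χ ∈ D.A) (h1 : χ ≠ irrOne G) (k : ℕ)
    (hk : deg (χ : G → ℂ) = q ^ k) => exists_card_sylow_le D hnc hz hP hK hpq hqi hA h0 h1 hk S
  rw [hidx] at h1
  rw [hS] at key
  refine ⟨centralizer_eq_of_K D hz hK, ?_⟩
  rcases D.ε_sign with hε | hε
  · exact tuan_pos D hperf hz hP hK hq hg hg0 h1 hx key hq1 hε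
  · exact tuan_neg D hperf hz hP hK hq hg hg0 h1 hx key hAp hAm hε

end CL.BT
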